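import Cfsg.Agent.JTwoSimple.Fusion
import Cfsg.Agent.S0222
import Cfsg.Agent.S1137
import Cfsg.Agent.S1141
import Cfsg.Agent.S1175
import Cfsg.Agent.Components.BGN.PSL

/-!
No proper subgroup controls the centraliser of the central involution; hence an odd subgroup generated by the cores
at the centre of `A` is trivial.
-/

set_option autoImplicit false
set_option linter.unusedSectionVars false
set_option linter.style.haveILetI false
set_option synthInstance.maxSize 4096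
set_option synthInstance.maxHeartbeats 400000
set_option maxRecDepth 100000

namespace Cfsg.Lib.JTwoSimple

open Subgroup Equiv Cfsg.Lib.HallJankoType
open Cfsg.Lib.JTwoSyl (Model SC QC ev5 ev7 smul' InZ InU zc ac vc wc one' qa inv' b01)
open Cfsg.Lib.Walter (Oc mem_Oc)
open Cfsg.Lib.LFourType (conj_Oc le_of_four' odd_Oc)

universe u

theorem k_card : (Finset.univ.filter fun t : SC => t.2.1 = false ∧ t.2.2 = false ∧
    smul' t (ac 4) = smul' (ac 4) t).card = 16 ∧ (Finset.univ.filter fun t : SC => InU t).card = 4 := by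
  decide +kernel

theorem k_inU : ∀ x : SC, x.2 = (false, false) → smul' x (ac 4) = smul' (ac 4) x → smul' x x = one' → InU x := by
  decide +kernel

theorem q_sq' : ∀ x : SC, x.2 = (false, false) → InZ (smul' x x) := by decide +kernel

theorem same_class : ∀ x y : SC, x.2 = y.2 → (smul' (inv' x) y).2 = (false, false) := by decide +kernel

theorem four_facts : smul' b01 b01 ≠ one' ∧ smul' (ac 4) (ac 0) ≠ smul' (ac 0) (ac 4) ∧
    smul' (smul' (ac 0) (ac 4)) (ac 4) = ac 0 := by decide +kernel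

theorem three_cycle : ∃ π : Perm (Fin 5), Perm.sign π = 1 ∧ π ≠ 1 ∧ π ^ 3 = 1 := by decide +kernel

namespace Ctx

variable {G : Type u} [Group G] [Finite G] (C : Ctx G)

theorem NA_U {n u : G} (hn : n ∈ normalizer (C.A : Set G)) (hu : u ∈ C.U) : n * u * n⁻¹ ∈ C.U := by
  refine ⟨(mem_normalizer_iff.1 hn u).1 (C.U_le_A hu), mem_centralizer_iff.2 fun x hx => ?_⟩
  have h := mem_centralizer_iff.1 hu.2 _ ((mem_normalizer_iff.1 (inv_mem hn) x).1 hx)
  calc x * (n * u * n⁻¹) = n * ((n⁻¹ * x * n⁻¹⁻¹) * u) * n⁻¹ := by group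
    _ = n * (u * (n⁻¹ * x * n⁻¹⁻¹)) * n⁻¹ := by rw [h]
    _ = n * u * n⁻¹ * x := by group

theorem S_le_NA : (C.S : Subgroup G) ≤ normalizer (C.A : Set G) := by
  intro s hs
  refine Cfsg.Lib.ZStarApps.mem_normalizer_of_maps fun x hx => ?_
  obtain ⟨X, hX, rfl⟩ := C.A_code hx
  obtain ⟨Y, rfl⟩ := C.M.surj s hs
  show C.e Y * C.e X * (C.e Y)⁻¹ ∈ C.A
  refine ⟨(C.S : Subgroup G).mul_mem ((C.S : Subgroup G).mul_mem (C.e_mem Y) (C.e_mem X)) ((C.S : Subgroup G).inv_mem (C.e_mem Y)), mem_centralizer_singleton_iff.2 ?_⟩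
  have hc : Commute (C.e Y * C.e X * (C.e Y)⁻¹) (C.e Y * C.a₄ * (C.e Y)⁻¹) :=
    ((C.M.commute_iff X (ac 4)).2 hX).map (MulAut.conj (C.e Y)).toMonoidHom
  have hU : C.e Y * C.a₄ * (C.e Y)⁻¹ = C.a₄ ∨ C.e Y * C.a₄ * (C.e Y)⁻¹ = C.z * C.a₄ := by
    rcases Cfsg.Lib.JTwoSyl.a4_comm Y with h | h
    · exact Or.inl (by rw [C.e_mul, h, ← C.e_mul, mul_inv_cancel_right])
    · refine Or.inr ?_
      rw [C.e_mul, h, ← C.e_mul, ← C.e_mul, C.e_zc, mul_inv_cancel_right]
  rcases hU with r | r <;> rw [r] at hc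
  · exact hc.eq
  · have hz : Commute (C.e Y * C.e X * (C.e Y)⁻¹) C.z :=
      C.M.z_central (mul_mem (mul_mem (C.e_mem Y) (C.e_mem X)) (inv_mem (C.e_mem Y)))
    have := hz.mul_right hc
    rw [← mul_assoc, C.z_sq, one_mul] at this
    exact this.eq

theorem card_cent_U {P : Subgroup G} (hP : IsPGroup 2 P) (h : P ≤ centralizer (C.U : Set G)) :
    Nat.card P ≤ 64 := by
  haveI : Fact (Nat.Prime 2) := ⟨Nat.prime_two⟩
  set T := P ⊔ C.U with hT
  have hTp : IsPGroup 2 T := hP.to_sup_of_normal_right' (C.S.2.to_le (C.U_le_A.trans C.A_le))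
    (h.trans (centralizer_le_normalizer _))
  have hTz : ∀ t ∈ T, Commute t C.z := fun t ht => by
    have hle : T ≤ C.C₀ := sup_le (h.trans (centralizer_le (Set.singleton_subset_iff.2 C.z_U)))
      (C.U_le_A.trans C.A_le_C₀)
    exact mem_centralizer_singleton_iff.1 (hle ht)
  have hTa : ∀ t ∈ T, Commute t C.a₄ := fun t ht => by
    have hle : T ≤ centralizer ({C.a₄} : Set G) := sup_le (h.trans (centralizer_le (Set.singleton_subset_iff.2 C.a_U)))
      (C.U_le_A.trans (C.A_le_cent C.a_U))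
    exact mem_centralizer_singleton_iff.1 (hle ht)
  obtain ⟨c, hcz, hc⟩ := Cfsg.Lib.JTwoSyl.exists_conj_into C.M hTp hTz
  obtain ⟨Y, hY⟩ := C.M.surj _ (hc C.a₄ (mem_sup_right C.a_U))
  have hYY : smul' Y Y = one' := (C.M.sq_iff Y).1 (by
    rw [hY]; exact Cfsg.Lib.JTwoSyl.conj_sq_one (C.E_sq (C.U_le_E C.a_U)))
  have hYZ : ¬ InZ Y := fun hh => by
    rcases (C.M.inZ_iff Y).2 hh with r | r <;> rw [hY] at r
    · exact absurd (C.e_inj ((conj_eq_one_iff.1 r).trans C.e_one.symm)) (by decide +kernel)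
    · have h' : C.a₄ = C.z := by
        calc C.a₄ = c⁻¹ * (c * C.a₄ * c⁻¹) * c := by group
          _ = C.z := by rw [r, hcz.inv_left.eq, inv_mul_cancel_right]
      exact absurd (C.e_inj (h'.trans C.e_zc.symm)) (by decide +kernel)
  calc Nat.card P = Nat.card (P.map (MulAut.conj c).toMonoidHom) := (card_map_of_injective (MulEquiv.injective _)).symm
    _ ≤ Nat.card ↥((C.S : Subgroup G) ⊓ centralizer ({C.e Y} : Set G)) := card_le_of_le (by
        rintro _ ⟨p, hp, rfl⟩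
        refine ⟨hc p (mem_sup_left hp), mem_centralizer_singleton_iff.2 ?_⟩
        show MulAut.conj c p * ev7 C.z C.a C.v C.w Y = ev7 C.z C.a C.v C.w Y * MulAut.conj c p
        rw [hY]
        exact ((hTa p (mem_sup_left hp)).map (MulAut.conj c).toMonoidHom).eq)
    _ ≤ 64 := by rw [C.M.card_cent]; exact cent64 Y hYY hYZ

theorem normalizer_U_decomp {k : G} (hk : ∀ u ∈ C.U, k * u * k⁻¹ ∈ C.U) :
    ∃ c ∈ centralizer (C.U : Set G), c * k ∈ normalizer (C.A : Set G) := by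
  haveI : Fact (Nat.Prime 2) := ⟨Nat.prime_two⟩
  set K := centralizer (C.U : Set G)
  obtain ⟨P, hP⟩ := (C.isPGroup_A.of_equiv (subgroupOfEquivOfLe C.A_le_cent_U).symm).exists_le_sylow
  have hle : C.A ≤ (P : Subgroup K).map K.subtype := fun x hx => ⟨⟨x, C.A_le_cent_U hx⟩, hP hx, rfl⟩
  have hPA : (P : Subgroup K).map K.subtype = C.A := (eq_of_le_of_card_ge hle (by
    rw [C.card_A]; exact C.card_cent_U (P.2.map _) (map_subtype_le _))).symm
  have hkU : ∀ u ∈ C.U, k⁻¹ * u * k ∈ C.U := fun u hu => by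
    have := (mem_normalizer_iff.1 (inv_mem (Cfsg.Lib.ZStarApps.mem_normalizer_of_maps hk)) u).1 hu
    rwa [inv_inv] at this
  have hkA : C.A.map (MulAut.conj k).toMonoidHom ≤ K := by
    rintro _ ⟨x, hx, rfl⟩
    refine mem_centralizer_iff.2 fun u hu => ?_
    have := ((C.U_comm (hkU u hu) hx).map (MulAut.conj k).toMonoidHom).eq
    simpa [mul_assoc] using this
  obtain ⟨c, hc⟩ := Cfsg.Lib.InvolCalc.exists_conj_le P
    ((C.isPGroup_A.map (MulAut.conj k).toMonoidHom).of_equiv (subgroupOfEquivOfLe hkA).symm)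
  refine ⟨(c : G)⁻¹, inv_mem c.2, Cfsg.Lib.ZStarApps.mem_normalizer_of_maps fun x hx => ?_⟩
  have h1 := hc ⟨k * x * k⁻¹, hkA ⟨x, hx, rfl⟩⟩ ⟨x, hx, rfl⟩
  have h2 : (c : G)⁻¹ * (k * x * k⁻¹) * (c : G) ∈ C.A := hPA ▸ ⟨_, h1, rfl⟩
  rwa [show (c : G)⁻¹ * k * x * ((c : G)⁻¹ * k)⁻¹ = (c : G)⁻¹ * (k * x * k⁻¹) * (c : G) by group]

theorem NA_E {n : G} (hn : n ∈ normalizer (C.A : Set G)) :
    C.E.map (MulAut.conj n).toMonoidHom = C.E ∨ C.E.map (MulAut.conj n).toMonoidHom = C.E' := by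
  refine C.sixteen ?_ (by rw [card_map_of_injective (MulEquiv.injective _), C.card_E]) ?_
  · rintro _ ⟨x, hx, rfl⟩
    exact C.A_le ((mem_normalizer_iff.1 hn x).1 (C.E_le_A hx))
  · rintro _ ⟨x, hx, rfl⟩
    show MulAut.conj n x * MulAut.conj n x = 1
    rw [← map_mul, C.E_sq hx, map_one]

/-- the normaliser of `A` and of `E` permutes the centre of `A` transitively -/
theorem exists_NA (hza : IsConj C.z C.a₄) {u : G} (hu : u ∈ C.U) (hu1 : u ≠ 1) :
    ∃ n ∈ normalizer (C.A : Set G), n ∈ normalizer (C.E : Set G) ∧ n * C.z * n⁻¹ = u := by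
  have ha0 := C.S_le_NA (C.e_mem (ac 0))
  have hfix : C.e (ac 0) * C.z * (C.e (ac 0))⁻¹ = C.z := by
    rw [(C.M.z_central (C.e_mem (ac 0))).eq, mul_inv_cancel_right]
  have main : ∃ n ∈ normalizer (C.A : Set G), n * C.z * n⁻¹ = u := by
    rcases C.mem_U_iff.1 hu with rfl | rfl | hu'
    · exact absurd rfl hu1
    · exact ⟨1, one_mem _, by group⟩
    obtain ⟨k, hk1, hk2⟩ := Cfsg.Lib.JTwoSyl.exists_back C.M (y := C.a₄) (Or.inl rfl) hza.symm
    have hkU : ∀ x ∈ C.U, k * x * k⁻¹ ∈ C.U := by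
      intro x hx
      have hz' : k * C.z * k⁻¹ ∈ C.U := by
        rcases hk2 with r | r <;> rw [r]
        · exact C.a_U
        · exact mul_mem C.z_U C.a_U
      rcases C.mem_U_iff.1 hx with rfl | rfl | rfl | rfl
      · simp
      · exact hz'
      · rw [hk1]; exact C.z_U
      · rw [conj_mul', hk1]; exact mul_mem hz' C.z_U
    obtain ⟨c, hc, hcN⟩ := C.normalizer_U_decomp hkU
    have hck : c * k * C.z * (c * k)⁻¹ = k * C.z * k⁻¹ := by
      rw [show c * k * C.z * (c * k)⁻¹ = c * (k * C.z * k⁻¹) * c⁻¹ by group,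
        ← mem_centralizer_iff.1 hc _ (hkU _ C.z_U), mul_inv_cancel_right]
    have hflip : C.e (ac 0) * C.a₄ * (C.e (ac 0))⁻¹ = C.z * C.a₄ := by
      rw [C.M.inv_ev, C.e_mul, C.e_mul, flip_point, ← C.e_mul, C.e_zc]
    have hflip' : C.e (ac 0) * (C.z * C.a₄) * (C.e (ac 0))⁻¹ = C.a₄ := by
      rw [conj_mul', hfix, hflip, ← mul_assoc, C.z_sq, one_mul]
    have hcomp : ∀ x, k * C.z * k⁻¹ = x →
        C.e (ac 0) * (c * k) * C.z * (C.e (ac 0) * (c * k))⁻¹ = C.e (ac 0) * x * (C.e (ac 0))⁻¹ := fun x hx => by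
      rw [show C.e (ac 0) * (c * k) * C.z * (C.e (ac 0) * (c * k))⁻¹ =
        C.e (ac 0) * (c * k * C.z * (c * k)⁻¹) * (C.e (ac 0))⁻¹ by group, hck, hx]
    rcases hu' with rfl | rfl <;> rcases hk2 with r | r
    · exact ⟨_, hcN, hck.trans r⟩
    · exact ⟨_, mul_mem ha0 hcN, (hcomp _ r).trans hflip'⟩
    · exact ⟨_, mul_mem ha0 hcN, (hcomp _ r).trans hflip⟩
    · exact ⟨_, hcN, hck.trans r⟩
  obtain ⟨n, hn, hnz⟩ := main
  rcases C.NA_E hn with h | h
  · exact ⟨n, hn, mem_normalizer_iff_map_conj_eq.2 h, hnz⟩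
  refine ⟨n * C.e (ac 0), mul_mem hn ha0, mem_normalizer_iff_map_conj_eq.2 ?_, ?_⟩
  · have hcomp : C.E.map (MulAut.conj (n * C.e (ac 0))).toMonoidHom = C.E'.map (MulAut.conj n).toMonoidHom := by
      rw [E', Subgroup.map_map]; congr 1; ext y; simp [mul_assoc]
    refine (C.NA_E (mul_mem hn ha0)).resolve_right fun h' => ?_
    rw [hcomp] at h'
    have h'' : C.E' = C.E :=
      Subgroup.map_injective (f := (MulAut.conj n).toMonoidHom) (MulEquiv.injective _) (h'.trans h.symm)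
    have := C.map_E'
    rw [h''] at this
    have hv : C.e vc ∈ C.E := C.mem_E.2 rfl
    rw [← h'', C.mem_E'] at hv
    exact absurd hv (by decide +kernel)
  · rw [show n * C.e (ac 0) * C.z * (n * C.e (ac 0))⁻¹ = n * (C.e (ac 0) * C.z * (C.e (ac 0))⁻¹) * n⁻¹ by group,
      hfix, hnz]

include C in
theorem three_dvd : 3 ∣ Nat.card G := by
  obtain ⟨π, hπ, hπ1, hπ3⟩ := three_cycle
  obtain ⟨c, rfl⟩ := C.sg_surj hπ
  haveI : Fact (Nat.Prime 3) := ⟨Nat.prime_three⟩
  rw [← orderOf_eq_prime hπ3 hπ1]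
  exact (orderOf_map_dvd _ _).trans ((_root_.orderOf_dvd_natCard c).trans (card_subgroup_dvd_card _))

include C in
theorem nonabelian : ∃ x y : G, x * y ≠ y * x :=
  ⟨C.a₄, C.e (ac 0), fun h => four_facts.2.1 ((C.M.commute_iff _ _).1 h)⟩

include C in
theorem no_strongly_embedded [IsSimpleGroup G] (H : Subgroup G) : ¬ Cfsg.IsStronglyEmbedded H := by
  classical
  intro hse
  haveI : Fact (Nat.Prime 2) := ⟨Nat.prime_two⟩
  rcases Cfsg.Agent.S0222.result C.nonabelian H hse with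
    ⟨F, i1, i2, hc, h4, ⟨e'⟩⟩ | hsz | ⟨F, i1, i2, q, hq, hqe, hq4, ⟨e'⟩⟩
  · obtain ⟨n, hn, hF⟩ := FiniteField.card F 2
    let R : Sylow 2 (Matrix.ProjectiveSpecialLinearGroup (Fin 2) F) := C.S.mapSurjective (f := e'.toMonoidHom) e'.surjective
    refine four_facts.1 ((C.M.sq_iff b01).1 (e'.injective ?_))
    rw [map_mul, map_one]
    exact Cfsg.Lib.BGN.psl_sylow_sq n.pos hF R ⟨_, C.e_mem b01, rfl⟩
  · obtain ⟨-, m, -, hm⟩ := hsz
    have h3 := C.three_dvd
    rw [hm, Nat.dvd_iff_mod_eq_zero] at h3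
    have hQ : 2 ^ (2 * m + 1) % 3 = 2 := by
      rw [pow_succ, pow_mul, Nat.mul_mod, Nat.pow_mod]
      norm_num
    have h1 : 1 ≤ 2 ^ (2 * m + 1) := Nat.one_le_two_pow
    generalize 2 ^ (2 * m + 1) = Q at hQ h1 h3
    have h2 : (Q - 1) % 3 = 1 := by omega
    rw [Nat.mul_mod, Nat.mul_mod (Q ^ 2), Nat.add_mod, Nat.pow_mod, hQ, h2] at h3
    exact absurd h3 (by decide)
  · obtain ⟨p, n, hp, -, hpn⟩ : ∃ p n : ℕ, p.Prime ∧ 0 < n ∧ Fintype.card F = p ^ n := by
      obtain ⟨p, _⟩ := CharP.exists F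
      obtain ⟨n, hp, hn⟩ := FiniteField.card F p
      exact ⟨p, n, hp, n.pos, hn⟩
    have hq2 : 2 ∣ p ^ n := by rw [← hpn, hq]; exact dvd_pow (even_iff_two_dvd.1 hqe) two_ne_zero
    obtain rfl : 2 = p := (Nat.prime_dvd_prime_iff_eq Nat.prime_two hp).1 (Nat.prime_two.dvd_of_dvd_pow hq2)
    obtain ⟨j, -, rfl⟩ : ∃ j, j ≤ n ∧ q = 2 ^ j := (Nat.dvd_prime_pow Nat.prime_two).1 (by
      rw [← hpn, hq]; exact dvd_pow_self q two_ne_zero)
    have hj : 2 ≤ j := by
      by_contra hlt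
      have : j = 0 ∨ j = 1 := by omega
      rcases this with rfl | rfl <;> norm_num at hq4
    let R : Sylow 2 (Cfsg.PSU 3 F (2 ^ j)) := C.S.mapSurjective (f := e'.toMonoidHom) e'.surjective
    obtain ⟨-, -, hR⟩ := Cfsg.Agent.S1141.result hj hq R
    have hR' := Cfsg.Agent.S1137.result hR
    have ha : C.a₄ * C.a₄ = 1 := C.E_sq (C.U_le_E C.a_U)
    have hea : e' C.a₄ ∈ (R : Subgroup (Cfsg.PSU 3 F (2 ^ j))) := ⟨_, C.e_mem (ac 4), rfl⟩
    have ha1 : C.a₄ ≠ 1 := fun h => absurd (C.e_inj (h.trans C.e_one.symm)) (by decide +kernel)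
    have hz' := ((hR'.1 ⟨e' C.a₄, hea⟩).1 ⟨fun h => ha1 (e'.injective ((congrArg Subtype.val h).trans (map_one e').symm)),
      Subtype.ext (by
        show e' C.a₄ * e' C.a₄ = 1
        rw [← map_mul, ha, map_one])⟩).1
    refine four_facts.2.1 ((C.M.commute_iff _ _).1 (e'.injective ?_))
    rw [map_mul, map_mul]
    exact (congrArg Subtype.val (mem_center_iff.1 hz' ⟨e' (C.e (ac 0)), ⟨_, C.e_mem _, rfl⟩⟩)).symm

/-- **no proper subgroup controls the fusion of `z` and contains its centraliser** -/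
theorem false_of_control [IsSimpleGroup G] (hza : IsConj C.z C.a₄) {M : Subgroup G} (hM : M ≠ ⊤) (hC : C.C₀ ≤ M)
    (hU : ∀ u ∈ C.U, u ≠ 1 → ∃ m ∈ M, m * C.z * m⁻¹ = u)
    (hout : ∀ x ∈ C.E, x ∉ C.U → IsConj x C.z → ∃ m ∈ M, m * x * m⁻¹ = C.z) : False := by
  haveI : Fact (Nat.Prime 2) := ⟨Nat.prime_two⟩
  have hSM : (C.S : Subgroup G) ≤ M := C.S_le.trans hC
  have hUM : ∀ u ∈ C.U, u ≠ 1 → ∃ m ∈ M, m * u * m⁻¹ = C.z := fun u hu hu1 => by
    obtain ⟨m, hm, rfl⟩ := hU u hu hu1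
    exact ⟨m⁻¹, inv_mem hm, by group⟩
  have hEM : ∀ x ∈ C.E, IsConj x C.z → ∃ m ∈ M, m * x * m⁻¹ = C.z := fun x hx hc => by
    by_cases hxU : x ∈ C.U
    · refine hUM x hxU fun h => ?_
      obtain ⟨g, hg⟩ := isConj_iff.1 hc
      rw [h, mul_one, mul_inv_cancel] at hg
      exact C.z_ne hg.symm
    · exact hout x hx hxU hc
  -- involutions of `S` fused to `z`
  have hS : ∀ s ∈ (C.S : Subgroup G), s * s = 1 → IsConj s C.z → ∃ m ∈ M, m * s * m⁻¹ = C.z := by
    intro s hs h2 hc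
    rcases C.involution_cases hs h2 with r | ⟨i, -, hi⟩ | r | r
    · exact hEM s (C.U_le_E r) hc
    · obtain ⟨π, hπ, hπi⟩ := Cfsg.Lib.JTwoSyl.even_to_four i
      obtain ⟨c, hcN, hσ⟩ := C.exists_NQ_sg hπ
      have h := C.NQ_act hcN i
      rw [hσ, hπi] at h
      have hcz : c * C.z * c⁻¹ = C.z := by
        rw [mem_centralizer_singleton_iff.1 (C.NQ_le hcN), mul_inv_cancel_right]
      have hcs : c * s * c⁻¹ ∈ C.U := by
        rcases hi with rfl | rfl
        · rcases h with r | r <;> rw [r]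
          · exact C.a_U
          · exact mul_mem C.z_U C.a_U
        · rw [conj_mul', hcz]
          rcases h with r | r <;> rw [r]
          · exact mul_mem C.z_U C.a_U
          · rw [← mul_assoc, C.z_sq, one_mul]; exact C.a_U
      obtain ⟨m, hm, e'⟩ := hEM _ (C.U_le_E hcs) ((isConj_iff.2 ⟨c, rfl⟩).symm.trans hc)
      exact ⟨m * c, mul_mem hm (hC (C.NQ_le hcN)), by rw [← e']; group⟩
    · exact hEM s r hc
    · obtain ⟨X, hX, rfl⟩ := C.E'_code r
      obtain ⟨m, hm, e'⟩ := hEM (C.e (c0 X)) (C.mem_E.2 hX)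
        ((isConj_iff.2 ⟨C.e (ac 0), C.conj_a0 X⟩).symm.trans hc)
      exact ⟨m * C.e (ac 0), mul_mem hm (hSM (C.e_mem _)), by rw [← e', ← C.conj_a0]; group⟩
  have hMz : ∀ x ∈ M, IsConj x C.z → ∃ m ∈ M, m * x * m⁻¹ = C.z := by
    intro x hx hc
    have h2 : x * x = 1 := by
      obtain ⟨g, hg⟩ := isConj_iff.1 hc.symm
      rw [← hg]; exact Cfsg.Lib.JTwoSyl.conj_sq_one C.z_sq
    obtain ⟨k, hk⟩ := Cfsg.Lib.InvolCalc.exists_conj_le (C.S.subtype hSM)
      (Cfsg.Lib.LFourType.isPGroup_zpowers_sq (x := (⟨x, hx⟩ : M)) (Subtype.ext h2))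
    have h3 : (k : G)⁻¹ * x * k ∈ (C.S : Subgroup G) := hk _ (mem_zpowers _)
    obtain ⟨m, hm, e'⟩ := hS _ h3 (by
      rw [show (k : G)⁻¹ * x * k = (k : G)⁻¹ * x * (k : G)⁻¹⁻¹ by group]; exact Cfsg.Lib.JTwoSyl.conj_sq_one h2)
      ((isConj_iff.2 ⟨(k : G)⁻¹, by rw [inv_inv]⟩).symm.trans hc)
    exact ⟨m * (k : G)⁻¹, mul_mem hm (inv_mem k.2), by rw [← e']; group⟩
  have hzM : C.z ∈ M := hSM C.M.z_mem
  obtain ⟨H, hH⟩ := Cfsg.Agent.S1175.result M hM C.z C.z_order hzM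
    ⟨C.S, C.M.z_mem, fun s hs => C.M.z_central hs⟩ (fun g hg => by
      obtain ⟨m, hm, e'⟩ := hMz _ hg ((isConj_iff.2 ⟨g, rfl⟩).symm)
      have h1 : m * g ∈ C.C₀ := mem_centralizer_singleton_iff.2
        (mul_inv_eq_iff_eq_mul.1 (by rw [← show m * (g * C.z * g⁻¹) * m⁻¹ = m * g * C.z * (m * g)⁻¹ by group, e']))
      have := mul_mem (inv_mem hm) (hC h1)
      rwa [inv_mul_cancel_left] at this) (fun g hc hne => by
      set t := g * C.z * g⁻¹ with ht
      have htM : t ∈ M := hC (mem_centralizer_singleton_iff.2 hc.symm.eq)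
      have htt : t * t = 1 := Cfsg.Lib.JTwoSyl.conj_sq_one C.z_sq
      have hy : IsConj (C.z * t) C.z := by
        obtain ⟨c, hcz, hcS⟩ := Cfsg.Lib.JTwoSyl.exists_conj_into C.M
          (T := zpowers t) (Cfsg.Lib.LFourType.isPGroup_zpowers_sq htt)
          (fun y hy => by obtain ⟨k, rfl⟩ := mem_zpowers_iff.1 hy; exact hc.symm.zpow_left k)
        set s := c * t * c⁻¹ with hs
        have hzs : c * (C.z * t) * c⁻¹ = C.z * s := by
          rw [conj_mul', hcz.eq, mul_inv_cancel_right]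
        refine (isConj_iff.2 ⟨c, hzs⟩).trans ?_
        have hsz : IsConj s C.z := (isConj_iff.2 ⟨c, rfl⟩).symm.trans (isConj_iff.2 ⟨g, rfl⟩).symm
        have hs1 : s ≠ C.z := fun h => hne (by
          calc t = c⁻¹ * s * c := by rw [hs]; group
            _ = C.z := by rw [h, hcz.inv_left.eq, inv_mul_cancel_right])
        have hs0 : s ≠ 1 := fun h => by
          obtain ⟨k, hk⟩ := isConj_iff.1 hsz
          rw [h, mul_one, mul_inv_cancel] at hk
          exact C.z_ne hk.symm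
        have hUz : ∀ u ∈ C.U, u ≠ 1 → IsConj u C.z := fun u hu hu1 => by
          obtain ⟨m, -, e'⟩ := hUM u hu hu1
          exact isConj_iff.2 ⟨m, e'⟩
        have hprod : C.z * s ≠ 1 := fun h => hs1 (by
          rw [eq_inv_of_mul_eq_one_right h, inv_eq_of_mul_eq_one_right C.z_sq])
        rcases C.involution_cases (hcS t (mem_zpowers t)) (Cfsg.Lib.JTwoSyl.conj_sq_one htt)
          with r | ⟨i, -, r | r⟩ | r | r
        · exact hUz _ (mul_mem C.z_U r) hprod
        · rw [show s = _ from r]; exact (C.points i).2.trans hza.symm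
        · rw [show s = _ from r, ← mul_assoc, C.z_sq, one_mul]; exact (C.points i).1.trans hza.symm
        · by_cases hsU : s ∈ C.U
          · exact hUz _ (mul_mem C.z_U hsU) hprod
          · exact ((C.outer_conj (mul_mem (C.U_le_E C.z_U) r) fun h => hsU
              ((Subgroup.mul_mem_cancel_left _ C.z_U).1 h)).trans (C.outer_conj r hsU).symm).trans hsz
        · by_cases hsU : s ∈ C.U
          · exact hUz _ (mul_mem C.z_U hsU) hprod
          obtain ⟨X, hX, e'⟩ := C.E'_code (show s ∈ C.E' from r)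
          have hconj : IsConj (C.z * s) (C.z * C.e (c0 X)) := isConj_iff.2 ⟨C.e (ac 0), by
            rw [conj_mul', (C.M.z_central (C.e_mem (ac 0))).eq, mul_inv_cancel_right, ← e', C.conj_a0]⟩
          have hxU : C.e (c0 X) ∉ C.U := fun h => hsU (e' ▸ C.mem_U.2 ((c0_spec.2.2 X).1.1 (C.mem_U.1 h)))
          refine hconj.trans (((C.outer_conj (mul_mem (C.U_le_E C.z_U) (C.mem_E.2 hX)) fun h => hxU
            ((Subgroup.mul_mem_cancel_left _ C.z_U).1 h)).trans (C.outer_conj (C.mem_E.2 hX) hxU).symm).trans ?_)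
          refine (isConj_iff.2 ⟨C.e (ac 0), ?_⟩).symm.trans hsz
          rw [← e', C.conj_a0]
      obtain ⟨m, hm, e'⟩ := hMz _ (mul_mem hzM htM) hy
      intro x hx
      have h1 : m * x * m⁻¹ ∈ C.C₀ := by
        refine mem_centralizer_singleton_iff.2 ?_
        rw [← e']
        exact ((show Commute x (C.z * t) from mem_centralizer_singleton_iff.1 hx).map (MulAut.conj m).toMonoidHom).eq
      have := mul_mem (mul_mem (inv_mem hm) (hC h1)) hm
      rwa [show m⁻¹ * (m * x * m⁻¹) * m = x by group] at this)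
  exact C.no_strongly_embedded H hH

/-- the subgroup generated by the cores at the centre of `A` -/
def W : Subgroup G := ⨆ u : {u : G // u ∈ C.U ∧ u ≠ 1}, Oc (u : G)

theorem Oc_le_W {u : G} (hu : u ∈ C.U) (hu1 : u ≠ 1) : Oc u ≤ C.W :=
  le_iSup (fun u : {u : G // u ∈ C.U ∧ u ≠ 1} => Oc (u : G)) ⟨u, hu, hu1⟩

theorem W_normalized {n : G} (hn : ∀ u ∈ C.U, n * u * n⁻¹ ∈ C.U) : n ∈ normalizer (C.W : Set G) := by
  refine Cfsg.Lib.ZStarApps.mem_normalizer_of_maps fun x hx => ?_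
  have hle : C.W ≤ C.W.comap (MulAut.conj n).toMonoidHom := iSup_le fun u y hy =>
    C.Oc_le_W (hn u u.2.1) (fun h => u.2.2 (conj_eq_one_iff.1 h)) (conj_Oc n u hy)
  exact hle hx

theorem card_U : Nat.card C.U = 4 := by
  classical
  rw [← k_card.2, ← Fintype.card_coe, ← Nat.card_eq_fintype_card]
  exact (Nat.card_congr (Equiv.ofBijective
    (fun t : {t // t ∈ (Finset.univ.filter fun t : SC => InU t)} =>
      (⟨C.e t, C.mem_U.2 (Finset.mem_filter.1 t.2).2⟩ : C.U))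
    ⟨fun s t h => Subtype.ext (C.e_inj (congrArg Subtype.val h)), fun ⟨y, hy⟩ => by
      obtain ⟨X, hX, rfl⟩ := C.U_code hy
      exact ⟨⟨X, Finset.mem_filter.2 ⟨Finset.mem_univ _, hX⟩⟩, rfl⟩⟩)).symm

theorem U_sq {u : G} (hu : u ∈ C.U) : u * u = 1 := C.E_sq (C.U_le_E hu)

/-- conjugates of `A ∩ Q` cover the four group -/
theorem cover_K {n : G} (hn : n ∈ normalizer (C.A : Set G)) (hne : n * C.z * n⁻¹ ≠ C.z) (p r : Bool) :
    ∃ Y : SC, Y.2 = (p, r) ∧ n * C.e Y * n⁻¹ ∈ C.A ⊓ C.Q := by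
  classical
  by_contra hno
  push Not at hno
  set F := Finset.univ.filter fun t : SC => t.2.1 = false ∧ t.2.2 = false ∧ smul' t (ac 4) = smul' (ac 4) t with hF
  have hA : ∀ t ∈ F, C.e t ∈ C.A ⊓ C.Q := fun t ht => by
    obtain ⟨-, h1, h2, h3⟩ := Finset.mem_filter.1 ht
    exact ⟨C.mem_A.2 h3, C.mem_Q.2 (Prod.ext h1 h2)⟩
  have hpre : ∀ t : {t // t ∈ F}, ∃ Y : SC, smul' Y (ac 4) = smul' (ac 4) Y ∧ n * C.e Y * n⁻¹ = C.e t := fun t => by
    have h1 := (mem_normalizer_iff.1 (inv_mem hn) _).1 (hA t t.2).1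
    obtain ⟨Y, hY, e'⟩ := C.A_code h1
    exact ⟨Y, hY, by rw [e']; group⟩
  choose f hf hfe using hpre
  have hinj : Function.Injective f := fun s t h => Subtype.ext (C.e_inj (by rw [← hfe s, ← hfe t, h]))
  -- two elements of one class differ by an element of `U`
  have hdiff : ∀ s t, (f s).2 = (f t).2 → InU (smul' (inv' (f s)) (f t)) := by
    intro s t h
    set y := smul' (inv' (f s)) (f t) with hy
    have hy2 : y.2 = (false, false) := same_class _ _ h
    have hye : C.e y = (C.e (f s))⁻¹ * C.e (f t) := by rw [hy, ← C.e_mul, C.M.inv_ev]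
    have hconj : n * C.e y * n⁻¹ = (C.e s)⁻¹ * C.e t := by rw [hye, ← hfe s, ← hfe t]; group
    have hQ : n * C.e y * n⁻¹ ∈ C.A ⊓ C.Q := hconj ▸ mul_mem (inv_mem (hA s s.2)) (hA t t.2)
    obtain ⟨K, hK, eK⟩ := C.Q_code hQ.2
    refine k_inU y hy2 (C.mem_A.1 (by
      rw [hye]
      exact mul_mem (inv_mem (C.mem_A.2 (hf s))) (C.mem_A.2 (hf t)))) ?_
    rcases (C.M.inZ_iff _).2 (q_sq' K hK) with r1 | r1
    · refine (C.M.sq_iff y).1 ?_
      have e2 : n * (C.e y * C.e y) * n⁻¹ = 1 := by rw [conj_mul', ← eK, C.e_mul]; exact r1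
      exact conj_eq_one_iff.1 e2
    · exfalso
      have e2 : n * (C.e y * C.e y) * n⁻¹ = C.z := by rw [conj_mul', ← eK, C.e_mul]; exact r1
      rcases (C.M.inZ_iff _).2 (q_sq' y hy2) with r2 | r2 <;> rw [C.e_mul] at e2 <;> rw [show C.e (smul' y y) = _ from r2] at e2
      · exact C.z_ne (by rw [← e2]; group)
      · exact hne e2
  let g : {t // t ∈ F} → {c : Bool × Bool // c ≠ (p, r)} := fun t => ⟨(f t).2, fun h => hno (f t) h
    (by rw [hfe t]; exact hA t t.2)⟩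
  have hfib : ∀ c, (Finset.univ.filter fun t => g t = c).card ≤ 4 := by
    intro c
    by_cases hc : ∃ s, g s = c
    · obtain ⟨s, hs⟩ := hc
      rw [← k_card.2]
      refine Finset.card_le_card_of_injOn (fun t => smul' (inv' (f s)) (f t)) (fun t ht => ?_) ?_
      · refine Finset.mem_filter.2 ⟨Finset.mem_univ _, hdiff s t ?_⟩
        have := (Finset.mem_filter.1 ht).2.trans hs.symm
        exact (congrArg Subtype.val this).symm
      · intro t _ t' _ h
        refine hinj (C.e_inj ?_)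
        have h' := congrArg C.e h
        simp only [← C.e_mul] at h'
        exact mul_left_cancel h'
    · rw [Finset.filter_eq_empty_iff.2 fun t _ h => hc ⟨t, h⟩]; simp
  have h16 : Fintype.card {t // t ∈ F} = 16 := by rw [Fintype.card_coe]; exact k_card.1
  have hsum := Finset.card_eq_sum_card_fiberwise (f := g) (s := Finset.univ) (t := Finset.univ) fun _ _ => Finset.mem_univ _
  have h12 := Finset.sum_le_sum (s := Finset.univ) fun c (_ : c ∈ Finset.univ) => hfib c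
  rw [← hsum, Finset.card_univ, h16, Finset.sum_const, Finset.card_univ, smul_eq_mul, Fintype.card_subtype_compl,
    Fintype.card_subtype_eq] at h12
  simp at h12

/-- an odd subgroup of the centraliser invariant under the covering elements lies in the core -/
theorem le_Oc_U (hza : IsConj C.z C.a₄) {u : G} (hu : u ∈ C.U) (hu1 : u ≠ 1) {X : Subgroup G}
    (hX : X ≤ centralizer ({u} : Set G)) (ho : Odd (Nat.card X))
    (h : C.E ≤ normalizer (X : Set G) ∨ u ≠ C.z ∧ C.A ⊓ C.Q ≤ normalizer (X : Set G)) : X ≤ Oc u := by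
  obtain ⟨n, hnA, hnE, hnu⟩ := C.exists_NA hza hu hu1
  set X' := X.map (MulAut.conj n⁻¹).toMonoidHom with hX'
  have hX'C : X' ≤ C.C₀ := by
    rintro _ ⟨x, hx, rfl⟩
    refine mem_centralizer_singleton_iff.2 ?_
    have h1 := ((show Commute x u from mem_centralizer_singleton_iff.1 (hX hx)).map
      (MulAut.conj n⁻¹).toMonoidHom).eq
    have hz : MulAut.conj n⁻¹ u = C.z := by rw [← hnu, MulAut.conj_apply]; group
    change MulAut.conj n⁻¹ x * MulAut.conj n⁻¹ u = MulAut.conj n⁻¹ u * MulAut.conj n⁻¹ x at h1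
    rw [hz] at h1
    exact h1
  have hcov : ∀ p r : Bool, ∃ Y : SC, Y.2 = (p, r) ∧ n * C.e Y * n⁻¹ ∈ normalizer (X : Set G) := by
    intro p r
    rcases h with h | ⟨hne, h⟩
    · refine ⟨(Cfsg.Lib.JTwoSyl.q1, p, r), rfl, h ((mem_normalizer_iff.1 hnE _).1 (C.mem_E.2 ?_))⟩
      revert p r; decide +kernel
    · obtain ⟨Y, hY, hY'⟩ := C.cover_K hnA (hnu.trans_ne hne) p r
      exact ⟨Y, hY, h hY'⟩
  have hO : X' ≤ Oc C.z := C.le_O hX'C (by rwa [hX', card_map_of_injective (MulEquiv.injective _)]) (fun p r => by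
    obtain ⟨Y, hY, hY'⟩ := hcov p r
    refine ⟨Y, hY, ?_⟩
    rintro _ ⟨x, hx, rfl⟩
    refine ⟨_, (mem_normalizer_iff.1 hY' x).1 hx, ?_⟩
    simp only [MulEquiv.coe_toMonoidHom, MulAut.conj_apply]; group)
  intro x hx
  have := conj_Oc n C.z (hO ⟨x, hx, rfl⟩)
  simp only [MulEquiv.coe_toMonoidHom, MulAut.conj_apply] at this
  rwa [hnu, show n * (n⁻¹ * x * n⁻¹⁻¹) * n⁻¹ = x by group] at this

/-- **an odd `W` is trivial** -/
theorem O_eq_bot_of_odd [IsSimpleGroup G] (hza : IsConj C.z C.a₄) (ho : Odd (Nat.card C.W))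
    (hout : ∀ x ∈ C.E, x ∉ C.U → IsConj x C.z → ∃ m ∈ normalizer (C.W : Set G), m * x * m⁻¹ = C.z) :
    Oc C.z = ⊥ := by
  by_contra hne
  have hA : normalizer (C.A : Set G) ≤ normalizer (C.W : Set G) := fun n hn =>
    C.W_normalized fun u hu => C.NA_U hn hu
  have hSW : (C.S : Subgroup G) ≤ normalizer (C.W : Set G) := C.S_le_NA.trans hA
  obtain ⟨π, hπ, hπ0⟩ : ∃ π : Perm (Fin 5), Perm.sign π = 1 ∧ π 4 = 0 := by decide +kernel
  obtain ⟨h, hh, hσ⟩ := C.exists_NQ_sg hπ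
  have hh0 := C.NQ_act hh 4
  rw [hσ, hπ0] at hh0
  have hhz : h * C.z * h⁻¹ = C.z := by
    rw [mem_centralizer_singleton_iff.1 (C.NQ_le hh), mul_inv_cancel_right]
  have hUS : C.U.map (MulAut.conj h).toMonoidHom ≤ (C.S : Subgroup G) := by
    rintro _ ⟨u, hu, rfl⟩
    show h * u * h⁻¹ ∈ (C.S : Subgroup G)
    have h4 : h * C.a₄ * h⁻¹ ∈ (C.S : Subgroup G) := by
      rcases hh0 with r | r <;> rw [r]
      · exact C.e_mem _
      · exact mul_mem C.M.z_mem (C.e_mem _)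
    rcases C.mem_U_iff.1 hu with rfl | rfl | rfl | rfl
    · simp
    · rw [hhz]; exact C.M.z_mem
    · exact h4
    · rw [conj_mul', hhz]; exact mul_mem C.M.z_mem h4
  set F := C.U.map (MulAut.conj h).toMonoidHom with hF
  have hle : C.W ≤ C.W.map (MulAut.conj h).toMonoidHom := by
    refine le_of_four' (E := F) (by rw [hF, card_map_of_injective (MulEquiv.injective _), C.card_U])
      (by rintro _ ⟨a, ha, rfl⟩ _ ⟨b, hb, rfl⟩; exact (C.U_comm ha (C.U_le_A hb)).map _)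
      (by rintro _ ⟨a, ha, rfl⟩; show MulAut.conj h a * MulAut.conj h a = 1; rw [← map_mul, C.U_sq ha, map_one])
      ho (hUS.trans hSW) ?_
    rintro _ ⟨u, hu, rfl⟩ hne1
    have hu1 : u ≠ 1 := fun e' => hne1 (by rw [e', map_one])
    show C.W ⊓ centralizer ({h * u * h⁻¹} : Set G) ≤ _
    set X := C.W ⊓ centralizer ({h * u * h⁻¹} : Set G) with hX
    set X' := X.map (MulAut.conj h⁻¹).toMonoidHom with hX'
    have hX'o : Odd (Nat.card X') := by
      rw [hX', card_map_of_injective (MulEquiv.injective _)]; exact ho.of_dvd_nat (card_dvd_of_le inf_le_left)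
    have hX'C : X' ≤ centralizer ({u} : Set G) := by
      rintro _ ⟨x, hx, rfl⟩
      have := ((show Commute x (h * u * h⁻¹) from mem_centralizer_singleton_iff.1 hx.2).map
        (MulAut.conj h⁻¹).toMonoidHom).eq
      refine mem_centralizer_singleton_iff.2 ?_
      simpa [mul_assoc] using this
    have hnorm : ∀ k : G, h * k * h⁻¹ ∈ normalizer (C.W : Set G) → Commute k u → k ∈ normalizer (X' : Set G) := by
      intro k hk hku
      refine Cfsg.Lib.ZStarApps.mem_normalizer_of_maps ?_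
      rintro _ ⟨x, hx, rfl⟩
      refine ⟨h * k * h⁻¹ * x * (h * k * h⁻¹)⁻¹, ⟨(mem_normalizer_iff.1 hk x).1 hx.1, ?_⟩, ?_⟩
      · have hc : Commute (h * k * h⁻¹) (h * u * h⁻¹) := hku.map (MulAut.conj h).toMonoidHom
        refine mem_centralizer_singleton_iff.2 ?_
        exact ((hc.mul_left (show Commute x (h * u * h⁻¹) from mem_centralizer_singleton_iff.1 hx.2)).mul_left
          hc.inv_left).eq
      · simp only [MulEquiv.coe_toMonoidHom, MulAut.conj_apply]; group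
    have hO : X' ≤ Oc u := by
      by_cases huz : u = C.z
      · subst huz
        refine C.le_Oc_U hza hu hu1 hX'C hX'o (Or.inl fun k hk => ?_)
        have hz' : C.E ≤ normalizer (X : Set G) := fun k hk => by
          refine Cfsg.Lib.ZStarApps.mem_normalizer_of_maps fun x hx => ⟨(mem_normalizer_iff.1 (hSW hk.1) x).1 hx.1, ?_⟩
          refine mem_centralizer_singleton_iff.2 ?_
          rw [hhz]
          have hkz : Commute k C.z := C.M.z_central hk.1
          have hxz : Commute x C.z := by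
            have := mem_centralizer_singleton_iff.1 hx.2
            rwa [hhz] at this
          exact ((hkz.mul_left hxz).mul_left hkz.inv_left).eq
        have h1 : X ≤ Oc C.z := C.le_Oc_U hza hu hu1 (fun x hx => by
          have := mem_centralizer_singleton_iff.1 hx.2
          rw [hhz] at this
          exact mem_centralizer_singleton_iff.2 this) (ho.of_dvd_nat (card_dvd_of_le inf_le_left)) (Or.inl hz')
        have h2 : Oc C.z ≤ X := fun o ho' => ⟨C.Oc_le_W C.z_U C.z_ne ho', by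
          rw [hhz]; exact C.O_le ho'⟩
        have hXO : X = Oc C.z := le_antisymm h1 h2
        refine Cfsg.Lib.ZStarApps.mem_normalizer_of_maps ?_
        rintro _ ⟨x, hx, rfl⟩
        refine ⟨h * k * h⁻¹ * x * (h * k * h⁻¹)⁻¹, ?_, ?_⟩
        · rw [hXO] at hx ⊢
          exact (mem_normalizer_iff.1 (C.O_normalized (mul_mem (mul_mem (C.NQ_le hh) (C.S_le hk.1))
            (inv_mem (C.NQ_le hh)))) x).1 hx
        · simp only [MulEquiv.coe_toMonoidHom, MulAut.conj_apply]; group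
      · refine C.le_Oc_U hza hu hu1 hX'C hX'o (Or.inr ⟨huz, fun k hk => hnorm k ?_ ?_⟩)
        · exact hSW (C.Q_le ((mem_normalizer_iff.1 hh.2 k).1 hk.2))
        · exact (C.U_comm hu hk.1).symm
    intro x hx
    refine ⟨h⁻¹ * x * h, C.Oc_le_W hu hu1 (hO ⟨x, hx, ?_⟩), ?_⟩ <;>
      simp only [MulEquiv.coe_toMonoidHom, MulAut.conj_apply] <;> group
  have hhN : h ∈ normalizer (C.W : Set G) := mem_normalizer_iff_map_conj_eq.2
    (eq_of_le_of_card_ge hle (le_of_eq (card_map_of_injective (MulEquiv.injective _)))).symm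
  have hC := C.cover (X := normalizer (C.W : Set G)) (C.A_le.trans hSW)
    ((C.Oc_le_W C.z_U C.z_ne).trans le_normalizer) hhN (C.NQ_le hh) (by rw [hσ, hπ0]; decide)
  refine C.false_of_control hza (fun htop => ?_) hC (fun u hu hu1 => ?_) hout
  · haveI : C.W.Normal := normalizer_eq_top_iff.1 htop
    rcases IsSimpleGroup.eq_bot_or_eq_top_of_normal C.W inferInstance with e' | e'
    · exact hne (le_bot_iff.1 (e' ▸ C.Oc_le_W C.z_U C.z_ne))
    · rw [e', card_top] at ho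
      refine Nat.not_even_iff_odd.2 ho (even_iff_two_dvd.2 ?_)
      rw [← C.z_order]; exact _root_.orderOf_dvd_natCard _
  · obtain ⟨n, hn, -, e'⟩ := C.exists_NA hza hu hu1
    exact ⟨n, hA hn, e'⟩

end Ctx

end Cfsg.Lib.JTwoSimple
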