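import Cfsg.Agent.OddChar.PF.OddOrder
import Mathlib.GroupTheory.Solvable
import Mathlib.GroupTheory.QuotientGroup.Basic

/-!
A group of odd order with two commuting automorphisms of order two such that the points fixed by the product are fixed
by both: the elements fixed by one and inverted by the other commute with those of the opposite kind.
-/

set_option autoImplicit false
set_option linter.style.haveILetI false

namespace Cfsg.Lib.JTwoSimple

universe u

/-- odd order: squares determine elements -/
theorem one_of_sq {L : Type*} [Group L] [Finite L] (ho : Odd (Nat.card L)) {x : L} (h : x * x = 1) : x = 1 := by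
  obtain ⟨k, hk⟩ := ho.of_dvd_nat (orderOf_dvd_natCard x)
  calc x = (x * x) ^ (k + 1) := by
        rw [← pow_two, ← pow_mul, show 2 * (k + 1) = orderOf x + 1 by omega, pow_succ, pow_orderOf_eq_one, one_mul]
    _ = 1 := by rw [h, one_pow]

/-- an element inverted by an automorphism of a group of odd order has a square root inverted by it -/
theorem exists_sqrt_inverted {L : Type*} [Group L] [Finite L] (ho : Odd (Nat.card L)) {w : L} :
    ∃ k : ℕ, w ^ (k + 1) * w ^ (k + 1) = w := by
  obtain ⟨k, hk⟩ := ho.of_dvd_nat (orderOf_dvd_natCard w)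
  exact ⟨k, by rw [← pow_add, show k + 1 + (k + 1) = orderOf w + 1 by omega, pow_succ, pow_orderOf_eq_one, one_mul]⟩

/-- **commuting pairs** -/
theorem pair_commute {L : Type u} [Group L] [Finite L] (ho : Odd (Nat.card L)) (α β : L →* L)
    (hα : ∀ x, α (α x) = x) (hβ : ∀ x, β (β x) = x) (hαβ : ∀ x, α (β x) = β (α x))
    (hfix : ∀ x, α (β x) = x → α x = x) {x y : L} (hxα : α x = x) (hxβ : β x = x⁻¹) (hyα : α y = y⁻¹)
    (hyβ : β y = y) : Commute x y := by
  revert ho α β hα hβ hαβ hfix x y
  induction h : Nat.card L using Nat.strong_induction_on generalizing L with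
  | _ n ih =>
    intro ho α β hα hβ hαβ hfix x y hxα hxβ hyα hyβ
    subst h
    by_cases hab : ∀ a b : L, a * b = b * a
    · exact hab x y
    have hsol : Group.IsSolvable L := Cfsg.Agent.PF.isSolvable_of_odd L ho
    classical
    obtain ⟨hn, hmin⟩ := Nat.find_spec hsol.solvable, fun m => Nat.find_min hsol.solvable (m := m)
    have hpos : Nat.find hsol.solvable ≠ 0 := fun h0 => hab fun a b => by
      rw [h0, derivedSeries_zero] at hn
      have ha := Subgroup.mem_bot.1 (hn ▸ Subgroup.mem_top a)
      rw [ha, one_mul, mul_one]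
    obtain ⟨m, hm⟩ := Nat.exists_eq_succ_of_ne_zero hpos
    set M := derivedSeries L m with hM
    have hMne : M ≠ ⊥ := hmin m (by omega)
    haveI : M.Normal := derivedSeries_normal L m
    have hMab : ∀ a ∈ M, ∀ b ∈ M, a * b = b * a := by
      intro a ha b hb
      rw [hm, derivedSeries_succ, ← hM, Subgroup.commutator_eq_bot_iff_le_centralizer] at hn
      exact (Subgroup.mem_centralizer_iff.1 (hn hb) a ha)
    have hMα : ∀ a ∈ M, α a ∈ M := fun a ha => map_derivedSeries_le_derivedSeries α m ⟨a, ha, rfl⟩
    have hMβ : ∀ a ∈ M, β a ∈ M := fun a ha => map_derivedSeries_le_derivedSeries β m ⟨a, ha, rfl⟩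
    -- the quotient
    have hlt : Nat.card (L ⧸ M) < Nat.card L := by
      rw [Subgroup.card_eq_card_quotient_mul_card_subgroup M]
      exact lt_mul_of_one_lt_right Nat.card_pos ((Subgroup.one_lt_card_iff_ne_bot M).2 hMne)
    let αq : L ⧸ M →* L ⧸ M := QuotientGroup.map M M α fun a ha => hMα a ha
    let βq : L ⧸ M →* L ⧸ M := QuotientGroup.map M M β fun a ha => hMβ a ha
    have hq := ih _ hlt (L := L ⧸ M) rfl
      (ho.of_dvd_nat (Subgroup.card_quotient_dvd_card M)) αq βq
      (fun q => by induction q using QuotientGroup.induction_on with | H a => exact congrArg QuotientGroup.mk (hα a))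
      (fun q => by induction q using QuotientGroup.induction_on with | H a => exact congrArg QuotientGroup.mk (hβ a))
      (fun q => by induction q using QuotientGroup.induction_on with | H a => exact congrArg QuotientGroup.mk (hαβ a))
      (fun q hq => by
        induction q using QuotientGroup.induction_on with
        | H a =>
          simp only [αq, βq] at hq ⊢
          have hw : a⁻¹ * α (β a) ∈ M := QuotientGroup.eq.1 hq.symm
          set w := a⁻¹ * α (β a) with hwdef
          have hww : α (β w) = w⁻¹ := by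
            rw [hwdef, map_mul, map_mul, map_inv, map_inv,
              show α (β (α (β a))) = a by rw [← hαβ (β a), hβ, hα], mul_inv_rev, inv_inv]
          obtain ⟨k, hk⟩ := exists_sqrt_inverted ho (w := w)
          set r := w ^ (k + 1) with hr
          have hrM : r ∈ M := pow_mem hw _
          have hfa : α (β (a * r)) = a * r := by
            rw [map_mul, map_mul, hr, map_pow, map_pow, hww, inv_pow, ← hr,
              show α (β a) = a * (r * r) by rw [hk, hwdef, mul_inv_cancel_left]]
            group
          have h2 := hfix _ hfa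
          rw [map_mul] at h2
          refine QuotientGroup.eq.2 ?_
          have : (α a)⁻¹ * a = α r * r⁻¹ := by
            rw [show α a = a * r * (α r)⁻¹ by rw [← h2, mul_inv_cancel_right]]; group
          rw [this]
          exact mul_mem (hMα r hrM) (inv_mem hrM))
      (x := (x : L ⧸ M)) (y := (y : L ⧸ M)) (congrArg QuotientGroup.mk hxα) (congrArg QuotientGroup.mk hxβ) (congrArg QuotientGroup.mk hyα)
      (congrArg QuotientGroup.mk hyβ)
    set c := x * y * x⁻¹ * y⁻¹ with hc
    have hcM : c ∈ M := by
      rw [← QuotientGroup.eq_one_iff, hc]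
      show (x : L ⧸ M) * (y : L ⧸ M) * (x : L ⧸ M)⁻¹ * (y : L ⧸ M)⁻¹ = 1
      rw [hq.eq]; group
    clear_value c
    -- an element of `M` inverted by one is fixed by the other
    have key : ∀ e ∈ M, β e = e⁻¹ → α e = e := by
      intro e he heβ
      set n := e * (α e)⁻¹ with hn'
      have hcomm := hMab e he _ (inv_mem (hMα e he))
      have hnα : α n = n⁻¹ := by rw [hn', map_mul, map_inv, hα, mul_inv_rev, inv_inv]
      have hnβ : β n = n⁻¹ := by
        rw [hn', map_mul, map_inv, ← hαβ, heβ, map_inv, mul_inv_rev, inv_inv]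
        have := hMab _ (inv_mem he) _ (hMα e he)
        exact this
      have h1 := hfix n (by rw [hnβ, map_inv, hnα, inv_inv])
      rw [hnα] at h1
      have h2 := one_of_sq ho (x := n) (by rw [mul_eq_one_iff_eq_inv]; exact h1.symm)
      rw [hn', mul_inv_eq_one] at h2
      exact h2.symm
    have key' : ∀ e ∈ M, α e = e⁻¹ → β e = e := by
      intro e he heα
      set n := e * (β e)⁻¹ with hn'
      have hnβ : β n = n⁻¹ := by rw [hn', map_mul, map_inv, hβ, mul_inv_rev, inv_inv]
      have hnα : α n = n⁻¹ := by
        rw [hn', map_mul, map_inv, hαβ, heα, map_inv, mul_inv_rev, inv_inv]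
        exact hMab _ (inv_mem he) _ (hMβ e he)
      have h1 := hfix n (by rw [hnβ, map_inv, hnα, inv_inv])
      rw [hnα] at h1
      have h2 := one_of_sq ho (x := n) (by rw [mul_eq_one_iff_eq_inv]; exact h1.symm)
      rw [hn', mul_inv_eq_one] at h2
      exact h2.symm
    -- conjugation by `y` fixes what `β` inverts, by `x` what `α` inverts
    have hyfix : ∀ e ∈ M, β e = e⁻¹ → y * e * y⁻¹ = e := by
      intro e he heβ
      have heM : y * e * y⁻¹ ∈ M := Subgroup.Normal.conj_mem inferInstance e he y
      have h1 := key _ heM (by rw [map_mul, map_mul, map_inv, hyβ, heβ]; group)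
      rw [map_mul, map_mul, map_inv, hyα, key e he heβ, inv_inv] at h1
      have h2 : Commute (y * y) e := by
        show y * y * e = e * (y * y)
        calc y * y * e = y * (y * e * y⁻¹) * y := by group
          _ = y * (y⁻¹ * e * y) * y := by rw [h1]
          _ = e * (y * y) := by group
      obtain ⟨k, hk⟩ := exists_sqrt_inverted ho (w := y)
      have h3 : Commute y e := by
        rw [← hk, ← pow_add, ← two_mul, pow_mul, pow_two]
        exact h2.pow_left _
      rw [h3.eq, mul_inv_cancel_right]
    have hxfix : ∀ e ∈ M, α e = e⁻¹ → x * e * x⁻¹ = e := by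
      intro e he heα
      have heM : x * e * x⁻¹ ∈ M := Subgroup.Normal.conj_mem inferInstance e he x
      have h1 := key' _ heM (by rw [map_mul, map_mul, map_inv, hxα, heα]; group)
      rw [map_mul, map_mul, map_inv, hxβ, key' e he heα, inv_inv] at h1
      have h2 : Commute (x * x) e := by
        show x * x * e = e * (x * x)
        calc x * x * e = x * (x * e * x⁻¹) * x := by group
          _ = x * (x⁻¹ * e * x) * x := by rw [h1]
          _ = e * (x * x) := by group
      obtain ⟨k, hk⟩ := exists_sqrt_inverted ho (w := x)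
      have h3 : Commute x e := by
        rw [← hk, ← pow_add, ← two_mul, pow_mul, pow_two]
        exact h2.pow_left _
      rw [h3.eq, mul_inv_cancel_right]
    -- `α c = y⁻¹ c⁻¹ y`
    have hαc : α c = y⁻¹ * c⁻¹ * y := by
      rw [hc, map_mul, map_mul, map_mul, map_inv, map_inv, hxα, hyα]; group
    have hβc : β c = x⁻¹ * c⁻¹ * x := by
      rw [hc, map_mul, map_mul, map_mul, map_inv, map_inv, hxβ, hyβ]; group
    have hβ1 : β c = c := by
      set e := c * (β c)⁻¹ with he
      have heM : e ∈ M := mul_mem hcM (inv_mem (hMβ c hcM))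
      have heβ : β e = e⁻¹ := by rw [he, map_mul, map_inv, hβ, mul_inv_rev, inv_inv]
      have h1 : α e = e := key e heM heβ
      have h2 : α e = y⁻¹ * e⁻¹ * y := by
        have hcc : (β c) * c⁻¹ = c⁻¹ * β c := hMab _ (hMβ c hcM) _ (inv_mem hcM)
        rw [he, map_mul, map_inv, hαβ, hαc, map_mul, map_mul, map_inv, map_inv, hyβ,
          show (y⁻¹ * c⁻¹ * y) * (y⁻¹ * (β c)⁻¹ * y)⁻¹ = y⁻¹ * (c⁻¹ * β c) * y by group, ← hcc]
        group
      have h3 : y⁻¹ * e⁻¹ * y = e⁻¹ := by
        have := hyfix e⁻¹ (inv_mem heM) (by rw [map_inv, heβ])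
        calc y⁻¹ * e⁻¹ * y = y⁻¹ * (y * e⁻¹ * y⁻¹) * y := by rw [this]
          _ = e⁻¹ := by group
      rw [h3, h1] at h2
      have h4 := one_of_sq ho (x := e) (by rw [mul_eq_one_iff_eq_inv]; exact h2)
      rw [he, mul_inv_eq_one] at h4
      exact h4.symm
    have hα1 : α c = c := by
      set e := c * (α c)⁻¹ with he
      have heM : e ∈ M := mul_mem hcM (inv_mem (hMα c hcM))
      have heα : α e = e⁻¹ := by rw [he, map_mul, map_inv, hα, mul_inv_rev, inv_inv]
      have h1 : β e = e := key' e heM heα
      have h2 : β e = x⁻¹ * e⁻¹ * x := by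
        have hcc : (α c) * c⁻¹ = c⁻¹ * α c := hMab _ (hMα c hcM) _ (inv_mem hcM)
        rw [he, map_mul, map_inv, ← hαβ, hβc, map_mul, map_mul, map_inv, map_inv, hxα,
          show (x⁻¹ * c⁻¹ * x) * (x⁻¹ * (α c)⁻¹ * x)⁻¹ = x⁻¹ * (c⁻¹ * α c) * x by group, ← hcc]
        group
      have h3 : x⁻¹ * e⁻¹ * x = e⁻¹ := by
        have := hxfix e⁻¹ (inv_mem heM) (by rw [map_inv, heα])
        calc x⁻¹ * e⁻¹ * x = x⁻¹ * (x * e⁻¹ * x⁻¹) * x := by rw [this]
          _ = e⁻¹ := by group
      rw [h3, h1] at h2
      have h4 := one_of_sq ho (x := e) (by rw [mul_eq_one_iff_eq_inv]; exact h2)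
      rw [he, mul_inv_eq_one] at h4
      exact h4.symm
    have hinv : y * c * y⁻¹ = c⁻¹ := by
      rw [hα1] at hαc
      calc y * c * y⁻¹ = y * (y⁻¹ * c⁻¹ * y) * y⁻¹ := by rw [← hαc]
        _ = c⁻¹ := by group
    have h2 : Commute (y * y) c := by
      show y * y * c = c * (y * y)
      calc y * y * c = y * (y * c * y⁻¹) * y := by group
        _ = y * c⁻¹ * y⁻¹ * (y * y) := by rw [hinv]; group
        _ = (y * c * y⁻¹)⁻¹ * (y * y) := by group
        _ = c * (y * y) := by rw [hinv, inv_inv]
    obtain ⟨k, hk⟩ := exists_sqrt_inverted ho (w := y)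
    have h3 : Commute y c := by
      rw [← hk, ← pow_add, ← two_mul, pow_mul, pow_two]
      exact h2.pow_left _
    rw [h3.eq, mul_inv_cancel_right] at hinv
    have hc1 := one_of_sq ho (x := c) (by rw [mul_eq_one_iff_eq_inv]; exact hinv)
    show x * y = y * x
    calc x * y = c * (y * x) := by rw [hc]; group
      _ = y * x := by rw [hc1, one_mul]

end Cfsg.Lib.JTwoSimple
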