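import Cfsg.Agent.JTwoSimple.Control
import Cfsg.Agent.JTwoSimple.Pair
import Cfsg.Agent.LFourType.Functor

/-!
The odd core of the centraliser of `z` as a group acted on by `Q`, when `A` centralises its part at the fixed point.
-/

set_option autoImplicit false
set_option linter.unusedSectionVars false
set_option linter.style.haveILetI false
set_option synthInstance.maxSize 4096
set_option synthInstance.maxHeartbeats 400000
set_option maxRecDepth 100000

namespace Cfsg.Lib.JTwoSimple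

open Subgroup Equiv Cfsg.Lib.HallJankoType
open Cfsg.Lib.JTwoSyl (SC smul' InU InZ EqZ vc zc ac inv' comm')
open Cfsg.Lib.Walter (Oc)
open Cfsg.Lib.LFourType (odd_Oc Oc_le le_of_four')

universe u

local notation "τ₁" => Cfsg.Lib.HallJankoType.tau1
local notation "τ₂" => Cfsg.Lib.HallJankoType.tau2

theorem to_point : ∀ i : Fin 5, i ≠ 4 →
    ∃ ρ : Perm (Fin 5), Perm.sign ρ = 1 ∧ (ρ * τ₁ * ρ⁻¹) 4 = i := by decide +kernel

theorem triple : ∀ i : Fin 5, i ≠ 4 → ∃ j k l : Fin 5, j ≠ 4 ∧ l ≠ 4 ∧ j ≠ l ∧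
    smul' (smul' (ac j) (ac k)) (ac 4) = smul' (ac 4) (smul' (ac j) (ac k)) ∧
    smul' (smul' (ac j) (ac k)) (ac i) = smul' (ac i) (smul' (ac j) (ac k)) ∧
    smul' (smul' (ac k) (ac l)) (ac 4) = smul' (ac 4) (smul' (ac k) (ac l)) ∧
    smul' (smul' (ac k) (ac l)) (ac i) = smul' (ac i) (smul' (ac k) (ac l)) ∧
    EqZ (ac l) (smul' (smul' (ac 4) (ac i)) (smul' (ac j) (ac k))) ∧
    EqZ (ac j) (smul' (smul' (ac 4) (ac i)) (smul' (ac k) (ac l))) := by decide +kernel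

theorem anti : ∀ i j : Fin 5, i ≠ j → smul' (ac i) (ac j) ≠ smul' (ac j) (ac i) ∧
    smul' (smul' zc (ac i)) (ac j) ≠ smul' (ac j) (smul' zc (ac i)) ∧
    smul' (ac i) (ac j) = smul' zc (smul' (ac j) (ac i)) := by decide +kernel

theorem gen_facts : (¬ InZ (ac 4) ∧ ¬ InZ (ac 0) ∧ ¬ InZ (smul' (ac 4) (ac 0))) ∧
    (¬ InZ (ac 1) ∧ ¬ InZ (ac 2) ∧ ¬ InZ (smul' (ac 1) (ac 2))) ∧
    smul' (ac 1) (smul' (ac 4) (ac 0)) = smul' (smul' (ac 4) (ac 0)) (ac 1) ∧
    smul' (ac 2) (smul' (ac 4) (ac 0)) = smul' (smul' (ac 4) (ac 0)) (ac 2) ∧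
    EqZ (ac 3) (smul' (smul' (ac 4) (ac 0)) (smul' (ac 1) (ac 2))) := by decide +kernel

theorem q_half : ∀ x : Cfsg.Lib.JTwoSyl.QC, ∀ j l : Fin 5, j ≠ l →
    smul' (x, false, false) (ac j) = smul' (ac j) (x, false, false) ∨
    smul' (smul' (x, false, false) (ac l)) (ac j) = smul' (ac j) (smul' (x, false, false) (ac l)) := by
  decide +kernel

namespace Ctx

variable {G : Type u} [Group G] [Finite G] (C : Ctx G)

theorem S_le_nQ : (C.S : Subgroup G) ≤ normalizer (C.Q : Set G) := fun s hs =>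
  Cfsg.Lib.ZStarApps.mem_normalizer_of_maps fun q hq => by
    obtain ⟨Y, rfl⟩ := C.M.surj s hs
    obtain ⟨X, hX, rfl⟩ := C.Q_code hq
    show C.e Y * C.e X * (C.e Y)⁻¹ ∈ C.Q
    rw [C.M.inv_ev, C.e_mul, C.e_mul]
    exact C.mem_Q.2 (Cfsg.Lib.JTwoSyl.conj_q Y X hX)

theorem A_le_nE : C.A ≤ normalizer (C.E : Set G) := fun a ha =>
  Cfsg.Lib.ZStarApps.mem_normalizer_of_maps fun x hx => by
    obtain ⟨s, hs, rfl⟩ := C.A_code ha
    obtain ⟨t, ht, rfl⟩ := C.E_code hx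
    have h1 : C.e (comm' s t) ∈ C.U := C.mem_U.2 (Cfsg.Lib.JTwoSyl.comm_a s t hs (e_facts t ht).2.1)
    have h2 : C.e (comm' s t) = C.e s * C.e t * (C.e s)⁻¹ * (C.e t)⁻¹ := by
      rw [comm', ← C.e_mul, ← C.e_mul, ← C.e_mul, C.M.inv_ev, C.M.inv_ev]; group
    have := mul_mem (C.U_le_E h1) hx
    rw [h2] at this
    simpa using this

/-- the part of the core at the fixed point -/
def D : Subgroup G := Oc C.z ⊓ centralizer ({C.a₄} : Set G)

/-- the part centralised by `Q` -/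
def R : Subgroup G := Oc C.z ⊓ centralizer (C.Q : Set G)

/-- the part generated by elements inverted by the first point -/
def T : Subgroup G := closure {x : G | x ∈ C.D ∧ C.e (ac 0) * x * (C.e (ac 0))⁻¹ = x⁻¹}

/-- the conjugates of `T` at the other points -/
def L : Subgroup G :=
  ⨆ h : {h : G // ∃ hh : h ∈ C.NQ, (∀ r ∈ C.R, Commute h r) ∧ C.sg ⟨h, C.NQ_le hh⟩ 4 ≠ 4},
    C.T.map (MulAut.conj (h : G)).toMonoidHom

/-- the elements of the part commuting with the other conjugates -/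
def Y : Subgroup G := C.D ⊓ centralizer (C.L : Set G)

theorem D_le_O : C.D ≤ Oc C.z := inf_le_left

theorem odd_D : Odd (Nat.card C.D) := C.odd_O.of_dvd_nat (card_dvd_of_le C.D_le_O)

theorem T_le_D : C.T ≤ C.D := (closure_le _).2 fun _ hx => hx.1

theorem R_le_D : C.R ≤ C.D :=
  inf_le_inf_left _ (centralizer_le (Set.singleton_subset_iff.2 (C.mem_Q.2 rfl)))

theorem O_z_comm {x : G} (hx : x ∈ Oc C.z) : Commute C.z x :=
  (mem_centralizer_singleton_iff.1 (C.O_le hx)).symm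

/-- the first point normalises the part -/
theorem a0_D {x : G} (hx : x ∈ C.D) : C.e (ac 0) * x * (C.e (ac 0))⁻¹ ∈ C.D := by
  obtain ⟨hxO, hxa⟩ := mem_inf.1 hx
  set g := C.e (ac 0)
  have hgO : g * x * g⁻¹ ∈ Oc C.z := (mem_normalizer_iff.1 (C.O_normalized (C.e_cz _)) x).1 hxO
  refine mem_inf.2 ⟨hgO, mem_centralizer_singleton_iff.2 ?_⟩
  have hflip : g * C.a₄ * g⁻¹ = C.z * C.a₄ := by
    rw [C.M.inv_ev, C.e_mul, C.e_mul, flip_point, ← C.e_mul, C.e_zc]
  have h1 : Commute (g * x * g⁻¹) (C.z * C.a₄) :=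
    hflip ▸ (show Commute x C.a₄ from mem_centralizer_singleton_iff.1 hxa).map (MulAut.conj g).toMonoidHom
  have h2 := (C.O_z_comm hgO).symm.mul_right h1
  rwa [← mul_assoc, C.z_sq, one_mul] at h2

theorem D_decomp {x : G} (hx : x ∈ C.D) :
    ∃ y ∈ zpowers (x⁻¹ * (C.e (ac 0) * x * (C.e (ac 0))⁻¹)), y ∈ C.D ∧
      C.e (ac 0) * y * (C.e (ac 0))⁻¹ = y⁻¹ ∧ Commute (C.e (ac 0)) (x * y) := by
  set g := C.e (ac 0) with hg
  have hgg : g * g = 1 := (C.M.sq_iff _).2 (by decide +kernel)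
  set w := x⁻¹ * (g * x * g⁻¹) with hw
  have hwD : w ∈ C.D := mul_mem (inv_mem hx) (C.a0_D hx)
  have hwi : g * w * g⁻¹ = w⁻¹ := by
    have e1 : g⁻¹ = g := inv_eq_of_mul_eq_one_right hgg
    calc g * w * g⁻¹ = (g * x * g⁻¹)⁻¹ * ((g * g) * x * (g * g)⁻¹) := by rw [hw]; group
      _ = w⁻¹ := by rw [hgg, hw]; group
  obtain ⟨k, hk⟩ := Cfsg.Lib.LFourType.odd_orderOf C.odd_D hwD
  set y := w ^ (k + 1) with hy
  have hyy : y * y = w := by
    rw [hy, ← pow_add, show k + 1 + (k + 1) = orderOf w + 1 by omega, pow_succ, pow_orderOf_eq_one, one_mul]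
  have hyi : g * y * g⁻¹ = y⁻¹ := by rw [hy, ← conj_pow, hwi, inv_pow]
  refine ⟨y, pow_mem (mem_zpowers w) _, pow_mem hwD _, hyi, ?_⟩
  show g * (x * y) = x * y * g
  calc g * (x * y) = x * (x⁻¹ * (g * x * g⁻¹)) * (g * y * g⁻¹) * g := by group
    _ = x * (y * y) * y⁻¹ * g := by rw [← hw, hyy, hyi]
    _ = x * y * g := by group

/-- points commute with the corresponding conjugates -/
theorem conj_point {h : G} (hh : h ∈ C.NQ) {x : G} (hx : x ∈ Oc C.z) :
    Commute (h * x * h⁻¹) (C.e (ac (C.sg ⟨h, C.NQ_le hh⟩ 4))) ↔ Commute x C.a₄ := by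
  set i := C.sg ⟨h, C.NQ_le hh⟩ 4 with hi
  have hm : Commute (h * x * h⁻¹) (h * C.a₄ * h⁻¹) ↔ Commute x C.a₄ :=
    ⟨fun hc => by
      have := hc.map (MulAut.conj h⁻¹).toMonoidHom
      simpa [mul_assoc] using this, fun hc => hc.map (MulAut.conj h).toMonoidHom⟩
  rw [← hm]
  rcases C.NQ_act hh 4 with r | r <;> rw [← hi] at r <;> rw [show h * C.a₄ * h⁻¹ = _ from r]
  have hz : Commute (h * x * h⁻¹) C.z :=
    (C.O_z_comm ((mem_normalizer_iff.1 (C.O_normalized (C.NQ_le hh)) x).1 hx)).symm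
  refine ⟨fun hc => hz.mul_right hc, fun hc => ?_⟩
  have := hz.mul_right hc
  rwa [← mul_assoc, C.z_sq, one_mul] at this

theorem R_normalized {c : G} (hc : c ∈ C.NQ) {r : G} (hr : r ∈ C.R) : c * r * c⁻¹ ∈ C.R := by
  obtain ⟨hrO, hrQ⟩ := mem_inf.1 hr
  refine mem_inf.2 ⟨(mem_normalizer_iff.1 (C.O_normalized (C.NQ_le hc)) r).1 hrO, mem_centralizer_iff.2 fun q hq => ?_⟩
  have h1 := mem_centralizer_iff.1 hrQ _ ((mem_normalizer_iff.1 (inv_mem hc.2) q).1 hq)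
  calc q * (c * r * c⁻¹) = c * (c⁻¹ * q * c⁻¹⁻¹ * r) * c⁻¹ := by group
    _ = c * r * c⁻¹ * q := by rw [h1]; group

section

variable (hDA : C.D ≤ centralizer (C.A : Set G))
include hDA

theorem mem_R_of_a0 {x : G} (hx : x ∈ C.D) (h : Commute (C.e (ac 0)) x) : x ∈ C.R := by
  refine mem_inf.2 ⟨C.D_le_O hx, mem_centralizer_iff.2 fun q hq => ?_⟩
  obtain ⟨⟨X, p, r⟩, hX, rfl⟩ := C.Q_code hq
  simp only [Prod.mk.injEq] at hX
  obtain ⟨rfl, rfl⟩ := hX
  rcases hyper X 0 (by decide) with e' | e'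
  · exact mem_centralizer_iff.1 (hDA hx) _ (C.mem_A.2 e')
  · have h1 : Commute (C.e (X, false, false) * C.e (ac 0)) x := by
      rw [C.e_mul]; exact mem_centralizer_iff.1 (hDA hx) _ (C.mem_A.2 e')
    have := h1.mul_left h.inv_left
    rwa [mul_inv_cancel_right] at this

theorem D_le_T_R : C.D ≤ C.T ⊔ C.R := fun x hx => by
  obtain ⟨y, -, hyD, hyi, hc⟩ := C.D_decomp hx
  rw [show x = x * y * y⁻¹ by group]
  exact mul_mem (mem_sup_right (C.mem_R_of_a0 hDA (mul_mem hx hyD) hc))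
    (inv_mem (mem_sup_left (subset_closure ⟨hyD, hyi⟩)))

theorem D_le_nT : C.D ≤ normalizer (C.T : Set G) := by
  refine (C.D_le_T_R hDA).trans (sup_le le_normalizer fun r hr => ?_)
  refine Cfsg.Lib.ZStarApps.mem_normalizer_of_maps fun x hx => ?_
  have hle : C.T ≤ C.T.comap (MulAut.conj r).toMonoidHom := (closure_le _).2 fun y hy => by
    refine subset_closure ⟨mul_mem (mul_mem (C.R_le_D hr) hy.1) (inv_mem (C.R_le_D hr)), ?_⟩
    simp only [MulEquiv.coe_toMonoidHom, MulAut.conj_apply]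
    set g := C.e (ac 0)
    have hgr : g * r * g⁻¹ = r := by
      rw [mem_centralizer_iff.1 (mem_inf.1 hr).2 g (C.mem_Q.2 rfl), mul_inv_cancel_right]
    rw [conj_mul', conj_mul', hy.2, hgr, show g * r⁻¹ * g⁻¹ = (g * r * g⁻¹)⁻¹ by group, hgr]
    group
  exact hle hx

theorem exists_h {i : Fin 5} (hi : i ≠ 4) :
    ∃ h, ∃ hh : h ∈ C.NQ, (∀ r ∈ C.R, Commute h r) ∧ C.sg ⟨h, C.NQ_le hh⟩ 4 = i := by
  obtain ⟨ρ, hρ, hρi⟩ := to_point i hi
  obtain ⟨c, hc, hσ⟩ := C.exists_NQ_sg hρ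
  have hv : C.e vc ∈ C.NQ := ⟨C.e_cz _, C.S_le_nQ (C.e_mem _)⟩
  refine ⟨c * C.e vc * c⁻¹, mul_mem (mul_mem hc hv) (inv_mem hc), fun r hr => ?_, ?_⟩
  · have h1 := C.R_normalized (inv_mem hc) hr
    have h2 : Commute (C.e vc) (c⁻¹ * r * c⁻¹⁻¹) := mem_centralizer_iff.1 (hDA (C.R_le_D h1)) _ C.vc_A
    have := h2.map (MulAut.conj c).toMonoidHom
    simp only [MulEquiv.coe_toMonoidHom, MulAut.conj_apply] at this
    rwa [show c * (c⁻¹ * r * c⁻¹⁻¹) * c⁻¹ = r by group] at this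
  · rw [show (⟨c * C.e vc * c⁻¹, C.NQ_le (mul_mem (mul_mem hc hv) (inv_mem hc))⟩ : ↥C.C₀) =
        ⟨c, C.NQ_le hc⟩ * ⟨C.e vc, C.e_cz vc⟩ * ⟨c, C.NQ_le hc⟩⁻¹ from rfl,
      map_mul, map_mul, map_inv, hσ, C.sg_code]
    simpa [vc, bp] using hρi

theorem mem_L_sup {i : Fin 5} (hi : i ≠ 4) {x : G} (hx : x ∈ Oc C.z) (hc : Commute x (C.e (ac i))) :
    x ∈ C.L ⊔ C.D := by
  obtain ⟨h, hh, hR, hσ⟩ := C.exists_h hDA hi
  have hxO : h⁻¹ * x * h ∈ Oc C.z := by
    have := (mem_normalizer_iff.1 (C.O_normalized (inv_mem (C.NQ_le hh))) x).1 hx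
    rwa [inv_inv] at this
  have hd : h⁻¹ * x * h ∈ C.D := mem_inf.2 ⟨hxO, mem_centralizer_singleton_iff.2 ((C.conj_point hh hxO).1 (by
    rw [hσ, show h * (h⁻¹ * x * h) * h⁻¹ = x by group]; exact hc)).eq⟩
  have hle : C.D ≤ (C.L ⊔ C.D).comap (MulAut.conj h).toMonoidHom := by
    refine (C.D_le_T_R hDA).trans (sup_le (fun t ht => ?_) fun r hr => ?_)
    · exact mem_sup_left (mem_iSup_of_mem (⟨h, hh, hR, by rw [hσ]; exact hi⟩ : {h : G // ∃ hh : h ∈ C.NQ,
        (∀ r ∈ C.R, Commute h r) ∧ C.sg ⟨h, C.NQ_le hh⟩ 4 ≠ 4}) ⟨t, ht, rfl⟩)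
    · show h * r * h⁻¹ ∈ C.L ⊔ C.D
      rw [(hR r hr).eq, mul_inv_cancel_right]
      exact mem_sup_right (C.R_le_D hr)
  have := hle hd
  simp only [mem_comap, MulEquiv.coe_toMonoidHom, MulAut.conj_apply] at this
  rwa [show h * (h⁻¹ * x * h) * h⁻¹ = x by group] at this

theorem mem_R_of_two {j l : Fin 5} (hjl : j ≠ l) (hj : j ≠ 4) {x : G} (hx : x ∈ Oc C.z)
    (hcj : Commute x (C.e (ac j))) (hcl : Commute x (C.e (ac l))) : x ∈ C.R := by
  obtain ⟨h, hh, -, hσ⟩ := C.exists_h hDA hj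
  have hxO : h⁻¹ * x * h ∈ Oc C.z := by
    have := (mem_normalizer_iff.1 (C.O_normalized (inv_mem (C.NQ_le hh))) x).1 hx
    rwa [inv_inv] at this
  have hd : h⁻¹ * x * h ∈ C.D := mem_inf.2 ⟨hxO, mem_centralizer_singleton_iff.2 ((C.conj_point hh hxO).1 (by
    rw [hσ, show h * (h⁻¹ * x * h) * h⁻¹ = x by group]; exact hcj)).eq⟩
  have hhalf : ∀ q ∈ C.Q, Commute q (C.e (ac j)) → Commute q x := by
    intro q hq hqj
    have hq' : h⁻¹ * q * h ∈ C.Q := by
      have := (mem_normalizer_iff.1 (inv_mem hh.2) q).1 hq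
      rwa [inv_inv] at this
    have h1 : Commute (h⁻¹ * q * h) C.a₄ := by
      have h4 := C.NQ_act hh 4
      rw [hσ] at h4
      have hqz : Commute q C.z := C.M.z_central (C.Q_le hq)
      have hq4 : Commute q (h * C.a₄ * h⁻¹) := by
        rcases h4 with r | r <;> rw [show h * C.a₄ * h⁻¹ = _ from r]
        · exact hqj
        · exact hqz.mul_right hqj
      have := hq4.map (MulAut.conj h⁻¹).toMonoidHom
      simpa [mul_assoc] using this
    have h2 : Commute (h⁻¹ * q * h) (h⁻¹ * x * h) := mem_centralizer_iff.1 (hDA hd) _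
      ⟨C.Q_le hq', mem_centralizer_singleton_iff.2 h1.eq⟩
    have := h2.map (MulAut.conj h).toMonoidHom
    simpa [mul_assoc] using this
  refine mem_inf.2 ⟨hx, mem_centralizer_iff.2 fun q hq => ?_⟩
  obtain ⟨⟨X, p, r⟩, hX, rfl⟩ := C.Q_code hq
  simp only [Prod.mk.injEq] at hX
  obtain ⟨rfl, rfl⟩ := hX
  rcases q_half X j l hjl with e' | e'
  · exact hhalf _ hq ((C.M.commute_iff _ _).2 e')
  · have h1 := hhalf (C.e (X, false, false) * C.e (ac l)) (mul_mem hq (C.mem_Q.2 rfl))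
      (by rw [C.e_mul]; exact (C.M.commute_iff _ _).2 e')
    have := h1.mul_left hcl.symm.inv_left
    rwa [mul_inv_cancel_right] at this

omit hDA in
theorem comm_of_EqZ {X Y : SC} (h : EqZ X Y) {x : G} (hx : x ∈ Oc C.z) (hc : Commute x (C.e Y)) :
    Commute x (C.e X) := by
  rcases h with rfl | rfl
  · exact hc
  · rw [← C.e_mul, C.e_zc]; exact (C.O_z_comm hx).symm.mul_right hc

omit hDA in
/-- generation by the fixed points of two elements of `Q` -/
theorem gen_two {X M : Subgroup G} (hX : X ≤ Oc C.z) {P R' : SC} (hP : C.e P ∈ C.Q) (hR : C.e R' ∈ C.Q)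
    (hne : ¬ InZ P ∧ ¬ InZ R' ∧ ¬ InZ (smul' P R')) (hPX : C.e P ∈ normalizer (X : Set G))
    (hRX : C.e R' ∈ normalizer (X : Set G))
    (h1 : ∀ x ∈ X, Commute x (C.e P) → x ∈ M) (h2 : ∀ x ∈ X, Commute x (C.e R') → x ∈ M)
    (h3 : ∀ x ∈ X, Commute x (C.e P * C.e R') → x ∈ M) : X ≤ M := by
  classical
  set N := (zpowers C.z).subgroupOf C.C₀ with hN
  haveI : N.Normal := ⟨fun n hn g => by
    obtain ⟨k, hk⟩ := mem_zpowers_iff.1 (mem_subgroupOf.1 hn)
    refine mem_subgroupOf.2 ⟨k, ?_⟩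
    have hc : Commute (g : G) (C.z ^ k) :=
      (show Commute (g : G) C.z from mem_centralizer_singleton_iff.1 g.2).zpow_right k
    show C.z ^ k = (g : G) * (n : G) * (g : G)⁻¹
    rw [← hk, hc.eq, mul_inv_cancel_right]⟩
  set π := QuotientGroup.mk' N with hπ
  have hker : ∀ c : ↥C.C₀, π c = 1 ↔ (c : G) = 1 ∨ (c : G) = C.z := by
    intro c
    rw [hπ, QuotientGroup.mk'_apply, QuotientGroup.eq_one_iff, hN, mem_subgroupOf]
    constructor
    · intro h
      obtain ⟨i, hi⟩ := mem_zpowers_iff.1 h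
      obtain ⟨j, hj | hj⟩ := Int.even_or_odd' i
      · left; rw [← hi, hj, zpow_mul, zpow_two, C.z_sq, one_zpow]
      · right; rw [← hi, hj, zpow_add_one, zpow_mul, zpow_two, C.z_sq, one_zpow, one_mul]
    · rintro (h | h) <;> rw [h]
      · exact one_mem _
      · exact mem_zpowers _
  have hQC : ∀ q ∈ C.Q, q ∈ C.C₀ := fun q hq => C.S_le (C.Q_le hq)
  set p : ↥C.C₀ := ⟨C.e P, C.e_cz P⟩
  set q : ↥C.C₀ := ⟨C.e R', C.e_cz R'⟩
  have hsq : ∀ {W : SC}, C.e W ∈ C.Q → π (⟨C.e W, C.e_cz W⟩ * ⟨C.e W, C.e_cz W⟩) = 1 := by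
    intro W hW
    refine (hker _).2 ?_
    show C.e W * C.e W = 1 ∨ C.e W * C.e W = C.z
    rw [C.e_mul]
    exact (C.M.inZ_iff _).2 (q_sq' W (C.mem_Q.1 hW))
  have hPR : C.e P * C.e R' ∈ C.Q := mul_mem hP hR
  have hpq : π p * π q = π q * π p := by
    have h : π (p * q) * π (p * q) = 1 := by
      rw [← map_mul, show p * q = ⟨C.e (smul' P R'), C.e_cz _⟩ from Subtype.ext (C.e_mul P R')]
      exact hsq (by rw [← C.e_mul]; exact hPR)
    have hp1 : π p * π p = 1 := by rw [← map_mul]; exact hsq hP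
    have hq1 : π q * π q = 1 := by rw [← map_mul]; exact hsq hR
    rw [map_mul] at h
    calc π p * π q = π p * π p * (π q * π p) * (π q * π q) * ((π p * π q * (π p * π q))⁻¹ * (π p * π q * (π p * π q))) := by
          rw [hp1, hq1, one_mul, mul_one]
          rw [inv_mul_cancel, mul_one]
          exact (eq_inv_of_mul_eq_one_left h).trans (by rw [mul_inv_rev, inv_eq_of_mul_eq_one_right hp1,
            inv_eq_of_mul_eq_one_right hq1])
      _ = π q * π p := by rw [hp1, hq1, one_mul, mul_one, inv_mul_cancel, mul_one]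
  have hnZ : ∀ {W : SC}, ¬ InZ W → π ⟨C.e W, C.e_cz W⟩ ≠ 1 := fun hW h => hW ((C.M.inZ_iff _).1 ((hker _).1 h))
  let F : Bool × Bool → ↥C.C₀ ⧸ N := fun b => (if b.1 then π p else 1) * (if b.2 then π q else 1)
  have hp1 : π p * π p = 1 := by rw [← map_mul]; exact hsq hP
  have hq1 : π q * π q = 1 := by rw [← map_mul]; exact hsq hR
  have hpqne : π p * π q ≠ 1 := by
    rw [← map_mul, show p * q = ⟨C.e (smul' P R'), C.e_cz _⟩ from Subtype.ext (C.e_mul P R')]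
    exact hnZ hne.2.2
  have hne_pq : π p ≠ π q := fun h => hpqne (by rw [h, hq1])
  have hFinj : Function.Injective F := by
    have hp0 := hnZ hne.1
    have hq0 := hnZ hne.2.1
    rintro ⟨a, b⟩ ⟨a', b'⟩ h
    cases a <;> cases b <;> cases a' <;> cases b' <;>
      simp only [F, if_true, if_false, Bool.false_eq_true, one_mul, mul_one] at h <;>
      first
        | rfl
        | exact absurd h hp0 | exact absurd h.symm hp0 | exact absurd h hq0 | exact absurd h.symm hq0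
        | exact absurd h hpqne | exact absurd h.symm hpqne | exact absurd h hne_pq | exact absurd h.symm hne_pq
        | exact absurd (mul_eq_left.1 h) hq0 | exact absurd (mul_eq_left.1 h.symm) hq0
        | exact absurd (mul_eq_right.1 h) hp0 | exact absurd (mul_eq_right.1 h.symm) hp0
  let E4 : Subgroup (↥C.C₀ ⧸ N) :=
    { carrier := Set.range F
      one_mem' := ⟨(false, false), by simp [F]⟩
      mul_mem' := by
        rintro _ _ ⟨a, rfl⟩ ⟨b, rfl⟩
        refine ⟨(xor a.1 b.1, xor a.2 b.2), ?_⟩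
        obtain ⟨a, a'⟩ := a
        obtain ⟨b, b'⟩ := b
        have e1 : π q * (π p * π q) = π p := by rw [hpq, ← mul_assoc, hq1, one_mul]
        have e2 : π p * π q * π p = π q := by rw [hpq, mul_assoc, hp1, mul_one]
        have e3 : π p * π q * π q = π p := by rw [mul_assoc, hq1, mul_one]
        have e4 : π p * (π p * π q) = π q := by rw [← mul_assoc, hp1, one_mul]
        have e5 : π p * π q * (π p * π q) = 1 := by rw [← mul_assoc, e2, hq1]
        cases a <;> cases a' <;> cases b <;> cases b' <;>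
          simp [F, hp1, hq1, e1, e2, e3, e4, e5, ← hpq]
      inv_mem' := by
        rintro _ ⟨⟨a, b⟩, rfl⟩
        refine ⟨(a, b), ?_⟩
        cases a <;> cases b <;>
          simp [F, inv_eq_of_mul_eq_one_right hp1, inv_eq_of_mul_eq_one_right hq1, ← hpq] }
  have hcard : 4 ≤ Nat.card E4 := by
    have h := Nat.card_le_card_of_injective (fun b => (⟨F b, b, rfl⟩ : E4))
      fun a b h => hFinj (congrArg Subtype.val h)
    simpa using h
  have hcommE : ∀ a ∈ E4, ∀ b ∈ E4, Commute a b := by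
    rintro _ ⟨⟨a, a'⟩, rfl⟩ _ ⟨⟨b, b'⟩, rfl⟩
    have hc : Commute (π p) (π q) := hpq
    have c1 : ∀ s t : Bool, Commute (if s then π p else 1) (if t then π q else 1) := fun s t => by
      cases s <;> cases t <;> simp [hc]
    have c2 : ∀ s t : Bool, Commute (if s then π p else 1) (if t then π p else 1) := fun s t => by
      cases s <;> cases t <;> simp
    have c3 : ∀ s t : Bool, Commute (if s then π q else 1) (if t then π q else 1) := fun s t => by
      cases s <;> cases t <;> simp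
    exact ((c2 a b).mul_right (c1 a b')).mul_left ((c1 b a').symm.mul_right (c3 a' b'))
  set X' := (X.subgroupOf C.C₀).map π
  set M' := (M.subgroupOf C.C₀).map π
  have hXC : X ≤ C.C₀ := hX.trans C.O_le
  have hXo : Odd (Nat.card X') := ((C.odd_O.of_dvd_nat (card_dvd_of_le hX)).of_dvd_nat
    ((card_map_dvd _ _).trans (dvd_of_eq (Nat.card_congr (subgroupOfEquivOfLe hXC).toEquiv))))
  have hnorm : ∀ c : ↥C.C₀, (c : G) ∈ normalizer (X : Set G) → π c ∈ normalizer (X' : Set (↥C.C₀ ⧸ N)) := by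
    intro c hc
    refine Cfsg.Lib.ZStarApps.mem_normalizer_of_maps ?_
    rintro _ ⟨x, hx, rfl⟩
    exact ⟨c * x * c⁻¹, mem_subgroupOf.2 ((mem_normalizer_iff.1 hc _).1 (mem_subgroupOf.1 hx)), by
      rw [map_mul, map_mul, map_inv]⟩
  have hfix : ∀ c : ↥C.C₀, (∀ x ∈ X, Commute x (c : G) → x ∈ M) →
      X' ⊓ centralizer ({π c} : Set (↥C.C₀ ⧸ N)) ≤ M' := by
    intro c hc y hy
    obtain ⟨⟨x, hx, rfl⟩, hyc⟩ := hy
    refine ⟨x, mem_subgroupOf.2 (hc _ (mem_subgroupOf.1 hx) ?_), rfl⟩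
    have h1 : π (x * c * x⁻¹ * c⁻¹) = 1 := by
      rw [map_mul, map_mul, map_mul, map_inv, map_inv, mem_centralizer_singleton_iff.1 hyc]; group
    have hxO : (x : G) ∈ Oc C.z := hX (mem_subgroupOf.1 hx)
    have hO : (x : G) * c * (x : G)⁻¹ * (c : G)⁻¹ ∈ Oc C.z := by
      rw [show (x : G) * c * (x : G)⁻¹ * (c : G)⁻¹ = x * ((c : G) * (x : G)⁻¹ * (c : G)⁻¹) by group]
      exact mul_mem hxO ((mem_normalizer_iff.1 (C.O_normalized c.2) _).1 (inv_mem hxO))
    rcases (hker _).1 h1 with r | r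
    · show (x : G) * c = c * x
      have r' : (x : G) * c * (x : G)⁻¹ * (c : G)⁻¹ = 1 := r
      rw [mul_inv_eq_one, mul_inv_eq_iff_eq_mul] at r'
      exact r'
    · exfalso
      have r' : (x : G) * c * (x : G)⁻¹ * (c : G)⁻¹ = C.z := r
      rw [r'] at hO
      exact C.z_ne (Cfsg.Lib.AltEightType.eq_one_of_odd_two C.odd_O hO C.z_sq)
  have hmain : X' ≤ M' := by
    refine le_of_four' (E := E4) hcard hcommE ?_ hXo ?_ ?_
    · rintro _ ⟨⟨a, b⟩, rfl⟩
      have hc : Commute (π p) (π q) := hpq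
      cases a <;> cases b <;> simp only [F, if_true, if_false, Bool.false_eq_true, one_mul, mul_one]
      · exact hq1
      · exact hp1
      · rw [hc.symm.mul_mul_mul_comm, hp1, hq1, one_mul]
    · rintro _ ⟨⟨a, b⟩, rfl⟩
      refine mul_mem ?_ ?_
      · cases a
        · exact one_mem _
        · exact hnorm p hPX
      · cases b
        · exact one_mem _
        · exact hnorm q hRX
    · rintro _ ⟨⟨a, b⟩, rfl⟩ hne1
      cases a <;> cases b <;> simp only [F, if_true, if_false, Bool.false_eq_true, one_mul, mul_one] at hne1 ⊢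
      · exact absurd rfl hne1
      · exact hfix q h2
      · exact hfix p h1
      · rw [← map_mul]; exact hfix (p * q) h3
  intro x hx
  obtain ⟨m, hm, e'⟩ := hmain (⟨⟨x, hXC hx⟩, mem_subgroupOf.2 hx, rfl⟩ : π ⟨x, hXC hx⟩ ∈ X')
  have h1 : π (m⁻¹ * ⟨x, hXC hx⟩) = 1 := by rw [map_mul, map_inv, e', inv_mul_cancel]
  rcases (hker _).1 h1 with r | r
  · have r' : (m : G)⁻¹ * x = 1 := r
    rw [inv_mul_eq_one] at r'
    rw [← r']; exact mem_subgroupOf.1 hm
  · have r' : (m : G)⁻¹ * x = C.z := r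
    have hmx : (m : G) = x * C.z := by
      have e0 : x = (m : G) * C.z := by rw [← r']; group
      rw [e0, mul_assoc, C.z_sq, mul_one]
    -- an odd power recovers `x`
    obtain ⟨k, hk⟩ := Cfsg.Lib.LFourType.odd_orderOf C.odd_O (hX hx)
    have hc : Commute x C.z := (C.O_z_comm (hX hx)).symm
    have h2 : ((x * C.z) ^ 2) ^ (k + 1) = x := by
      rw [hc.mul_pow, pow_two C.z, C.z_sq, mul_one, ← pow_mul, show 2 * (k + 1) = orderOf x + 1 by omega, pow_succ,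
        pow_orderOf_eq_one, one_mul]
    rw [← h2, ← hmx]
    exact pow_mem (pow_mem (mem_subgroupOf.1 hm) _) _

theorem O_le_L_D : Oc C.z ≤ C.L ⊔ C.D := by
  obtain ⟨⟨f1, f2, f3⟩, hne, c1, c2, h3⟩ := gen_facts
  have hD : ∀ x ∈ Oc C.z, Commute x C.a₄ → x ∈ C.L ⊔ C.D := fun x hx h =>
    mem_sup_right (mem_inf.2 ⟨hx, mem_centralizer_singleton_iff.2 h.eq⟩)
  have hQ : ∀ i, C.e (ac i) ∈ C.Q := fun i => C.mem_Q.2 rfl
  have hn : ∀ i, C.e (ac i) ∈ normalizer (Oc C.z : Set G) := fun i => C.O_normalized (C.e_cz _)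
  refine C.gen_two le_rfl (hQ 4) (hQ 0) ⟨f1, f2, f3⟩ (hn 4) (hn 0) hD
    (fun x hx h => C.mem_L_sup hDA (by decide) hx h) fun x hx h => ?_
  set X1 := Oc C.z ⊓ centralizer ({C.e (ac 4) * C.e (ac 0)} : Set G)
  have hX1 : ∀ i, smul' (ac i) (smul' (ac 4) (ac 0)) = smul' (smul' (ac 4) (ac 0)) (ac i) →
      C.e (ac i) ∈ normalizer (X1 : Set G) := fun i hi =>
    Cfsg.Lib.LFourType.mem_normalizer_inf (hn i) (le_normalizer (mem_centralizer_singleton_iff.2 (by
      rw [C.e_mul]; exact ((C.M.commute_iff _ _).2 hi).eq)))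
  refine C.gen_two (X := X1) inf_le_left (hQ 1) (hQ 2) hne (hX1 1 c1) (hX1 2 c2)
    (fun y hy h' => C.mem_L_sup hDA (by decide) hy.1 h') (fun y hy h' => C.mem_L_sup hDA (by decide) hy.1 h')
    (fun y hy h' => C.mem_L_sup hDA (i := 3) (by decide) hy.1 (C.comm_of_EqZ h3 hy.1 ?_))
    (⟨hx, mem_centralizer_singleton_iff.2 h.eq⟩ : x ∈ X1)
  rw [← C.e_mul, ← C.e_mul (ac 4), ← C.e_mul (ac 1)]
  exact (show Commute y (C.e (ac 4) * C.e (ac 0)) from mem_centralizer_singleton_iff.1 hy.2).mul_right h'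

theorem inverts {x : G} (hx : x ∈ C.D) (hi : C.e (ac 0) * x * (C.e (ac 0))⁻¹ = x⁻¹) {q : G} (hq : q ∈ C.Q)
    (hn : ¬ Commute q C.a₄) : q * x * q⁻¹ = x⁻¹ := by
  obtain ⟨⟨X, p, r⟩, hX, rfl⟩ := C.Q_code hq
  simp only [Prod.mk.injEq] at hX
  obtain ⟨rfl, rfl⟩ := hX
  set g := C.e (ac 0)
  have h1 : C.e (X, false, false) * g ∈ C.A := by
    rcases hyper X 0 (by decide) with e' | e'
    · exact absurd ((C.M.commute_iff _ _).2 e') hn
    · rw [C.e_mul]; exact C.mem_A.2 e'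
  have hgg : g * g = 1 := (C.M.sq_iff _).2 (by decide +kernel)
  calc C.e (X, false, false) * x * (C.e (X, false, false))⁻¹
      = (C.e (X, false, false) * g) * (g⁻¹ * x * g⁻¹⁻¹) * (C.e (X, false, false) * g)⁻¹ := by group
    _ = x⁻¹ := by
        rw [inv_eq_of_mul_eq_one_right hgg, hi, mem_centralizer_iff.1 (inv_mem (hDA hx)) _ h1,
          mul_inv_cancel_right]

theorem T_commute {h : G} (hh : h ∈ C.NQ) (h4 : C.sg ⟨h, C.NQ_le hh⟩ 4 ≠ 4) {x x' : G} (hx : x ∈ C.D)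
    (hxi : C.e (ac 0) * x * (C.e (ac 0))⁻¹ = x⁻¹) (hx' : x' ∈ C.D)
    (hxi' : C.e (ac 0) * x' * (C.e (ac 0))⁻¹ = x'⁻¹) : Commute x (h * x' * h⁻¹) := by
  set i := C.sg ⟨h, C.NQ_le hh⟩ 4 with hi
  obtain ⟨j, k, l, hj4, hl4, hjl, P4, Pi, Q4, Qi, hl', hj'⟩ := triple i h4
  set α := C.e (ac 4)
  set β := C.e (ac i)
  set P := C.e (smul' (ac j) (ac k))
  set Q := C.e (smul' (ac k) (ac l))
  have hPQ : P ∈ C.Q ∧ Q ∈ C.Q := ⟨C.mem_Q.2 (by simp [ac, smul']), C.mem_Q.2 (by simp [ac, smul'])⟩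
  set K := Oc C.z ⊓ centralizer ({P} : Set G) ⊓ centralizer ({Q} : Set G) with hK
  have hcm : ∀ {a b : SC}, smul' a b = smul' b a → Commute (C.e a) (C.e b) := fun h => (C.M.commute_iff _ _).2 h
  have hn : ∀ X : SC, Commute P (C.e X) → Commute Q (C.e X) → C.e X ∈ normalizer (K : Set G) := fun X h1 h2 =>
    Cfsg.Lib.LFourType.mem_normalizer_inf (Cfsg.Lib.LFourType.mem_normalizer_inf (C.O_normalized (C.e_cz X))
      (le_normalizer (mem_centralizer_singleton_iff.2 h1.symm.eq)))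
      (le_normalizer (mem_centralizer_singleton_iff.2 h2.symm.eq))
  have hαn : α ∈ normalizer (K : Set G) := hn _ (hcm P4) (hcm Q4)
  have hβn : β ∈ normalizer (K : Set G) := hn _ (hcm Pi) (hcm Qi)
  have hKz : ∀ y : ↥K, Commute C.z (y : G) := fun y => C.O_z_comm y.2.1.1
  let fa : ↥K →* ↥K := (normalizerMonoidHom K ⟨α, hαn⟩).toMonoidHom
  let fb : ↥K →* ↥K := (normalizerMonoidHom K ⟨β, hβn⟩).toMonoidHom
  have fa_val : ∀ y : ↥K, ((fa y : ↥K) : G) = α * y * α⁻¹ := fun _ => rfl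
  have fb_val : ∀ y : ↥K, ((fb y : ↥K) : G) = β * y * β⁻¹ := fun _ => rfl
  have hsq : ∀ m : Fin 5, C.e (ac m) * C.e (ac m) = 1 := fun m => (C.M.sq_iff _).2 (by revert m; decide +kernel)
  have hab : α * β = C.z * (β * α) := by
    rw [C.e_mul, C.e_mul, (anti 4 i (Ne.symm h4)).2.2, ← C.e_mul, C.e_zc]
  -- `x` and its partner
  have hxK : x ∈ K := by
    refine mem_inf.2 ⟨mem_inf.2 ⟨C.D_le_O hx, ?_⟩, ?_⟩ <;> refine mem_centralizer_singleton_iff.2 ?_
    · exact (mem_centralizer_iff.1 (hDA hx) P (C.mem_A.2 P4)).symm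
    · exact (mem_centralizer_iff.1 (hDA hx) Q (C.mem_A.2 Q4)).symm
  have hback : ∀ {X : SC}, C.e X ∈ C.Q → (smul' X (ac i) = smul' (ac i) X ↔ Commute (h⁻¹ * C.e X * h) C.a₄) := by
    intro X hX
    rw [← C.M.commute_iff]
    have hz : Commute (C.e X) C.z := C.M.z_central (C.e_mem X)
    have key : Commute (C.e X) (h * C.a₄ * h⁻¹) ↔ Commute (C.e X) (C.e (ac i)) := by
      rcases C.NQ_act hh 4 with r | r <;> rw [← hi] at r <;> rw [show h * C.a₄ * h⁻¹ = _ from r]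
      refine ⟨fun hc => ?_, fun hc => hz.mul_right hc⟩
      have := hz.mul_right hc
      rwa [← mul_assoc, C.z_sq, one_mul] at this
    refine key.symm.trans ⟨fun hc => ?_, fun hc => ?_⟩
    · have := hc.map (MulAut.conj h⁻¹).toMonoidHom
      simpa [mul_assoc] using this
    · have := hc.map (MulAut.conj h).toMonoidHom
      simpa [mul_assoc] using this
  have hconjQ : ∀ {q : G}, q ∈ C.Q → h⁻¹ * q * h ∈ C.Q := fun {q} hq => by
    have := (mem_normalizer_iff.1 (inv_mem hh.2) q).1 hq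
    rwa [inv_inv] at this
  set y := h * x' * h⁻¹ with hy
  have hyO : y ∈ Oc C.z := (mem_normalizer_iff.1 (C.O_normalized (C.NQ_le hh)) x').1 (C.D_le_O hx')
  have hyfix : ∀ {X : SC}, C.e X ∈ C.Q → smul' X (ac i) = smul' (ac i) X → Commute y (C.e X) := by
    intro X hX hXi
    have h1 : Commute x' (h⁻¹ * C.e X * h) := (mem_centralizer_iff.1 (hDA hx') _
      ⟨C.Q_le (hconjQ hX), mem_centralizer_singleton_iff.2 ((hback hX).1 hXi).eq⟩).symm
    have := h1.map (MulAut.conj h).toMonoidHom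
    simpa [hy, mul_assoc] using this
  have hyK : y ∈ K := mem_inf.2 ⟨mem_inf.2 ⟨hyO, mem_centralizer_singleton_iff.2 (hyfix hPQ.1 Pi).eq⟩,
    mem_centralizer_singleton_iff.2 (hyfix hPQ.2 Qi).eq⟩
  have hyα : α * y * α⁻¹ = y⁻¹ := by
    have h1 := C.inverts hDA hx' hxi' (hconjQ (C.mem_Q.2 rfl : α ∈ C.Q))
      fun hc => (anti 4 i (Ne.symm h4)).1 ((hback (C.mem_Q.2 rfl)).2 hc)
    calc α * y * α⁻¹ = h * (h⁻¹ * α * h * x' * (h⁻¹ * α * h)⁻¹) * h⁻¹ := by rw [hy]; group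
      _ = y⁻¹ := by rw [h1, hy]; group
  have hxβ : β * x * β⁻¹ = x⁻¹ := C.inverts hDA hx hxi (C.mem_Q.2 rfl)
    fun hc => (anti i 4 h4).1 ((C.M.commute_iff _ _).1 hc)
  refine congrArg Subtype.val (pair_commute (C.odd_O.of_dvd_nat (card_dvd_of_le (inf_le_left.trans inf_le_left)))
    fa fb (fun w => Subtype.ext ?_) (fun w => Subtype.ext ?_) (fun w => Subtype.ext ?_) (fun w hw => Subtype.ext ?_)
    (x := ⟨x, hxK⟩) (y := ⟨y, hyK⟩) (Subtype.ext ?_) (Subtype.ext ?_) (Subtype.ext ?_) (Subtype.ext ?_)).eq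
  · rw [fa_val, fa_val, show α * (α * w * α⁻¹) * α⁻¹ = α * α * w * (α * α)⁻¹ by group, hsq]; group
  · rw [fb_val, fb_val, show β * (β * w * β⁻¹) * β⁻¹ = β * β * w * (β * β)⁻¹ by group, hsq]; group
  · rw [fa_val, fb_val, fb_val, fa_val]
    calc α * (β * w * β⁻¹) * α⁻¹ = α * β * w * (α * β)⁻¹ := by group
      _ = C.z * (β * α * w * (β * α)⁻¹) * C.z⁻¹ := by rw [hab]; group
      _ = β * (α * w * α⁻¹) * β⁻¹ := by
          have h1 := hKz ⟨_, (mem_normalizer_iff.1 (mul_mem hβn hαn) (w : G)).1 w.2⟩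
          rw [h1.eq, mul_inv_cancel_right]; group
  · have hw' : α * β * w * (α * β)⁻¹ = w := by
      calc α * β * w * (α * β)⁻¹ = α * (β * w * β⁻¹) * α⁻¹ := by group
        _ = w := congrArg Subtype.val hw
    have hwc : Commute (w : G) (C.e (ac 4) * C.e (ac i)) := (mul_inv_eq_iff_eq_mul.1 hw').symm
    obtain ⟨⟨hwO, hwP⟩, hwQ⟩ := w.2
    have hwl := C.comm_of_EqZ hl' hwO (by
      rw [← C.e_mul, ← C.e_mul (ac 4)]
      exact hwc.mul_right (mem_centralizer_singleton_iff.1 hwP))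
    have hwj := C.comm_of_EqZ hj' hwO (by
      rw [← C.e_mul, ← C.e_mul (ac 4)]
      exact hwc.mul_right (mem_centralizer_singleton_iff.1 hwQ))
    have := mem_centralizer_iff.1 (mem_inf.1 (C.mem_R_of_two hDA hjl hj4 hwO hwj hwl)).2 α (C.mem_Q.2 rfl)
    rw [fa_val, this, mul_inv_cancel_right]
  · show α * x * α⁻¹ = x
    rw [← mem_centralizer_singleton_iff.1 (mem_inf.1 hx).2, mul_inv_cancel_right]
  · exact hxβ
  · exact hyα
  · show β * y * β⁻¹ = y
    rw [← (hyfix (C.mem_Q.2 rfl) rfl).eq, mul_inv_cancel_right]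

theorem T_le_Y : C.T ≤ C.Y := le_inf C.T_le_D <| by
  rw [le_centralizer_iff]
  refine iSup_le fun ⟨h, hh, _, h4⟩ => ?_
  rw [Subgroup.map_le_iff_le_comap, T, closure_le]
  intro x' hx'
  show h * x' * h⁻¹ ∈ centralizer (closure {x : G | x ∈ C.D ∧ C.e (ac 0) * x * (C.e (ac 0))⁻¹ = x⁻¹} : Set G)
  rw [centralizer_closure, mem_centralizer_iff]
  exact fun x hx => (C.T_commute hDA hh h4 hx.1 hx.2 hx'.1 hx'.2).eq

theorem cent_T_le_Y : C.D ⊓ centralizer (C.T : Set G) ≤ C.Y := by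
  intro p hp
  obtain ⟨hpD, hpT⟩ := mem_inf.1 hp
  obtain ⟨y, hyw, hyD, hyi, hc⟩ := C.D_decomp hpD
  set g := C.e (ac 0)
  have hgT : g ∈ normalizer (C.T : Set G) := by
    refine Cfsg.Lib.ZStarApps.mem_normalizer_of_maps fun x hx => ?_
    have hle : C.T ≤ C.T.comap (MulAut.conj g).toMonoidHom := (closure_le _).2 fun x hx => by
      show g * x * g⁻¹ ∈ C.T
      rw [hx.2]; exact inv_mem (subset_closure hx)
    exact hle hx
  have hw : p⁻¹ * (g * p * g⁻¹) ∈ centralizer (C.T : Set G) := by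
    refine mul_mem (inv_mem hpT) (mem_centralizer_iff.2 fun t ht => ?_)
    have h1 := mem_centralizer_iff.1 hpT _ ((mem_normalizer_iff.1 (inv_mem hgT) t).1 ht)
    calc t * (g * p * g⁻¹) = g * (g⁻¹ * t * g⁻¹⁻¹ * p) * g⁻¹ := by group
      _ = g * p * g⁻¹ * t := by rw [h1]; group
  have hyY : y ∈ C.Y := C.T_le_Y hDA (subset_closure ⟨hyD, hyi⟩)
  have hrR : p * y ∈ C.R := C.mem_R_of_a0 hDA (mul_mem hpD hyD) hc
  have hrT : p * y ∈ centralizer (C.T : Set G) := mul_mem hpT (zpowers_le.2 hw hyw)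
  have hr : p * y ∈ C.Y := mem_inf.2 ⟨mul_mem hpD hyD, by
    refine (le_centralizer_iff (H := C.L)).1 ?_ (mem_zpowers (p * y))
    refine iSup_le fun ⟨h, hh, hR, _⟩ => ?_
    rintro _ ⟨t, ht, rfl⟩
    refine mem_centralizer_iff.2 fun s hs => ?_
    obtain ⟨k, rfl⟩ := mem_zpowers_iff.1 hs
    have h1 : Commute (h * t * h⁻¹) (h * (p * y) * h⁻¹) :=
      (show Commute t (p * y) from mem_centralizer_iff.1 hrT t ht).map (MulAut.conj h).toMonoidHom
    rw [show h * (p * y) * h⁻¹ = p * y by rw [(hR _ hrR).eq, mul_inv_cancel_right]] at h1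
    exact ((h1.zpow_right k).eq).symm⟩
  have := mul_mem hr (inv_mem hyY)
  rwa [mul_inv_cancel_right] at this

theorem O_le_normalizer {X : Subgroup G} (hX : X ≤ C.Y) (hD : C.D ≤ normalizer (X : Set G)) :
    Oc C.z ≤ normalizer (X : Set G) :=
  (C.O_le_L_D hDA).trans (sup_le
    (((le_centralizer_iff.1 (hX.trans inf_le_right) : C.L ≤ centralizer (X : Set G))).trans
      (centralizer_le_normalizer _)) hD)

theorem O_le_D_of_T_eq_bot (h : C.T = ⊥) : Oc C.z ≤ C.D :=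
  (C.O_le_L_D hDA).trans (sup_le (iSup_le fun x => by rw [h, Subgroup.map_bot]; exact bot_le) le_rfl)

end

end Ctx

end Cfsg.Lib.JTwoSimple
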