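import Cfsg.Agent.JTwoSimple.Weak
import Cfsg.Agent.LFourType.Theta

/-!
Two classes of involutions: the signalizer functor at `E` and the invariant attached to it.
-/

set_option autoImplicit false
set_option linter.unusedSectionVars false
set_option linter.style.haveILetI false
set_option synthInstance.maxSize 4096
set_option synthInstance.maxHeartbeats 400000
set_option maxRecDepth 100000
set_option maxHeartbeats 400000

namespace Cfsg.Lib.JTwoSimple

open Subgroup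
open Cfsg.Lib.JTwoSyl (SC vc)
open Cfsg.Lib.Walter (Oc)
open Cfsg.Lib.LFourType (Dl Dl_le Dl_le_cent le_Dl odd_Dl Dl_anti cent_le_normalizer_Dl mem_normalizer_inf
  mem_normalizer_sup conj_Oc odd_Oc Oc_le Oc_normalized le_of_four le_of_four')
open Cfsg.Lib.LFourType.Coord (WY ThY Dl_le_WY cent_le_normalizer_WY cent_le_normalizer_ThY)
open scoped commutatorElement

universe u

namespace Ctx

variable {G : Type u} [Group G] [Finite G] (C : Ctx G)

theorem elem_E : Cfsg.IsElementaryAbelian 2 C.E :=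
  ⟨⟨⟨fun x y => Subtype.ext (C.E_comm x.2 y.2).eq⟩⟩, fun x hx => by rw [pow_two]; exact C.E_sq hx⟩

theorem E_le_nCent {a : G} (ha : a ∈ C.E) : C.E ≤ normalizer (centralizer ({a} : Set G) : Set G) :=
  (C.E_le_cent_one ha).trans le_normalizer

theorem E_le_nCent' {B : Subgroup G} (hB : B ≤ C.E) : C.E ≤ normalizer (centralizer (B : Set G) : Set G) :=
  (C.E_le_cent.trans (centralizer_le hB)).trans le_normalizer

theorem FA_le_cent {B : Subgroup G} (hB : B ≤ C.E) : C.FA ≤ centralizer (B : Set G) :=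
  C.FA_le.trans (centralizer_le hB)

theorem E_le_nFA : C.E ≤ normalizer (C.FA : Set G) := fun _ hy =>
  Cfsg.Lib.ZStarApps.mem_normalizer_of_maps fun _ hx => C.conj_FA (le_normalizer hy) hx

theorem FA_le_cent_one {a : G} (ha : a ∈ C.E) : C.FA ≤ centralizer ({a} : Set G) := fun _ hf =>
  mem_centralizer_singleton_iff.2 (C.FA_comm hf ha).symm.eq

/-- the value of the functor at `a` -/
def theta (a : G) : Subgroup G :=
  (⨆ B : {B // Cfsg.Lib.KBal.Big 2 2 C.E B}, Dl B.1 ⊓ centralizer ({a} : Set G)) ⊔ C.FA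

theorem Dl_inf_le_theta (a : G) {B : Subgroup G} (hB : B ≤ C.E) (h4 : 4 ≤ Nat.card B) :
    Dl B ⊓ centralizer ({a} : Set G) ≤ C.theta a :=
  le_sup_of_le_left (le_iSup (fun B : {B // Cfsg.Lib.KBal.Big 2 2 C.E B} => Dl B.1 ⊓ centralizer ({a} : Set G))
    ⟨B, hB, by norm_num; exact h4⟩)

theorem theta_le_cent {a : G} (ha : a ∈ C.E) : C.theta a ≤ centralizer ({a} : Set G) :=
  sup_le (iSup_le fun _ => inf_le_right) (C.FA_le_cent_one ha)

theorem E_le_ntheta {a : G} (ha : a ∈ C.E) : C.E ≤ normalizer (C.theta a : Set G) := fun y hy => by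
  refine mem_normalizer_sup (Cfsg.Lib.ZStarApps.mem_normalizer_of_maps fun x hx => ?_) (C.E_le_nFA hy)
  set T := ⨆ B : {B // Cfsg.Lib.KBal.Big 2 2 C.E B}, Dl B.1 ⊓ centralizer ({a} : Set G)
  have hle : T ≤ T.comap (MulAut.conj y).toMonoidHom := iSup_le fun B v hv =>
    le_iSup (fun B : {B // Cfsg.Lib.KBal.Big 2 2 C.E B} => Dl B.1 ⊓ centralizer ({a} : Set G)) B
      ((mem_normalizer_iff.1 (mem_normalizer_inf (C.E_le_nDl B.2.1 hy) (C.E_le_nCent ha hy)) v).1 hv)
  exact hle hx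

/-- the closure of the functor -/
def Wd : Subgroup G := ⨆ a : {a : G // a ∈ C.E ∧ a ≠ 1}, C.theta (a : G)

theorem theta_le_Wd {a : G} (ha : a ∈ C.E) (ha1 : a ≠ 1) : C.theta a ≤ C.Wd :=
  le_iSup (fun a : {a : G // a ∈ C.E ∧ a ≠ 1} => C.theta (a : G)) ⟨a, ha, ha1⟩

theorem FA_le_Wd : C.FA ≤ C.Wd := le_sup_right.trans (C.theta_le_Wd (C.U_le_E C.z_U) C.z_ne)

theorem Dl_le_Wd {B : Subgroup G} (hB : B ≤ C.E) (h4 : 4 ≤ Nat.card B) : Dl B ≤ C.Wd :=
  le_of_four' (E := C.E) (by rw [C.card_E]; norm_num) (fun p hp q hq => C.E_comm hp hq) (fun p hp => C.E_sq hp)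
    (odd_Dl (by omega)) (C.E_le_nDl hB) fun e he he1 => (C.Dl_inf_le_theta e hB h4).trans (C.theta_le_Wd he he1)

theorem Wd_normalized {n : G} (hn : n ∈ normalizer (C.E : Set G)) : n ∈ normalizer (C.Wd : Set G) := by
  refine Cfsg.Lib.ZStarApps.mem_normalizer_of_maps fun x hx => ?_
  have hle : C.Wd ≤ C.Wd.comap (MulAut.conj n).toMonoidHom := iSup_le fun a => sup_le
    (iSup_le fun B v hv => ?_) fun v hv => C.FA_le_Wd (C.conj_FA hn hv)
  · exact hle hx
  show n * v * n⁻¹ ∈ C.Wd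
  have h4 : 4 ≤ Nat.card B.1 := by simpa using B.2.2
  refine C.Dl_le_Wd (B := B.1.map (MulAut.conj n).toMonoidHom) ?_
    (by rw [card_map_of_injective (MulEquiv.injective _)]; exact h4)
    (le_Dl (X := zpowers (n * v * n⁻¹)) ?_ (mem_zpowers _))
  · rintro _ ⟨b, hb, rfl⟩; exact (mem_normalizer_iff.1 hn b).1 (B.2.1 hb)
  · rintro _ ⟨b, hb, rfl⟩ hb1
    exact zpowers_le.2 (conj_Oc n b (Dl_le hb (fun e => hb1 (by rw [e, map_one])) hv.1))

/-- the invariant of `E` -/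
def Th : Subgroup G := ⁅C.Wd, C.E⁆ ⊔ Dl C.E

variable (hza : IsConj C.z C.a₄) (hv : ¬ IsConj C.z (C.e vc))
include hza hv

theorem odd_core_FA {a : G} (ha : a ∈ C.E) : Odd (Nat.card (Oc a ⊔ C.FA : Subgroup G)) :=
  Cfsg.Lib.AltEightType.odd_sup (odd_Oc a) C.odd_FA fun _ hf => Oc_normalized (C.FA_le_cent_one ha hf)

theorem theta_le_core {a : G} (ha : a ∈ C.E) (ha1 : a ≠ 1) : C.theta a ≤ Oc a ⊔ C.FA := by
  refine sup_le (iSup_le fun B => ?_) le_sup_right
  have h4 : 4 ≤ Nat.card B.1 := by simpa using B.2.2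
  set X := Dl B.1 ⊓ centralizer ({a} : Set G)
  have ho : Odd (Nat.card X) := (odd_Dl (by omega)).of_dvd_nat (card_dvd_of_le inf_le_left)
  have hn : C.E ≤ normalizer (X : Set G) := fun y hy =>
    mem_normalizer_inf (C.E_le_nDl B.2.1 hy) (C.E_le_nCent ha hy)
  have ha' : zpowers a ≤ C.E := zpowers_le.2 ha
  have hone : ∀ h ∈ zpowers a, h ≠ 1 → h = a := by
    intro h hh h1
    obtain ⟨i, rfl⟩ := mem_zpowers_iff.1 hh
    obtain ⟨j, hj | hj⟩ := Int.even_or_odd' i
    · exact absurd (by rw [hj, zpow_mul, zpow_two, C.E_sq ha, one_zpow]) h1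
    · rw [hj, zpow_add_one, zpow_mul, zpow_two, C.E_sq ha, one_zpow, one_mul]
  refine (C.le_Dl_sup hza hv ha' (fun x hx => mem_centralizer_iff.2 fun h hh => by
    obtain ⟨i, rfl⟩ := mem_zpowers_iff.1 hh
    exact ((show Commute x a from mem_centralizer_singleton_iff.1 (mem_inf.1 hx).2).zpow_right i).eq.symm) ho hn
    fun h hh h1 => by
      rw [hone h hh h1]
      exact C.triv_at hza hv ha ha1 inf_le_right ho hn B.2.1 h4 inf_le_left).trans ?_
  exact sup_le_sup (inf_le_right.trans (Dl_le (mem_zpowers a) ha1)) inf_le_right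

theorem odd_theta {a : G} (ha : a ∈ C.E) (ha1 : a ≠ 1) : Odd (Nat.card (C.theta a)) :=
  (C.odd_core_FA hza hv ha).of_dvd_nat (card_dvd_of_le (C.theta_le_core hza hv ha ha1))

theorem theta_balanced {a b : G} (ha : a ∈ C.E) (ha1 : a ≠ 1) (hb : b ∈ C.E) :
    C.theta a ⊓ centralizer ({b} : Set G) ≤ C.theta b := by
  haveI : Fact (Nat.Prime 2) := ⟨Nat.prime_two⟩
  have hK := C.odd_theta hza hv ha ha1
  let L : Subgroup G → Subgroup G := fun B => (Dl B ⊓ centralizer ({a} : Set G)) ⊔ C.FA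
  have key := Cfsg.Lib.KBal.inf_centralizer_le_of_invariant (p := 2) C.elem_E (k := 2) (by rw [C.card_E]; norm_num)
    _ (C.theta a) rfl (Cfsg.Agent.PF.isSolvable_of_odd _ hK)
    (fun h2 => Nat.not_even_iff_odd.2 hK (even_iff_two_dvd.2 h2)) (C.E_le_ntheta ha) L
    (fun B hB => le_inf (sup_le (C.Dl_inf_le_theta a hB.1 (by simpa using hB.2)) le_sup_right)
      (sup_le (inf_le_left.trans (Dl_le_cent B)) (C.FA_le_cent hB.1)))
    (fun B hB y hy => mem_normalizer_sup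
      (mem_normalizer_inf (C.E_le_nDl hB.1 hy) (C.E_le_nCent ha hy)) (C.E_le_nFA hy))
    ?_ ?_
  · refine le_of_four (E := C.E) (by rw [C.card_E]; norm_num) (fun p hp q hq => C.E_comm hp hq) (fun p hp => C.E_sq hp)
      (hK.of_dvd_nat (card_dvd_of_le inf_le_left))
      (fun y hy => mem_normalizer_inf (C.E_le_ntheta ha hy) (C.E_le_nCent hb hy))
      fun H hH h8 => ?_
    rw [C.card_E] at h8
    set H' := H ⊔ zpowers b
    have hH' : H' ≤ C.E := sup_le hH (zpowers_le.2 hb)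
    have h4 : 4 ≤ Nat.card H' := le_trans (by omega) (card_le_of_le (le_sup_left : H ≤ H'))
    intro x hx
    obtain ⟨⟨hxK, hxb⟩, hxH⟩ := hx
    have hH'C : H' ≤ centralizer ({x} : Set G) := sup_le
      (fun q hq => mem_centralizer_singleton_iff.2 (mem_centralizer_iff.1 hxH q hq))
      (zpowers_le.2 (mem_centralizer_singleton_iff.2 (mem_centralizer_singleton_iff.1 hxb).symm))
    have hxc : x ∈ centralizer (H' : Set G) := mem_centralizer_iff.2 fun q hq =>
      mem_centralizer_singleton_iff.1 (hH'C hq)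
    refine (sup_le (le_inf inf_le_left ?_ |>.trans (C.Dl_inf_le_theta b hH' h4)) le_sup_right)
      (key H' ⟨hH', by simpa using h4⟩ (mem_inf.2 ⟨hxK, hxc⟩))
    exact inf_le_left.trans ((Dl_le_cent H').trans (centralizer_le
      (Set.singleton_subset_iff.2 (mem_sup_right (mem_zpowers b) : b ∈ H'))))
  · intro B B' hB hB' x hx'
    obtain ⟨hx, hxB'⟩ := mem_inf.1 hx'
    have hFN : C.FA ≤ normalizer ((Dl B ⊓ centralizer ({a} : Set G) : Subgroup G) : Set G) := fun f hf =>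
      mem_normalizer_inf (cent_le_normalizer_Dl (C.FA_le_cent hB.1 hf)) (le_normalizer (C.FA_le_cent_one ha hf))
    obtain ⟨d, hd, f, hf, rfl⟩ := (Cfsg.Lib.Coprime.mem_sup_of_le_normalizer hFN).1 hx
    refine mul_mem ?_ (mem_sup_right hf)
    set Y := Dl B ⊓ centralizer ({a} : Set G) ⊓ centralizer (B' : Set G)
    have hdY : d ∈ Y := mem_inf.2 ⟨hd, by
      have := mul_mem hxB' (inv_mem (C.FA_le_cent hB'.1 hf))
      rwa [mul_inv_cancel_right] at this⟩
    have h4 : 4 ≤ Nat.card B := by simpa using hB.2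
    have hYo : Odd (Nat.card Y) := (odd_Dl (by omega)).of_dvd_nat (card_dvd_of_le (inf_le_left.trans inf_le_left))
    have hYn : C.E ≤ normalizer (Y : Set G) := fun y hy => mem_normalizer_inf
      (mem_normalizer_inf (C.E_le_nDl hB.1 hy) (C.E_le_nCent ha hy))
      (C.E_le_nCent' hB'.1 hy)
    refine (show (Y ⊓ Dl B') ⊔ (Y ⊓ C.FA) ≤ L B' from sup_le (le_sup_of_le_left ?_) (le_sup_of_le_right inf_le_right))
      (C.le_Dl_sup hza hv hB'.1 inf_le_right hYo hYn
      (fun b' hb' hb'1 => C.triv_at hza hv (hB'.1 hb') hb'1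
        (inf_le_right.trans (centralizer_le (Set.singleton_subset_iff.2 hb'))) hYo hYn hB.1 h4
        (inf_le_left.trans inf_le_left)) hdY)
    exact le_inf inf_le_right (inf_le_left.trans (inf_le_left.trans inf_le_right))
  · exact sup_le (iSup_le fun B => le_iSup_of_le B le_sup_left)
      (le_iSup_of_le ⟨C.E, le_rfl, by rw [C.card_E]; norm_num⟩ le_sup_right)

theorem Wd_spec : Odd (Nat.card C.Wd) ∧ ∀ a ∈ C.E, a ≠ 1 → C.Wd ⊓ centralizer ({a} : Set G) = C.theta a := by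
  haveI : Fact (Nat.Prime 2) := ⟨Nat.prime_two⟩
  obtain ⟨h1, h2⟩ := Cfsg.Agent.S0217.result C.E (fun a ha b hb => (C.E_comm ha hb).eq)
    (fun a ha => by rw [pow_two]; exact C.E_sq ha) (by rw [C.card_E]; norm_num) C.theta
    (fun a ha _ => C.theta_le_cent ha)
    (fun a ha ha1 h => Nat.not_even_iff_odd.2 (C.odd_theta hza hv ha ha1) (even_iff_two_dvd.2 h))
    (fun a ha _ b hb x hx => (mem_normalizer_iff.1 (C.E_le_ntheta ha hb) x).1 hx)
    (fun a ha ha1 => Cfsg.Agent.PF.isSolvable_of_odd _ (C.odd_theta hza hv ha ha1))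
    fun a ha ha1 b hb _ => C.theta_balanced hza hv ha ha1 hb
  exact ⟨Nat.not_even_iff_odd.1 fun h => h1 (even_iff_two_dvd.1 h), h2⟩

theorem Wd_inf_triv {a : G} (ha : a ∈ C.E) (ha1 : a ≠ 1) {X : Subgroup G}
    (hX : X ≤ C.Wd ⊓ centralizer ({a} : Set G)) : C.Triv a X := fun x hx y hy => by
  have h1 := C.theta_le_core hza hv ha ha1 ((C.Wd_spec hza hv).2 a ha ha1 ▸ hX hx)
  obtain ⟨o, ho, f, hf, rfl⟩ := (Cfsg.Lib.Coprime.mem_sup_of_le_normalizer (N := Oc a) (H := C.FA)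
    fun v hv => Oc_normalized (C.FA_le_cent_one ha hv)).1 h1
  have hyN := Oc_normalized (a := a) (C.E_le_cent_one ha hy)
  have h2 := (mem_normalizer_iff.1 (Oc_normalized (inv_mem (C.FA_le_cent_one ha hf))) _).1
    (mul_mem (inv_mem ho) ((mem_normalizer_iff.1 hyN o).1 ho))
  have h3 : y * f = f * y := (C.FA_comm hf hy).eq
  rw [inv_inv] at h2
  rwa [show (o * f)⁻¹ * (y * (o * f) * y⁻¹) = f⁻¹ * (o⁻¹ * (y * o * y⁻¹)) * f by
    rw [show y * (o * f) * y⁻¹ = (y * o * y⁻¹) * (y * f * y⁻¹) by group, h3, mul_inv_cancel_right]; group]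

omit hza hv in
theorem E_le_nThY {H : Subgroup G} (hH : H ≤ C.E) : C.E ≤ normalizer (ThY H : Set G) :=
  (C.E_le_cent.trans (centralizer_le hH)).trans cent_le_normalizer_ThY

theorem ThY_le_Th {H : Subgroup G} (hH : H ≤ C.E) (h8 : 8 ≤ Nat.card H) : ThY H ≤ C.Th := by
  refine sup_le (le_sup_of_le_left (commutator_mono (iSup_le fun B => ?_) hH)) ?_
  · exact C.Dl_le_Wd (B.2.1.trans hH) (by simpa using B.2.2)
  have ho : Odd (Nat.card (Dl H)) := odd_Dl (by omega)
  have hcop : (Nat.card C.E).Coprime (Nat.card (Dl H)) := by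
    rw [C.card_E, show (16 : ℕ) = 2 ^ 4 from rfl]
    exact (Nat.coprime_two_left.2 ho).pow_left 4
  rw [← Cfsg.Lib.Coprime.commutator_sup_centralizer (C.E_le_nDl hH) hcop
    (Or.inl (Group.isSolvable_of_comm fun p q => Subtype.ext (C.E_comm p.2 q.2).eq))]
  refine sup_le (le_sup_of_le_left (commutator_mono (C.Dl_le_Wd hH (by omega)) le_rfl)) (le_sup_of_le_right ?_)
  exact fun x hx => C.FA_inf_Dl_le hza hv hH h8
    ⟨C.mem_FA_of_odd hza hv hx.2 (Cfsg.Lib.LFourType.odd_orderOf ho hx.1), hx.1⟩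

theorem Th_le_ThY {H : Subgroup G} (hH : H ≤ C.E) (h8 : 8 ≤ Nat.card H) : C.Th ≤ ThY H := by
  obtain ⟨hWo, -⟩ := C.Wd_spec hza hv
  refine sup_le (commutator_le.2 fun w hw a ha => ?_) (le_sup_of_le_right (Dl_anti hH))
  set T := ThY H
  let S : Subgroup G :=
    { carrier := {w | w ∈ normalizer (T : Set G) ∧ ∀ a ∈ C.E, ⁅w, a⁆ ∈ T}
      one_mem' := ⟨one_mem _, fun a _ => by simp [commutatorElement_def]⟩
      mul_mem' := by
        rintro p q ⟨hp, hp'⟩ ⟨hq, hq'⟩
        refine ⟨mul_mem hp hq, fun a ha => ?_⟩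
        rw [show ⁅p * q, a⁆ = p * ⁅q, a⁆ * p⁻¹ * ⁅p, a⁆ by simp [commutatorElement_def, mul_assoc]]
        exact mul_mem ((mem_normalizer_iff.1 hp _).1 (hq' a ha)) (hp' a ha)
      inv_mem' := by
        rintro p ⟨hp, hp'⟩
        refine ⟨inv_mem hp, fun a ha => ?_⟩
        rw [show ⁅p⁻¹, a⁆ = p⁻¹ * ⁅p, a⁆⁻¹ * p⁻¹⁻¹ by simp [commutatorElement_def, mul_assoc]]
        exact (mem_normalizer_iff.1 (inv_mem hp) _).1 (inv_mem (hp' a ha)) }
  have hT : T ≤ S := fun t ht => ⟨le_normalizer ht, fun a ha => by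
    rw [show ⁅t, a⁆ = t * (a * t⁻¹ * a⁻¹) by simp [commutatorElement_def, mul_assoc]]
    exact mul_mem ht ((mem_normalizer_iff.1 (C.E_le_nThY hH ha) _).1 (inv_mem ht))⟩
  suffices hS : C.Wd ≤ S by exact (hS hw).2 a ha
  have hFA : C.FA ≤ S := fun f hf => ⟨cent_le_normalizer_ThY (C.FA_le_cent hH hf), fun a ha => by
    rw [commutatorElement_eq_one_iff_mul_comm.2 (C.FA_comm hf ha).symm.eq]; exact one_mem _⟩
  have hWY : WY H ≤ S := iSup_le fun B => by
    have h4 : 4 ≤ Nat.card B.1 := by simpa using B.2.2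
    have hBA : B.1 ≤ C.E := B.2.1.trans hH
    have ho : Odd (Nat.card (Dl B.1)) := odd_Dl (by omega)
    have hcop : (Nat.card H).Coprime (Nat.card (Dl B.1)) := by
      refine Nat.Coprime.coprime_dvd_left (card_dvd_of_le hH) ?_
      rw [C.card_E, show (16 : ℕ) = 2 ^ 4 from rfl]
      exact (Nat.coprime_two_left.2 ho).pow_left 4
    rw [← Cfsg.Lib.Coprime.commutator_sup_centralizer (hH.trans (C.E_le_nDl hBA)) hcop
      (Or.inl (Group.isSolvable_of_comm fun p q => Subtype.ext (C.E_comm (hH p.2) (hH q.2)).eq))]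
    refine sup_le (le_trans (le_sup_of_le_left (commutator_mono (Dl_le_WY B.2.1 h4) le_rfl)) hT) fun c hc => ?_
    refine ⟨cent_le_normalizer_ThY hc.2, fun a ha => mem_sup_right
      (le_Dl (X := zpowers ⁅c, a⁆) (fun h hh hh1 => zpowers_le.2 ?_) (mem_zpowers _))⟩
    have := C.triv_at hza hv (hH hh) hh1
      (X := Dl B.1 ⊓ centralizer (H : Set G))
      (inf_le_right.trans (centralizer_le (Set.singleton_subset_iff.2 hh)))
      (ho.of_dvd_nat (card_dvd_of_le inf_le_left))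
      (fun y hy => mem_normalizer_inf (C.E_le_nDl hBA hy) (C.E_le_nCent' hH hy))
      hBA h4 inf_le_left c⁻¹ (inv_mem hc) a ha
    rwa [show c⁻¹⁻¹ * (a * c⁻¹ * a⁻¹) = ⁅c, a⁆ by simp [commutatorElement_def, mul_assoc]] at this
  refine le_trans ?_ (sup_le hWY hFA)
  refine le_of_four (E := H) (by omega) (fun p hp q hq => C.E_comm (hH hp) (hH hq))
    (fun p hp => C.E_sq (hH hp)) hWo
    ((hH.trans le_normalizer).trans fun y hy => C.Wd_normalized hy) fun K hK h2 => ?_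
  have hKA : K ≤ C.E := hK.trans hH
  have h4 : 4 ≤ Nat.card K := by omega
  refine (C.le_Dl_sup hza hv hKA inf_le_right (hWo.of_dvd_nat (card_dvd_of_le inf_le_left))
    (fun y hy => mem_normalizer_inf (C.Wd_normalized (le_normalizer hy)) (C.E_le_nCent' hKA hy))
    fun k hk hk1 => C.Wd_inf_triv hza hv (hKA hk) hk1
      (inf_le_inf_left _ (centralizer_le (Set.singleton_subset_iff.2 hk)))).trans ?_
  exact sup_le (le_sup_of_le_left (inf_le_right.trans (Dl_le_WY hK h4))) (le_sup_of_le_right inf_le_right)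

omit hza hv in
theorem Th_normalized {n : G} (hn : n ∈ normalizer (C.E : Set G)) : n ∈ normalizer (C.Th : Set G) := by
  refine mem_normalizer_sup (Cfsg.Lib.ZStarApps.mem_normalizer_of_maps fun x hx => ?_)
    (Cfsg.Lib.ZStarApps.mem_normalizer_of_maps fun x hx => ?_)
  · have hle : ⁅C.Wd, C.E⁆ ≤ (⁅C.Wd, C.E⁆).comap (MulAut.conj n).toMonoidHom := commutator_le.2 fun w hw a ha => by
      show n * ⁅w, a⁆ * n⁻¹ ∈ (⁅C.Wd, C.E⁆ : Subgroup G)
      rw [show n * ⁅w, a⁆ * n⁻¹ = ⁅n * w * n⁻¹, n * a * n⁻¹⁆ by simp [commutatorElement_def, mul_assoc]]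
      exact commutator_mem_commutator ((mem_normalizer_iff.1 (C.Wd_normalized hn) w).1 hw)
        ((mem_normalizer_iff.1 hn a).1 ha)
    exact hle hx
  · refine le_Dl (X := zpowers (n * x * n⁻¹)) (fun b hb hb1 => zpowers_le.2 ?_) (mem_zpowers _)
    have h1 : n⁻¹ * b * n⁻¹⁻¹ ∈ C.E := (mem_normalizer_iff.1 (inv_mem hn) b).1 hb
    have := conj_Oc n _ (Dl_le h1 (fun e => hb1 (conj_eq_one_iff.1 e)) hx)
    rwa [show n * (n⁻¹ * b * n⁻¹⁻¹) * n⁻¹ = b by group] at this

/-- the normaliser of the invariant contains `A` and the cores at the centre of `A` -/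
theorem le_normalizer_Th {u : G} (hu : u ∈ C.U) : Oc u ≤ normalizer (C.Th : Set G) := by
  refine le_of_four (E := C.E) (by rw [C.card_E]; norm_num) (fun p hp q hq => C.E_comm hp hq)
    (fun p hp => C.E_sq hp) (odd_Oc u) (C.E_le_nOc (C.U_le_E hu)) fun H hH h2 => inf_le_right.trans ?_
  have h8 : 8 ≤ Nat.card H := by rw [C.card_E] at h2; omega
  rw [le_antisymm (C.Th_le_ThY hza hv hH h8) (C.ThY_le_Th hza hv hH h8)]
  exact cent_le_normalizer_ThY

theorem odd_Th : Odd (Nat.card C.Th) := by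
  obtain ⟨hWo, -⟩ := C.Wd_spec hza hv
  exact hWo.of_dvd_nat (card_dvd_of_le (sup_le
    (Cfsg.Lib.Coprime.commutator_le_of_le_normalizer fun y hy => C.Wd_normalized (le_normalizer hy))
    (C.Dl_le_Wd le_rfl (by rw [C.card_E]; norm_num))))

/-- when the invariant is trivial the common core at the centre of `A` centralises `E` -/
theorem Dl_U_le_cent (h : C.Th = ⊥) : Dl C.U ≤ centralizer (C.E : Set G) := by
  obtain ⟨h1, -⟩ := sup_eq_bot_iff.1 h
  exact (C.Dl_le_Wd C.U_le_E C.card_U.ge).trans (commutator_eq_bot_iff_le_centralizer.1 h1)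

end Ctx

end Cfsg.Lib.JTwoSimple
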