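import Cfsg.Agent.JTwoSimple.Points
import Cfsg.Agent.InvolCalc.ZStarApps

/-!
The two elementary subgroups of order sixteen, the classes of involutions, and the normaliser of the centre of `A`.
-/

set_option autoImplicit false
set_option linter.unusedSectionVars false
set_option linter.style.haveILetI false
set_option synthInstance.maxSize 4096
set_option synthInstance.maxHeartbeats 400000
set_option maxRecDepth 100000

namespace Cfsg.Lib.JTwoSimple

open Subgroup Equiv Cfsg.Lib.HallJankoType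
open Cfsg.Lib.JTwoSyl (Model SC QC ev5 ev7 smul' InZ InU zc ac vc wc one' qa inv')
open Cfsg.Lib.Walter (Oc mem_Oc)

universe u

local notation "τ₁" => Cfsg.Lib.HallJankoType.tau1
local notation "τ₂" => Cfsg.Lib.HallJankoType.tau2

/-- the conjugate by the first point -/
def c0 (x : SC) : SC := smul' (smul' (ac 0) x) (ac 0)

theorem c0_spec : (∀ x, c0 (c0 x) = x) ∧ (∀ x, (c0 x).2 = x.2) ∧
    ∀ x, (InU (c0 x) ↔ InU x) ∧ (smul' (c0 x) (ac 4) = smul' (ac 4) (c0 x) ↔ smul' x (ac 4) = smul' (ac 4) x) := by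
  decide +kernel

theorem e_facts : ∀ x : SC, smul' x vc = smul' vc x → smul' x x = one' ∧ smul' x (ac 4) = smul' (ac 4) x ∧
    (¬ InU x → x.2 ≠ (false, false)) := by decide +kernel

theorem inU_e : ∀ x : SC, InU x → smul' x vc = smul' vc x ∧ smul' x x = one' ∧
    x.2 = (false, false) := by decide +kernel

theorem e_cent : ∀ x y : SC, smul' x vc = smul' vc x → ¬ InU x →
    (smul' y x = smul' x y ↔ smul' y vc = smul' vc y) := by decide +kernel

theorem u_cent : ∀ x y : SC, InU x → smul' y (ac 4) = smul' (ac 4) y → smul' x y = smul' y x := by decide +kernel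

theorem a_cent : ∀ x : SC, smul' x (ac 4) = smul' (ac 4) x →
    (∀ y : SC, smul' y (ac 4) = smul' (ac 4) y → smul' x y = smul' y x) → InU x := by decide +kernel

theorem a_gen : ∀ x : SC, smul' x (ac 4) = smul' (ac 4) x →
    ∃ t : SC, smul' t vc = smul' vc t ∧ smul' (c0 (smul' t x)) vc = smul' vc (c0 (smul' t x)) := by decide +kernel

theorem invol_cases : ∀ x : SC, smul' x x = one' → InU x ∨
    (∃ i : Fin 5, i ≠ 4 ∧ (x = ac i ∨ x = smul' zc (ac i))) ∨ smul' x vc = smul' vc x ∨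
    smul' (c0 x) vc = smul' vc (c0 x) := by decide +kernel

theorem coset_move : ∀ x : SC, smul' x vc = smul' vc x → ¬ InU x → ∀ u : SC, InU u →
    ∃ y : SC, smul' y (ac 4) = smul' (ac 4) y ∧ smul' (smul' y x) (inv' y) = smul' x u := by decide +kernel

theorem v_coset : ∀ x : SC, smul' x vc = smul' vc x → x.2 = (true, false) → ∃ u : SC, InU u ∧ smul' vc u = x := by
  decide +kernel

theorem flip_point : smul' (smul' (ac 0) (ac 4)) (inv' (ac 0)) = smul' zc (ac 4) := by decide +kernel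

theorem cent64 : ∀ x : SC, smul' x x = one' → ¬ InZ x →
    (Finset.univ.filter fun t : SC => smul' t x = smul' x t).card ≤ 64 := by decide +kernel

theorem e_card : (Finset.univ.filter fun t : SC => smul' t vc = smul' vc t).card = 16 ∧
    (Finset.univ.filter fun t : SC => smul' t (ac 4) = smul' (ac 4) t).card = 64 := by decide +kernel

theorem outer_tau : ∀ p r : Bool, (p, r) ≠ (false, false) →
    bp τ₁ p * bp τ₂ r ∈ Cfsg.Lib.JTwoSyl.vFour ∧ bp τ₁ p * bp τ₂ r ≠ 1 := by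
  intro p r h
  cases p <;> cases r <;> first | exact absurd rfl h | (refine ⟨?_, by decide +kernel⟩; simp [Cfsg.Lib.JTwoSyl.vFour, bp])

theorem bp_inj : ∀ p r p' r' : Bool, bp τ₁ p * bp τ₂ r = bp τ₁ p' * bp τ₂ r' → p = p' ∧ r = r' := by decide +kernel

theorem conj_mul' {G : Type*} [Group G] (g x y : G) : g * (x * y) * g⁻¹ = g * x * g⁻¹ * (g * y * g⁻¹) := by group

namespace Ctx

variable {G : Type u} [Group G] [Finite G] (C : Ctx G)

/-- the fixed point -/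
abbrev a₄ : G := C.e (ac 4)

/-- the elementary subgroup at `v` -/
def E : Subgroup G := (C.S : Subgroup G) ⊓ centralizer ({C.e vc} : Set G)

/-- its partner -/
def E' : Subgroup G := C.E.map (MulAut.conj (C.e (ac 0))).toMonoidHom

/-- the centre of `A` -/
def U : Subgroup G := C.A ⊓ centralizer (C.A : Set G)

theorem mem_E {X : SC} : C.e X ∈ C.E ↔ smul' X vc = smul' vc X := by
  rw [← C.M.commute_iff, E, mem_inf, mem_centralizer_singleton_iff]
  exact ⟨fun h => h.2, fun h => ⟨C.e_mem X, h.eq⟩⟩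

theorem E_code {x : G} (hx : x ∈ C.E) : ∃ X : SC, smul' X vc = smul' vc X ∧ C.e X = x := by
  obtain ⟨X, rfl⟩ := C.M.surj x hx.1
  exact ⟨X, C.mem_E.1 hx, rfl⟩

theorem conj_a0 (X : SC) : C.e (ac 0) * C.e X * (C.e (ac 0))⁻¹ = C.e (c0 X) := by
  rw [inv_eq_of_mul_eq_one_right (show C.e (ac 0) * C.e (ac 0) = 1 from (C.M.sq_iff _).2 (by decide +kernel)),
    C.e_mul, C.e_mul]; rfl

theorem E'_code {x : G} (hx : x ∈ C.E') : ∃ X : SC, smul' (c0 X) vc = smul' vc (c0 X) ∧ C.e X = x := by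
  obtain ⟨y, hy, rfl⟩ := hx
  obtain ⟨Y, hY, rfl⟩ := C.E_code hy
  exact ⟨c0 Y, by rwa [c0_spec.1], (C.conj_a0 Y).symm⟩

theorem mem_E' {X : SC} : C.e X ∈ C.E' ↔ smul' (c0 X) vc = smul' vc (c0 X) := by
  refine ⟨fun h => ?_, fun h => ⟨C.e (c0 X), C.mem_E.2 h, ?_⟩⟩
  · obtain ⟨Y, hY, e'⟩ := C.E'_code h
    rwa [← C.e_inj e']
  · show C.e (ac 0) * C.e (c0 X) * (C.e (ac 0))⁻¹ = C.e X
    rw [C.conj_a0, c0_spec.1]

theorem E_le_A : C.E ≤ C.A := fun x hx => by
  obtain ⟨X, hX, rfl⟩ := C.E_code hx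
  exact C.mem_A.2 (e_facts X hX).2.1

theorem E'_le_A : C.E' ≤ C.A := fun x hx => by
  obtain ⟨X, hX, rfl⟩ := C.E'_code hx
  exact C.mem_A.2 ((c0_spec.2.2 X).2.1 (e_facts _ hX).2.1)

theorem mem_U {X : SC} : C.e X ∈ C.U ↔ InU X := by
  rw [U, mem_inf, mem_centralizer_iff, C.mem_A]
  refine ⟨fun ⟨h1, h2⟩ => a_cent X h1 fun Y hY => ((C.M.commute_iff Y X).1 (h2 _ (C.mem_A.2 hY))).symm,
    fun h => ⟨(e_facts X (inU_e X h).1).2.1, fun y hy => ?_⟩⟩
  obtain ⟨Y, hY, rfl⟩ := C.A_code hy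
  exact ((C.M.commute_iff X Y).2 (u_cent X Y h hY)).eq.symm

theorem U_le_A : C.U ≤ C.A := inf_le_left

theorem U_code {x : G} (hx : x ∈ C.U) : ∃ X : SC, InU X ∧ C.e X = x := by
  obtain ⟨X, -, rfl⟩ := C.A_code (C.U_le_A hx)
  exact ⟨X, C.mem_U.1 hx, rfl⟩

theorem mem_U_iff {x : G} : x ∈ C.U ↔ x = 1 ∨ x = C.z ∨ x = C.a₄ ∨ x = C.z * C.a₄ := by
  constructor
  · intro hx
    obtain ⟨X, hX, rfl⟩ := C.U_code hx
    exact (C.M.inU_iff X).2 hX
  · rintro (rfl | rfl | rfl | rfl)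
    · exact one_mem _
    · rw [← C.e_zc]; exact C.mem_U.2 (Or.inl (Or.inr rfl))
    · exact C.mem_U.2 (Or.inr (Or.inl rfl))
    · rw [← C.e_zc, C.e_mul]; exact C.mem_U.2 (Or.inr (Or.inr rfl))

theorem z_U : C.z ∈ C.U := C.mem_U_iff.2 (Or.inr (Or.inl rfl))

theorem a_U : C.a₄ ∈ C.U := C.mem_U_iff.2 (Or.inr (Or.inr (Or.inl rfl)))

theorem U_le_E : C.U ≤ C.E := fun x hx => by
  obtain ⟨X, hX, rfl⟩ := C.U_code hx
  exact C.mem_E.2 (inU_e X hX).1

theorem U_comm {u x : G} (hu : u ∈ C.U) (hx : x ∈ C.A) : Commute u x :=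
  (mem_centralizer_iff.1 hu.2 x hx).symm

theorem A_le_C₀ : C.A ≤ C.C₀ := C.A_le.trans C.S_le

theorem A_le_cent {u : G} (hu : u ∈ C.U) : C.A ≤ centralizer ({u} : Set G) := fun _ hx =>
  mem_centralizer_singleton_iff.2 (C.U_comm hu hx).eq.symm

theorem A_le_cent_U : C.A ≤ centralizer (C.U : Set G) := fun _ hx =>
  mem_centralizer_iff.2 fun _ hu => (C.U_comm hu hx).eq

theorem E_sq {x : G} (hx : x ∈ C.E) : x * x = 1 := by
  obtain ⟨X, hX, rfl⟩ := C.E_code hx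
  exact (C.M.sq_iff X).2 (e_facts X hX).1

theorem E_comm {x y : G} (hx : x ∈ C.E) (hy : y ∈ C.E) : Commute x y := by
  have h := C.E_sq (mul_mem hx hy)
  show x * y = y * x
  calc x * y = (x * y)⁻¹ := eq_inv_of_mul_eq_one_left h
    _ = y⁻¹ * x⁻¹ := mul_inv_rev x y
    _ = y * x := by rw [inv_eq_of_mul_eq_one_right (C.E_sq hx), inv_eq_of_mul_eq_one_right (C.E_sq hy)]

theorem card_E : Nat.card C.E = 16 := by
  rw [E, C.M.card_cent]; exact e_card.1

theorem card_A : Nat.card C.A = 64 := by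
  rw [A, C.M.card_cent]; exact e_card.2

theorem isPGroup_A : IsPGroup 2 C.A := C.S.2.to_le C.A_le

theorem isPGroup_E : IsPGroup 2 C.E := C.S.2.to_le inf_le_left

theorem A_le_sup : C.A ≤ C.E ⊔ C.E' := fun x hx => by
  obtain ⟨X, hX, rfl⟩ := C.A_code hx
  obtain ⟨T, h1, h2⟩ := a_gen X hX
  rw [show C.e X = C.e T * (C.e T * C.e X) by rw [← mul_assoc, C.E_sq (C.mem_E.2 h1), one_mul], C.e_mul T X]
  exact mul_mem (mem_sup_left (C.mem_E.2 h1)) (mem_sup_right (C.mem_E'.2 h2))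

theorem E'_sq {x : G} (hx : x ∈ C.E') : x * x = 1 := by
  obtain ⟨y, hy, rfl⟩ := hx
  show MulAut.conj _ y * MulAut.conj _ y = 1
  rw [← map_mul, C.E_sq hy, map_one]

theorem E'_comm {x y : G} (hx : x ∈ C.E') (hy : y ∈ C.E') : Commute x y := by
  obtain ⟨x, hx, rfl⟩ := hx
  obtain ⟨y, hy, rfl⟩ := hy
  exact (C.E_comm hx hy).map _

theorem map_E' : C.E'.map (MulAut.conj (C.e (ac 0))).toMonoidHom = C.E := by
  ext x
  constructor
  · rintro ⟨y, hy, rfl⟩
    obtain ⟨Y, hY, rfl⟩ := C.E'_code hy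
    show C.e (ac 0) * C.e Y * (C.e (ac 0))⁻¹ ∈ C.E
    rw [C.conj_a0]
    exact C.mem_E.2 hY
  · intro hx
    obtain ⟨X, hX, rfl⟩ := C.E_code hx
    refine ⟨C.e (c0 X), C.mem_E'.2 (by rwa [c0_spec.1]), ?_⟩
    show C.e (ac 0) * C.e (c0 X) * (C.e (ac 0))⁻¹ = C.e X
    rw [C.conj_a0, c0_spec.1]

theorem cent_out {x : G} (hx : x ∈ C.E) (hxU : x ∉ C.U) {s : G} (hs : s ∈ (C.S : Subgroup G)) (hc : Commute s x) :
    s ∈ C.E := by
  obtain ⟨X, hX, rfl⟩ := C.E_code hx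
  obtain ⟨Y, rfl⟩ := C.M.surj s hs
  exact C.mem_E.2 ((e_cent X Y hX fun h => hxU (C.mem_U.2 h)).1 ((C.M.commute_iff Y X).1 hc))

theorem cent_out' {x : G} (hx : x ∈ C.E') (hxU : x ∉ C.U) {s : G} (hs : s ∈ (C.S : Subgroup G)) (hc : Commute s x) :
    s ∈ C.E' := by
  obtain ⟨X, hX, rfl⟩ := C.E'_code hx
  obtain ⟨Y, rfl⟩ := C.M.surj s hs
  refine C.mem_E'.2 ((e_cent _ _ hX fun h => hxU (C.mem_U.2 ((c0_spec.2.2 X).1.1 h))).1 ?_)
  rw [← C.M.commute_iff]
  show Commute (C.e (c0 Y)) (C.e (c0 X))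
  rw [← C.conj_a0, ← C.conj_a0]
  exact hc.map (MulAut.conj (C.e (ac 0))).toMonoidHom

theorem involution_cases {x : G} (hx : x ∈ (C.S : Subgroup G)) (h : x * x = 1) :
    x ∈ C.U ∨ (∃ i : Fin 5, i ≠ 4 ∧ (x = C.e (ac i) ∨ x = C.z * C.e (ac i))) ∨ x ∈ C.E ∨ x ∈ C.E' := by
  obtain ⟨X, rfl⟩ := C.M.surj x hx
  rcases invol_cases X ((C.M.sq_iff X).1 h) with r | ⟨i, hi, r | r⟩ | r | r
  · exact Or.inl (C.mem_U.2 r)
  · exact Or.inr (Or.inl ⟨i, hi, Or.inl (by rw [r])⟩)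
  · exact Or.inr (Or.inl ⟨i, hi, Or.inr (by rw [r]; show C.e (smul' zc (ac i)) = _; rw [← C.e_mul, C.e_zc])⟩)
  · exact Or.inr (Or.inr (Or.inl (C.mem_E.2 r)))
  · exact Or.inr (Or.inr (Or.inr (C.mem_E'.2 r)))

/-- elementary abelian subgroups of order sixteen -/
theorem sixteen {T : Subgroup G} (hT : T ≤ (C.S : Subgroup G)) (hcard : Nat.card T = 16)
    (hsq : ∀ x ∈ T, x * x = 1) : T = C.E ∨ T = C.E' := by
  classical
  have hc : ∀ x ∈ T, ∀ y ∈ T, Commute x y := fun x hx y hy => by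
    have h := hsq _ (mul_mem hx hy)
    show x * y = y * x
    calc x * y = (x * y)⁻¹ := eq_inv_of_mul_eq_one_left h
      _ = y⁻¹ * x⁻¹ := mul_inv_rev x y
      _ = y * x := by rw [inv_eq_of_mul_eq_one_right (hsq x hx), inv_eq_of_mul_eq_one_right (hsq y hy)]
  obtain ⟨t, htT, ht⟩ : ∃ t ∈ T, t ∉ C.Q := by
    by_contra hall
    push Not at hall
    have hf : ∀ x : T, ∃ t : {t // t ∈ (Finset.univ.filter fun t : SC => t.2.1 = false ∧ t.2.2 = false ∧ smul' t t = one')},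
        C.e t = x := fun ⟨x, hx⟩ => by
      obtain ⟨X, rfl⟩ := C.M.surj x (hT hx)
      have h := C.mem_Q.1 (hall _ hx)
      exact ⟨⟨X, Finset.mem_filter.2 ⟨Finset.mem_univ _, by simp [h], by simp [h], (C.M.sq_iff X).1 (hsq _ hx)⟩⟩, rfl⟩
    choose f hf using hf
    have h1 := Nat.card_le_card_of_injective f fun k k' h => Subtype.ext (by rw [← hf k, ← hf k', h])
    rw [hcard, Nat.card_eq_fintype_card, Fintype.card_coe] at h1
    exact absurd Cfsg.Lib.JTwoSyl.q_rank (by omega)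
  rcases C.involution_cases (hT htT) (hsq t htT) with h | ⟨i, -, h⟩ | h | h
  · obtain ⟨X, hX, rfl⟩ := C.U_code h
    exact absurd (C.mem_Q.2 (inU_e X hX).2.2) ht
  · refine absurd ?_ ht
    rcases h with rfl | rfl
    · exact C.mem_Q.2 rfl
    · exact mul_mem (C.e_zc ▸ C.mem_Q.2 rfl) (C.mem_Q.2 rfl)
  · have hU : t ∉ C.U := fun hh => by
      obtain ⟨X, hX, rfl⟩ := C.U_code hh
      exact ht (C.mem_Q.2 (inU_e X hX).2.2)
    exact Or.inl (eq_of_le_of_card_ge (fun x hx => C.cent_out h hU (hT hx) (hc x hx t htT)) (by rw [hcard, C.card_E]))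
  · have hU : t ∉ C.U := fun hh => by
      obtain ⟨X, hX, rfl⟩ := C.U_code hh
      exact ht (C.mem_Q.2 (inU_e X hX).2.2)
    refine Or.inr (eq_of_le_of_card_ge (fun x hx => C.cent_out' h hU (hT hx) (hc x hx t htT)) ?_)
    rw [hcard, E', card_map_of_injective (MulEquiv.injective _), C.card_E]

/-- fusion of an element of `E` to `z` is realised in `N(E)` -/
theorem exists_N_E {x : G} (hx : x ∈ C.E) (h : IsConj x C.z) :
    ∃ n ∈ normalizer (C.E : Set G), n * x * n⁻¹ = C.z := by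
  obtain ⟨g, hg⟩ := isConj_iff.1 h
  obtain ⟨c, hcz, hc⟩ := Cfsg.Lib.JTwoSyl.exists_conj_into C.M
    (T := C.E.map (MulAut.conj g).toMonoidHom) (C.isPGroup_E.map _) (by
    rintro _ ⟨y, hy, rfl⟩
    rw [← hg]
    exact (C.E_comm hy hx).map (MulAut.conj g).toMonoidHom)
  have hz : c * g * x * (c * g)⁻¹ = C.z := by
    rw [show c * g * x * (c * g)⁻¹ = c * (g * x * g⁻¹) * c⁻¹ by group, hg, hcz.eq, mul_inv_cancel_right]
  have hT : C.E.map (MulAut.conj (c * g)).toMonoidHom ≤ (C.S : Subgroup G) := by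
    rintro _ ⟨y, hy, rfl⟩
    have := hc _ ⟨y, hy, rfl⟩
    simpa [mul_assoc] using this
  rcases C.sixteen hT (by rw [card_map_of_injective (MulEquiv.injective _), C.card_E])
    (by rintro _ ⟨y, hy, rfl⟩; show MulAut.conj _ y * MulAut.conj _ y = 1; rw [← map_mul, C.E_sq hy, map_one])
    with e' | e'
  · exact ⟨c * g, mem_normalizer_iff_map_conj_eq.2 e', hz⟩
  · refine ⟨C.e (ac 0) * (c * g), mem_normalizer_iff_map_conj_eq.2 ?_, ?_⟩
    · calc C.E.map (MulAut.conj (C.e (ac 0) * (c * g))).toMonoidHom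
          = (C.E.map (MulAut.conj (c * g)).toMonoidHom).map (MulAut.conj (C.e (ac 0))).toMonoidHom := by
            rw [Subgroup.map_map]; congr 1; ext y; simp [mul_assoc]
        _ = C.E := by rw [e', C.map_E']
    · rw [show C.e (ac 0) * (c * g) * x * (C.e (ac 0) * (c * g))⁻¹ =
        C.e (ac 0) * (c * g * x * (c * g)⁻¹) * (C.e (ac 0))⁻¹ by group, hz,
        (C.M.z_central (C.e_mem (ac 0))).eq, mul_inv_cancel_right]

theorem points (i : Fin 5) : IsConj (C.e (ac i)) C.a₄ ∧ IsConj (C.z * C.e (ac i)) C.a₄ := by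
  have h4 : IsConj (C.z * C.a₄) C.a₄ := by
    refine (isConj_iff.2 ⟨C.e (ac 0), ?_⟩).symm
    rw [C.M.inv_ev, C.e_mul, C.e_mul, flip_point, ← C.e_mul, C.e_zc]
  obtain ⟨π, hπ, hπi⟩ := Cfsg.Lib.JTwoSyl.even_to_four i
  obtain ⟨c, hc, hσ⟩ := C.exists_NQ_sg hπ
  have h := C.NQ_act hc i
  rw [hσ, hπi] at h
  have hcz : c * C.z * c⁻¹ = C.z := by
    rw [mem_centralizer_singleton_iff.1 (C.NQ_le hc), mul_inv_cancel_right]
  constructor
  · rcases h with r | r
    · exact isConj_iff.2 ⟨c, r⟩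
    · exact (isConj_iff.2 ⟨c, r⟩).trans h4
  · have e' : c * (C.z * C.e (ac i)) * c⁻¹ = C.z * (c * C.e (ac i) * c⁻¹) := by rw [conj_mul', hcz]
    rcases h with r | r <;> rw [r] at e'
    · exact (isConj_iff.2 ⟨c, e'⟩).trans h4
    · exact isConj_iff.2 ⟨c, by rw [e', ← mul_assoc, C.z_sq, one_mul]⟩

/-- the elements of `E` outside `U` are conjugate to `v` -/
theorem outer_conj {x : G} (hx : x ∈ C.E) (hxU : x ∉ C.U) : IsConj x (C.e vc) := by
  haveI : Fact (Nat.Prime 2) := ⟨Nat.prime_two⟩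
  obtain ⟨X, hX, rfl⟩ := C.E_code hx
  have hXU : ¬ InU X := fun h => hxU (C.mem_U.2 h)
  obtain ⟨hV, hne⟩ := outer_tau X.2.1 X.2.2 ((e_facts X hX).2.2 hXU)
  set s : ↥C.C₀ := ⟨C.e X, C.e_cz X⟩
  have hs : C.sg s = bp τ₁ X.2.1 * bp τ₂ X.2.2 := C.sg_code X
  obtain ⟨ρ, hρ, hρs⟩ := Cfsg.Lib.JTwoSyl.exists_rho.1 _ (C.sg_sign s)
    (by rw [hs]; exact (Cfsg.Lib.JTwoSyl.vFour_facts hV).1) (by rw [hs]; exact hne)
  obtain ⟨d, rfl⟩ := C.sg_surj hρ
  set y := d * s * d⁻¹ with hy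
  have hy1 : C.sg y = τ₁ := by rw [hy, map_mul, map_mul, map_inv, hρs]
  set N₁ := Cfsg.Lib.JTwoSyl.vFour.comap C.sg with hN₁
  have hSN : (C.S : Subgroup G).subgroupOf C.C₀ ≤ N₁ := fun t ht => by
    obtain ⟨T, hT⟩ := C.M.surj _ (mem_subgroupOf.1 ht)
    show C.sg t ∈ Cfsg.Lib.JTwoSyl.vFour
    rw [show t = ⟨C.e T, C.e_cz T⟩ from Subtype.ext hT.symm, C.sg_code]
    exact Cfsg.Lib.JTwoSyl.bp_vFour _ _
  have hyN : y ∈ N₁ := by show C.sg y ∈ Cfsg.Lib.JTwoSyl.vFour; rw [hy1]; exact Or.inr (Or.inl rfl)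
  have hyy : (⟨y, hyN⟩ : ↥N₁) * ⟨y, hyN⟩ = 1 := by
    refine Subtype.ext (Subtype.ext ?_)
    show (d : G) * C.e X * (d : G)⁻¹ * ((d : G) * C.e X * (d : G)⁻¹) = 1
    exact Cfsg.Lib.JTwoSyl.conj_sq_one (C.E_sq hx)
  obtain ⟨c, hc⟩ := Cfsg.Lib.InvolCalc.exists_conj_le ((C.S.subtype C.S_le).subtype hSN)
    (Cfsg.Lib.LFourType.isPGroup_zpowers_sq hyy)
  have hc' := hc _ (mem_zpowers _)
  obtain ⟨Y, hY⟩ := C.M.surj (((c : ↥C.C₀) : G)⁻¹ * (y : G) * ((c : ↥C.C₀) : G)) hc'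
  have hσY : C.sg ⟨C.e Y, C.e_cz Y⟩ = τ₁ := by
    rw [show (⟨C.e Y, C.e_cz Y⟩ : ↥C.C₀) = (c : ↥C.C₀)⁻¹ * y * (c : ↥C.C₀) from Subtype.ext hY, map_mul, map_mul,
      hy1]
    have hcV : C.sg ((c : ↥C.C₀)⁻¹) ∈ Cfsg.Lib.JTwoSyl.vFour := by rw [map_inv]; exact inv_mem c.2
    have := Cfsg.Lib.JTwoSyl.vFour_comm hcV (Or.inr (Or.inl rfl) : τ₁ ∈ Cfsg.Lib.JTwoSyl.vFour)
    rw [map_inv] at this ⊢
    rwa [inv_inv] at this
  rw [C.sg_code] at hσY
  have hY2 : Y.2 = (true, false) := by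
    obtain ⟨hp, hr⟩ := Cfsg.Lib.JTwoSyl.bp_eq_tau _ _ hσY
    exact Prod.ext hp hr
  have hxY : IsConj (C.e X) (C.e Y) := isConj_iff.2 ⟨((c : ↥C.C₀) : G)⁻¹ * d, by
    show _ = ev7 C.z C.a C.v C.w Y
    rw [hY, hy]; simp only [coe_mul, InvMemClass.coe_inv]; show _ * C.e X * _ = _ * (_ * C.e X * _) * _; group⟩
  have hYY : C.e Y * C.e Y = 1 := by
    obtain ⟨g, hg⟩ := isConj_iff.1 hxY
    rw [← hg]
    exact Cfsg.Lib.JTwoSyl.conj_sq_one (C.E_sq hx)
  have key : ∀ W : SC, smul' W vc = smul' vc W → W.2 = (true, false) → IsConj (C.e W) (C.e vc) := by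
    intro W hW hW2
    obtain ⟨u, hu, rfl⟩ := v_coset W hW hW2
    obtain ⟨T, -, hT⟩ := coset_move vc rfl (by decide +kernel) u hu
    exact (isConj_iff.2 ⟨C.e T, by rw [C.M.inv_ev, C.e_mul, C.e_mul, hT]⟩).symm
  refine hxY.trans ?_
  rcases invol_cases Y ((C.M.sq_iff Y).1 hYY) with r | ⟨i, -, r | r⟩ | r | r
  · exact absurd ((inU_e Y r).2.2.symm.trans hY2) (by simp)
  · rw [r] at hY2; exact absurd hY2 (by simp [ac])
  · rw [r] at hY2; exact absurd hY2 (by clear * -; revert i; decide +kernel)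
  · exact key Y r hY2
  · refine IsConj.trans (isConj_iff.2 ⟨C.e (ac 0), C.conj_a0 Y⟩) (key _ r ?_)
    rw [c0_spec.2.1, hY2]

theorem classes {x : G} (h : orderOf x = 2) : IsConj x C.z ∨ IsConj x C.a₄ ∨ IsConj x (C.e vc) := by
  haveI : Fact (Nat.Prime 2) := ⟨Nat.prime_two⟩
  have hx2 : x * x = 1 := by rw [← pow_two, ← h, pow_orderOf_eq_one]
  obtain ⟨g, hg⟩ := Cfsg.Lib.InvolCalc.exists_conj_le C.S (Cfsg.Lib.LFourType.isPGroup_zpowers_sq hx2)
  have hxs : IsConj x (g⁻¹ * x * g) := isConj_iff.2 ⟨g⁻¹, by rw [inv_inv]⟩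
  set s := g⁻¹ * x * g
  have hs2 : s * s = 1 := by
    rw [show s = g⁻¹ * x * g⁻¹⁻¹ by rw [inv_inv]]; exact Cfsg.Lib.JTwoSyl.conj_sq_one hx2
  have hs1 : s ≠ 1 := fun e => by
    obtain ⟨k, hk⟩ := isConj_iff.1 hxs
    rw [e] at hk
    rw [conj_eq_one_iff.1 hk, orderOf_one] at h
    omega
  suffices IsConj s C.z ∨ IsConj s C.a₄ ∨ IsConj s (C.e vc) from
    this.imp hxs.trans (fun h => h.imp hxs.trans hxs.trans)
  have hE : ∀ t, t ∈ C.E → t ≠ 1 → IsConj t C.z ∨ IsConj t C.a₄ ∨ IsConj t (C.e vc) := by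
    intro t ht ht1
    by_cases htU : t ∈ C.U
    · rcases C.mem_U_iff.1 htU with rfl | rfl | rfl | rfl
      · exact absurd rfl ht1
      · exact Or.inl (IsConj.refl _)
      · exact Or.inr (Or.inl (IsConj.refl _))
      · exact Or.inr (Or.inl (C.points 4).2)
    · exact Or.inr (Or.inr (C.outer_conj ht htU))
  rcases C.involution_cases (hg x (mem_zpowers x)) hs2 with r | ⟨i, -, r | r⟩ | r | r
  · exact hE s (C.U_le_E r) hs1
  · exact Or.inr (Or.inl (by rw [show s = _ from r]; exact (C.points i).1))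
  · exact Or.inr (Or.inl (by rw [show s = _ from r]; exact (C.points i).2))
  · exact hE s r hs1
  · obtain ⟨S', hS', e'⟩ := C.E'_code r
    have hc : IsConj s (C.e (c0 S')) := isConj_iff.2 ⟨C.e (ac 0), by rw [show s = _ from e'.symm, C.conj_a0]⟩
    refine (hE _ (C.mem_E.2 hS') fun e'' => ?_).imp hc.trans (fun h => h.imp hc.trans hc.trans)
    obtain ⟨k, hk⟩ := isConj_iff.1 hc
    rw [e''] at hk
    exact hs1 (conj_eq_one_iff.1 hk)

/-- **the central involution is conjugate to the fixed point** -/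
theorem z_conj_a [IsSimpleGroup G] (hnab : ∃ x y : G, x * y ≠ y * x) : IsConj C.z C.a₄ := by
  by_contra hza
  have hcases : ∀ g : G, g * C.z * g⁻¹ ∈ (C.S : Subgroup G) → g * C.z * g⁻¹ = C.z ∨
      IsConj C.z (C.e vc) := by
    intro g hg
    set y := g * C.z * g⁻¹ with hy
    have hzy : IsConj C.z y := isConj_iff.2 ⟨g, rfl⟩
    have hU : ∀ t, IsConj C.z t → t ∈ C.U → t = C.z := by
      intro t ht htU
      rcases C.mem_U_iff.1 htU with rfl | rfl | rfl | rfl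
      · obtain ⟨k, hk⟩ := isConj_iff.1 ht
        exact absurd (conj_eq_one_iff.1 hk) C.z_ne
      · rfl
      · exact absurd ht hza
      · exact absurd (ht.trans (C.points 4).2) hza
    rcases C.involution_cases hg (Cfsg.Lib.JTwoSyl.conj_sq_one C.z_sq) with r | ⟨i, -, r | r⟩ | r | r
    · exact Or.inl (hU _ hzy r)
    · exact absurd (hzy.trans (by rw [r]; exact (C.points i).1)) hza
    · exact absurd (hzy.trans (by rw [r]; exact (C.points i).2)) hza
    · by_cases hyU : y ∈ C.U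
      · exact Or.inl (hU _ hzy hyU)
      · exact Or.inr (hzy.trans (C.outer_conj r hyU))
    · obtain ⟨X, hX, e'⟩ := C.E'_code r
      have h1 : IsConj C.z (C.e (c0 X)) := hzy.trans (isConj_iff.2 ⟨C.e (ac 0), by rw [← e', C.conj_a0]⟩)
      by_cases hxU : C.e (c0 X) ∈ C.U
      · left
        have hXz : c0 X = zc := C.e_inj ((hU _ h1 hxU).trans C.e_zc.symm)
        have : X = zc := by rw [← c0_spec.1 X, hXz]; decide +kernel
        rw [← e', this, C.e_zc]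
      · exact Or.inr (h1.trans (C.outer_conj (C.mem_E.2 hX) hxU))
  by_cases hzv : IsConj C.z (C.e vc)
  · obtain ⟨n, hn, hnv⟩ := C.exists_N_E (C.mem_E.2 rfl) hzv.symm
    have hpair : ∀ t, (t = C.a₄ ∨ t = C.z * C.a₄) → n * t * n⁻¹ = C.a₄ ∨ n * t * n⁻¹ = C.z * C.a₄ := by
      intro t ht
      have htE : t ∈ C.E := C.U_le_E (by
        rcases ht with rfl | rfl
        · exact C.a_U
        · exact mul_mem C.z_U C.a_U)
      have hnz : ¬ IsConj C.z (n * t * n⁻¹) := fun h => by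
        have h2 : IsConj C.z t := h.trans (isConj_iff.2 ⟨n, rfl⟩).symm
        rcases ht with rfl | rfl
        · exact hza h2
        · exact hza (h2.trans (C.points 4).2)
      have hntE : n * t * n⁻¹ ∈ C.E := (mem_normalizer_iff.1 hn t).1 htE
      by_cases hU : n * t * n⁻¹ ∈ C.U
      · rcases C.mem_U_iff.1 hU with r | r | r | r
        · refine absurd (conj_eq_one_iff.1 r) ?_
          rcases ht with rfl | rfl
          · rw [← C.e_one]; exact fun e => absurd (C.e_inj e) (by decide +kernel)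
          · rw [← C.e_one, ← C.e_zc, C.e_mul]; exact fun e => absurd (C.e_inj e) (by decide +kernel)
        · exact absurd (r ▸ IsConj.refl _) hnz
        · exact Or.inl r
        · exact Or.inr r
      · exact absurd (hzv.trans (C.outer_conj hntE hU).symm) hnz
    have haz : Commute C.a₄ C.z := C.M.z_central (C.e_mem _)
    have haa : C.a₄ * C.a₄ = 1 := C.E_sq (C.U_le_E C.a_U)
    have hdec : C.z = C.z * C.a₄ * C.a₄ := by rw [mul_assoc, haa, mul_one]
    have hnz : n * C.z * n⁻¹ = C.z ∨ n * C.z * n⁻¹ = 1 := by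
      rw [show n * C.z * n⁻¹ = n * (C.z * C.a₄) * n⁻¹ * (n * C.a₄ * n⁻¹) by rw [← conj_mul', ← hdec]]
      rcases hpair _ (Or.inl rfl) with r | r <;> rcases hpair _ (Or.inr rfl) with r' | r' <;> rw [r, r']
      · exact Or.inr haa
      · exact Or.inl hdec.symm
      · left; rw [← mul_assoc, haz.eq, ← hdec]
      · exact Or.inr (by rw [mul_assoc, ← mul_assoc C.a₄, haz.eq, mul_assoc, haa, mul_one, C.z_sq])
    rcases hnz with r | r
    · have h1 : C.e vc = C.z := mul_left_cancel (mul_right_cancel (hnv.trans r.symm))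
      exact absurd (C.e_inj (h1.trans C.e_zc.symm)) (by decide +kernel)
    · exact C.z_ne (conj_eq_one_iff.1 r)
  · have hiso : Cfsg.IsIsolatedInvolution C.z := by
      refine ⟨C.z_order, fun g hc => ?_⟩
      obtain ⟨c, hcz, hcS⟩ := Cfsg.Lib.JTwoSyl.exists_conj_into C.M
        (T := zpowers (g * C.z * g⁻¹)) (Cfsg.Lib.LFourType.isPGroup_zpowers_sq (Cfsg.Lib.JTwoSyl.conj_sq_one C.z_sq))
        (fun t ht => by
          obtain ⟨k, rfl⟩ := mem_zpowers_iff.1 ht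
          exact hc.symm.zpow_left k)
      have h1 := hcS _ (mem_zpowers _)
      rw [show c * (g * C.z * g⁻¹) * c⁻¹ = c * g * C.z * (c * g)⁻¹ by group] at h1
      have h2 := (hcases (c * g) h1).resolve_right hzv
      calc g * C.z * g⁻¹ = c⁻¹ * (c * g * C.z * (c * g)⁻¹) * c := by group
        _ = C.z := by rw [h2, hcz.inv_left.eq, inv_mul_cancel_right]
    have hO : Cfsg.pPrimeCore 2 G = ⊥ := by
      haveI : (Cfsg.pPrimeCore 2 G).Normal := Cfsg.Lib.Components.normal_of_mem_sSup_normal fun _ h => h.1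
      refine (IsSimpleGroup.eq_bot_or_eq_top_of_normal _ inferInstance).resolve_right fun h => ?_
      have := Cfsg.Lib.Components.coprime_card_pPrimeCore (G := G) 2
      rw [h, card_top] at this
      refine (Nat.Prime.coprime_iff_not_dvd Nat.prime_two).1 this.symm ?_
      rw [← C.z_order]; exact _root_.orderOf_dvd_natCard _
    have hc : C.z ∈ Subgroup.center G := mem_center_iff.2 fun g => by
      have := Cfsg.Lib.ZStarApps.zstarProp hiso g
      rw [hO, mem_bot, mul_inv_eq_one, mul_inv_eq_iff_eq_mul] at this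
      exact this.symm
    have hne : Subgroup.center G ≠ ⊤ := fun h => by
      obtain ⟨x, y, hxy⟩ := hnab
      exact hxy (mem_center_iff.1 (h ▸ mem_top y) x)
    rw [(IsSimpleGroup.eq_bot_or_eq_top_of_normal _ inferInstance).resolve_right hne, mem_bot] at hc
    exact C.z_ne hc

end Ctx

end Cfsg.Lib.JTwoSimple
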