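import Cfsg.Agent.JTwoSimple.SylowA

/-!
Two classes: a proper subgroup containing `A` and the cores at the centre of `A` forces these cores to generate an
odd subgroup.
-/

set_option autoImplicit false
set_option linter.unusedSectionVars false
set_option linter.style.haveILetI false
set_option synthInstance.maxSize 4096
set_option synthInstance.maxHeartbeats 400000
set_option maxRecDepth 100000

namespace Cfsg.Lib.JTwoSimple

open Subgroup Equiv
open Cfsg.Lib.JTwoSyl (SC smul' InU vc zc ac b12 one' InZ ev7)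
open Cfsg.Lib.Walter (Oc)
open Cfsg.Lib.LFourType (conj_Oc odd_Oc Oc_le Oc_normalized)
open Cfsg.Lib.AltEightType (core core_le odd_core core_normalized le_core odd_sup)

universe u

theorem six_four : ∀ π : Perm (Fin 5), Perm.sign π = 1 → π 4 = 4 → π * π * π * π * π * π = 1 := by decide +kernel

theorem move_all : ∀ π : Perm (Fin 5), Perm.sign π = 1 → π 4 = 4 → π * π = 1 → π ≠ 1 → ∀ i : Fin 5, i ≠ 4 → π i ≠ i := by
  decide +kernel

theorem point_facts : (∀ i : Fin 5, i ≠ 4 → smul' (ac i) (ac 4) ≠ smul' (ac 4) (ac i) ∧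
    smul' (smul' zc (ac i)) (ac 4) ≠ smul' (ac 4) (smul' zc (ac i))) ∧
    ac 0 ≠ zc ∧ smul' b12 b12 = zc ∧ smul' b12 (ac 0) = smul' (ac 0) b12 := by decide +kernel

namespace Ctx

variable {G : Type u} [Group G] [Finite G] (C : Ctx G)

theorem sg_fix_of_commute {c : G} (hc : c ∈ C.C₀) {i : Fin 5} (h : Commute c (C.e (ac i))) :
    C.sg ⟨c, hc⟩ i = i := by
  obtain ⟨o, ho, h'⟩ := C.sg_act ⟨c, hc⟩ i
  change c * C.e (ac i) * c⁻¹ = _ ∨ c * C.e (ac i) * c⁻¹ = _ at h'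
  rw [h.eq, mul_inv_cancel_right] at h'
  rcases h' with r | r
  · exact (ac_inj _ _ (Or.inl (C.e_inj (C.eq_of_Q_O (C.mem_Q.2 rfl) (C.mem_Q.2 rfl) ho r)))).symm
  · have := C.eq_of_Q_O (C.mem_Q.2 rfl) (mul_mem (C.e_zc ▸ C.mem_Q.2 rfl : C.z ∈ C.Q) (C.mem_Q.2 rfl)) ho r
    rw [← C.e_zc, C.e_mul] at this
    exact (ac_inj _ _ (Or.inr (C.e_inj this))).symm

theorem sg_sq_of_two {c : G} (hc : c ∈ C.C₀) {k : ℕ} (h : c ^ 2 ^ k = 1) (h4 : C.sg ⟨c, hc⟩ 4 = 4) :
    C.sg ⟨c, hc⟩ * C.sg ⟨c, hc⟩ = 1 := by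
  have h6 : C.sg ⟨c, hc⟩ ^ 6 = 1 := by
    simpa [pow_succ, mul_assoc] using six_four _ (C.sg_sign _) h4
  have h2 : C.sg ⟨c, hc⟩ ^ 2 ^ k = 1 := by
    rw [← map_pow, show (⟨c, hc⟩ : ↥C.C₀) ^ 2 ^ k = 1 from Subtype.ext h, map_one]
  have hd : orderOf (C.sg ⟨c, hc⟩) ∣ 2 := by
    have h1 := Nat.dvd_gcd (orderOf_dvd_of_pow_eq_one h2) (orderOf_dvd_of_pow_eq_one h6)
    refine h1.trans ((Nat.Coprime.dvd_of_dvd_mul_right (m := 2) (n := 3) ?_ (Nat.gcd_dvd_right _ _)))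
    exact Nat.Coprime.coprime_dvd_left (Nat.gcd_dvd_left _ _) (Nat.Coprime.pow_left k (by norm_num))
  rw [← pow_two]
  exact orderOf_dvd_iff_pow_eq_one.1 hd

theorem fix_four {M : Subgroup G} (hA : C.A ≤ M) (hO : Oc C.z ≤ M) (hno : ¬ C.C₀ ≤ M) {c : G} (hc : c ∈ M)
    (hcz : c ∈ C.C₀) : C.sg ⟨c, hcz⟩ 4 = 4 := by
  by_contra h
  exact hno (C.cover hA hO hc hcz h)

variable (hza : IsConj C.z C.a₄) (hv : ¬ IsConj C.z (C.e vc))
include hza hv

theorem outer_not_z {x : G} (hx : x ∈ C.E ∨ x ∈ C.E') (hxU : x ∉ C.U) : ¬ IsConj x C.z := by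
  intro h
  rcases hx with hx | hx
  · exact hv (h.symm.trans (C.outer_conj hx hxU))
  · obtain ⟨X, hX, rfl⟩ := C.E'_code hx
    have h1 : C.e (c0 X) ∉ C.U := fun hh => hxU (C.mem_U.2 ((c0_spec.2.2 X).1.1 (C.mem_U.1 hh)))
    exact hv (h.symm.trans ((isConj_iff.2 ⟨C.e (ac 0), C.conj_a0 X⟩).trans (C.outer_conj (C.mem_E.2 hX) h1)))

theorem point_z (i : Fin 5) : IsConj (C.e (ac i)) C.z ∧ IsConj (C.z * C.e (ac i)) C.z :=
  ⟨(C.points i).1.trans hza.symm, (C.points i).2.trans hza.symm⟩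

theorem z_class_A {x : G} (hx : x ∈ C.A) (h2 : x * x = 1) (hc : IsConj x C.z) : x ∈ C.U := by
  rcases C.involution_cases (C.A_le hx) h2 with r | ⟨i, hi, r⟩ | r | r
  · exact r
  · exfalso
    rcases r with rfl | rfl
    · exact (point_facts.1 i hi).1 (C.mem_A.1 hx)
    · rw [← C.e_zc, C.e_mul] at hx
      exact (point_facts.1 i hi).2 (C.mem_A.1 hx)
  · exact by_contra fun h => C.outer_not_z hza hv (Or.inl r) h hc
  · exact by_contra fun h => C.outer_not_z hza hv (Or.inr r) h hc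

omit hza hv in
theorem map_ge {M : Subgroup G} (hA : C.A ≤ M) (hW : C.W ≤ M) {n : G} (hn : n ∈ normalizer (C.A : Set G)) :
    C.A ≤ M.map (MulAut.conj n).toMonoidHom ∧ C.W ≤ M.map (MulAut.conj n).toMonoidHom :=
  ⟨(mem_normalizer_iff_map_conj_eq.1 hn).ge.trans (map_mono hA),
    (mem_normalizer_iff_map_conj_eq.1 (C.W_normalized fun _ hu => C.NA_U hn hu)).ge.trans (map_mono hW)⟩

/-- the centraliser of `z` is contained -/
theorem odd_W_of_cent [IsSimpleGroup G] {M : Subgroup G} (hM : M ≠ ⊤) (hA : C.A ≤ M) (hW : C.W ≤ M)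
    (hC : C.C₀ ≤ M) : Odd (Nat.card C.W) := by
  haveI : Fact (Nat.Prime 2) := ⟨Nat.prime_two⟩
  have hzM : C.z ∈ M := hA (C.U_le_A C.z_U)
  have ha0 : C.e (ac 0) ∈ M := hC (C.e_cz _)
  have hfus : ∀ m ∈ M, m * C.z * m⁻¹ ∈ C.U → m * C.z * m⁻¹ = C.z := by
    intro m hm hU
    by_contra hne
    refine (C.false_of_control hza hM hC (fun u hu hu1 => ?_) fun x hx hxU hc =>
      absurd hc (C.outer_not_z hza hv (Or.inl hx) hxU)).elim
    have hflip : C.e (ac 0) * C.a₄ * (C.e (ac 0))⁻¹ = C.z * C.a₄ := by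
      rw [C.M.inv_ev, C.e_mul, C.e_mul, flip_point, ← C.e_mul, C.e_zc]
    have hfix : C.e (ac 0) * C.z * (C.e (ac 0))⁻¹ = C.z := by
      rw [(C.M.z_central (C.e_mem (ac 0))).eq, mul_inv_cancel_right]
    have hflip' : C.e (ac 0) * (C.z * C.a₄) * (C.e (ac 0))⁻¹ = C.a₄ := by
      rw [conj_mul', hfix, hflip, ← mul_assoc, C.z_sq, one_mul]
    have hboth : (∃ k ∈ M, k * C.z * k⁻¹ = C.a₄) ∧ ∃ k ∈ M, k * C.z * k⁻¹ = C.z * C.a₄ := by
      rcases C.mem_U_iff.1 hU with r | r | r | r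
      · exact absurd (conj_eq_one_iff.1 r) C.z_ne
      · exact absurd r hne
      · exact ⟨⟨m, hm, r⟩, C.e (ac 0) * m, mul_mem ha0 hm, by
          rw [show C.e (ac 0) * m * C.z * (C.e (ac 0) * m)⁻¹ = C.e (ac 0) * (m * C.z * m⁻¹) * (C.e (ac 0))⁻¹ by group,
            r, hflip]⟩
      · exact ⟨⟨C.e (ac 0) * m, mul_mem ha0 hm, by
          rw [show C.e (ac 0) * m * C.z * (C.e (ac 0) * m)⁻¹ = C.e (ac 0) * (m * C.z * m⁻¹) * (C.e (ac 0))⁻¹ by group,
            r, hflip']⟩, m, hm, r⟩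
    rcases C.mem_U_iff.1 hu with rfl | rfl | rfl | rfl
    · exact absurd rfl hu1
    · exact ⟨1, one_mem _, by group⟩
    · exact hboth.1
    · exact hboth.2
  have hiso : ∀ g ∈ M, Commute C.z (g * C.z * g⁻¹) → g * C.z * g⁻¹ = C.z := by
    intro g hg hc
    set t := g * C.z * g⁻¹ with ht
    have htt : t * t = 1 := Cfsg.Lib.JTwoSyl.conj_sq_one C.z_sq
    obtain ⟨c, hcz, hcS⟩ := Cfsg.Lib.JTwoSyl.exists_conj_into C.M
      (T := zpowers t) (Cfsg.Lib.LFourType.isPGroup_zpowers_sq htt)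
      (fun y hy => by obtain ⟨k, rfl⟩ := mem_zpowers_iff.1 hy; exact hc.symm.zpow_left k)
    have hcM : c ∈ M := hC (mem_centralizer_singleton_iff.2 hcz.eq)
    have hsU : c * t * c⁻¹ ∈ C.U → t = C.z := fun hU => by
      have h1 := hfus (c * g) (mul_mem hcM hg) (by
        rwa [show c * g * C.z * (c * g)⁻¹ = c * t * c⁻¹ by rw [ht]; group])
      calc t = c⁻¹ * (c * g * C.z * (c * g)⁻¹) * c := by rw [ht]; group
        _ = C.z := by rw [h1, hcz.inv_left.eq, inv_mul_cancel_right]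
    have hsz : IsConj (c * t * c⁻¹) C.z := (isConj_iff.2 ⟨c * g, by rw [ht]; group⟩).symm
    rcases C.involution_cases (hcS t (mem_zpowers t)) (Cfsg.Lib.JTwoSyl.conj_sq_one htt) with r | ⟨i, hi, r⟩ | r | r
    · exact hsU r
    · exfalso
      obtain ⟨π, hπ, hπi⟩ := Cfsg.Lib.JTwoSyl.even_to_four i
      obtain ⟨n, hnN, hσ⟩ := C.exists_NQ_sg hπ
      have h := C.NQ_act hnN i
      rw [hσ, hπi] at h
      have hnz : n * C.z * n⁻¹ = C.z := by
        rw [mem_centralizer_singleton_iff.1 (C.NQ_le hnN), mul_inv_cancel_right]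
      have hx : n * (c * t * c⁻¹) * n⁻¹ = C.a₄ ∨ n * (c * t * c⁻¹) * n⁻¹ = C.z * C.a₄ := by
        rcases r with r | r <;> rw [r]
        · exact h
        · rw [conj_mul', hnz]
          rcases h with h | h <;> rw [h]
          · exact Or.inr rfl
          · left; rw [← mul_assoc, C.z_sq, one_mul]
      have h1 := hfus (n * c * g) (mul_mem (mul_mem (hC (C.NQ_le hnN)) hcM) hg) (by
        rw [show n * c * g * C.z * (n * c * g)⁻¹ = n * (c * t * c⁻¹) * n⁻¹ by rw [ht]; group]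
        rcases hx with hx | hx <;> rw [hx]
        · exact C.a_U
        · exact mul_mem C.z_U C.a_U)
      rw [show n * c * g * C.z * (n * c * g)⁻¹ = n * (c * t * c⁻¹) * n⁻¹ by rw [ht]; group] at h1
      rcases hx with hx | hx <;> rw [hx] at h1
      · exact absurd (C.e_inj (h1.trans C.e_zc.symm)) (by decide +kernel)
      · exact absurd (C.e_inj ((mul_eq_left.1 h1).trans C.e_one.symm)) (by decide +kernel)
    · exact hsU (by_contra fun h => C.outer_not_z hza hv (Or.inl r) h hsz)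
    · exact hsU (by_contra fun h => C.outer_not_z hza hv (Or.inr r) h hsz)
  suffices C.W ≤ core M from (odd_core M).of_dvd_nat (card_dvd_of_le this)
  set K := core M
  have hdec : ∀ g ∈ M, ∃ k ∈ K, k⁻¹ * g ∈ C.C₀ := fun g hg =>
    Cfsg.Lib.AltEightType.isolated_of_commuting hzM C.z_order hiso hg
  have hOK : Oc C.z ≤ K := le_sup_right.trans (le_core (H := M) (U := K ⊔ Oc C.z)
    (sup_le (core_le M) (C.O_le.trans hC))
    (fun m hm u hu => by
      obtain ⟨k, hk, hkm⟩ := hdec m hm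
      have h2 : m ∈ normalizer ((K ⊔ Oc C.z : Subgroup G) : Set G) := by
        rw [show m = k * (k⁻¹ * m) by group]
        exact mul_mem (le_normalizer (mem_sup_left hk))
          (Cfsg.Lib.LFourType.mem_normalizer_sup (core_normalized (hC hkm)) (C.O_normalized hkm))
      exact (mem_normalizer_iff.1 h2 u).1 hu)
    (odd_sup (odd_core M) C.odd_O fun o ho => core_normalized (hC (C.O_le ho))))
  refine iSup_le fun ⟨u, hu, hu1⟩ x hx => ?_
  have hxM : x ∈ M := hW (C.Oc_le_W hu hu1 hx)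
  have hzu : C.z ∈ normalizer (Oc u : Set G) := Oc_normalized (C.A_le_cent hu (C.U_le_A C.z_U))
  set N := K ⊓ Oc u with hN
  have hZN : zpowers C.z ≤ normalizer (N : Set G) :=
    zpowers_le.2 (Cfsg.Lib.LFourType.mem_normalizer_inf (core_normalized hzM) hzu)
  have hxN : x ∈ normalizer (N : Set G) :=
    Cfsg.Lib.LFourType.mem_normalizer_inf (core_normalized hxM) (le_normalizer hx)
  have hcop : (Nat.card (zpowers C.z)).Coprime (Nat.card N) := by
    rw [Nat.card_zpowers, C.z_order]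
    exact Nat.coprime_two_left.2 ((odd_Oc u).of_dvd_nat (card_dvd_of_le inf_le_right))
  have hsol : Group.IsSolvable ↥(zpowers C.z) := Group.isSolvable_of_comm fun p q => mul_comm' p q
  obtain ⟨n, hn, hc⟩ := Cfsg.Lib.Coprime.exists_fixed_of_commutator_mem hZN hcop (Or.inl hsol) hxN (fun a ha => by
    have hone : a = 1 ∨ a = C.z := by
      obtain ⟨i, rfl⟩ := mem_zpowers_iff.1 ha
      obtain ⟨j, hj | hj⟩ := Int.even_or_odd' i
      · left; rw [hj, zpow_mul, zpow_two, C.z_sq, one_zpow]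
      · right; rw [hj, zpow_add_one, zpow_mul, zpow_two, C.z_sq, one_zpow, one_mul]
    rcases hone with rfl | rfl
    · simp
    refine mem_inf.2 ⟨?_, (Oc u).mul_mem ((mem_normalizer_iff.1 hzu x).1 hx) ((Oc u).inv_mem hx)⟩
    obtain ⟨k, hk, hkx⟩ := hdec x hxM
    have hzk : C.z * (k⁻¹ * x) = k⁻¹ * x * C.z := (mem_centralizer_singleton_iff.1 hkx).symm
    have e1 : C.z * x * C.z⁻¹ * x⁻¹ = C.z * k * C.z⁻¹ * k⁻¹ := by
      calc C.z * x * C.z⁻¹ * x⁻¹ = C.z * k * C.z⁻¹ * (C.z * (k⁻¹ * x)) * C.z⁻¹ * x⁻¹ := by group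
        _ = C.z * k * C.z⁻¹ * k⁻¹ := by rw [hzk]; group
    rw [e1]
    exact K.mul_mem ((mem_normalizer_iff.1 (core_normalized hzM) k).1 hk) (K.inv_mem hk))
  have hX : Oc u ⊓ centralizer ({C.z} : Set G) ≤ Oc C.z := C.le_Oc_U hza C.z_U C.z_ne inf_le_right
    ((odd_Oc u).of_dvd_nat (card_dvd_of_le inf_le_left)) (Or.inl fun y hy =>
      Cfsg.Lib.LFourType.mem_normalizer_inf (C.E_le_nOc (C.U_le_E hu) hy)
        (le_normalizer (C.A_le_C₀ (C.E_le_A hy))))
  have h1 : x * n ∈ K := hOK (hX ⟨mul_mem hx hn.2, centralizer_le (Set.singleton_subset_iff.2 (mem_zpowers C.z)) hc⟩)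
  have := mul_mem h1 (inv_mem hn.1)
  rwa [mul_inv_cancel_right] at this

/-- no fusion of the centre of `A` to the outer point -/
theorem not_fused {M : Subgroup G} (hA : C.A ≤ M) (hW : C.W ≤ M) (hS : (C.S : Subgroup G) ≤ M)
    (hno : ∀ u ∈ C.U, u ≠ 1 → ¬ centralizer ({u} : Set G) ≤ M) {m : G} (hm : m ∈ M) {x : G} (hx : x ∈ C.U)
    (hx1 : x ≠ 1) : m * x * m⁻¹ ≠ C.e (ac 0) := by
  intro hmx
  obtain ⟨n, hn, -, hnx⟩ := C.exists_NA hza hx hx1
  have hOz : Oc C.z ≤ M := (C.Oc_le_W C.z_U C.z_ne).trans hW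
  have hnoz : ¬ C.C₀ ≤ M := hno _ C.z_U C.z_ne
  -- the conjugate of `M`
  set M' := M.map (MulAut.conj n⁻¹).toMonoidHom with hM'
  have hM'mem : ∀ g, g ∈ M → n⁻¹ * g * n ∈ M' := fun g hg => ⟨g, hg, by simp⟩
  obtain ⟨hA', hW'⟩ := C.map_ge hA hW (inv_mem hn)
  have hO' : Oc C.z ≤ M' := (C.Oc_le_W C.z_U C.z_ne).trans hW'
  have hno' : ¬ C.C₀ ≤ M' := by
    intro h
    refine hno x hx hx1 fun c hc => ?_
    obtain ⟨g, hg, e'⟩ := h (show n⁻¹ * c * n ∈ C.C₀ from mem_centralizer_singleton_iff.2 (by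
      have hz' : n⁻¹ * x * n = C.z := by rw [← hnx]; group
      rw [← hz']
      have := ((show Commute c x from mem_centralizer_singleton_iff.1 hc).map (MulAut.conj n⁻¹).toMonoidHom).eq
      simpa [mul_assoc] using this))
    simp only [MulEquiv.coe_toMonoidHom, MulAut.conj_apply, inv_inv] at e'
    rwa [mul_right_cancel (b := n) (mul_left_cancel (a := n⁻¹) (by simpa [mul_assoc] using e') : g * n = c * n)] at hg
  -- the element of order four
  set b := C.e b12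
  have hbb : b * b = C.z := by rw [C.e_mul, point_facts.2.2.1, C.e_zc]
  set t := n⁻¹ * (m⁻¹ * b * m) * n with ht
  have hb4 : b ^ 2 ^ 2 = 1 := by
    rw [show b ^ 2 ^ 2 = b * b * (b * b) by rw [show (2:ℕ)^2 = 4 from rfl]; simp [pow_succ, mul_assoc], hbb, C.z_sq]
  have htM : t ∈ M' := hM'mem _ (mul_mem (mul_mem (inv_mem hm) (hS (C.e_mem _))) hm)
  have hba : Commute b (C.e (ac 0)) := (C.M.commute_iff b12 (ac 0)).2 point_facts.2.2.2
  have hbx : Commute (m⁻¹ * b * m) x := by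
    have h1 := hba.map (MulAut.conj m⁻¹).toMonoidHom
    simp only [MulEquiv.coe_toMonoidHom, MulAut.conj_apply, inv_inv, ← hmx] at h1
    rwa [show m⁻¹ * (m * x * m⁻¹) * m = x by group] at h1
  have htz : t ∈ C.C₀ := by
    have h1 := hbx.map (MulAut.conj n⁻¹).toMonoidHom
    simp only [MulEquiv.coe_toMonoidHom, MulAut.conj_apply, inv_inv, ← hnx] at h1
    rw [show n⁻¹ * (n * C.z * n⁻¹) * n = C.z by group] at h1
    exact mem_centralizer_singleton_iff.2 h1.eq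
  have ht4 : t ^ 2 ^ 2 = 1 := by
    rw [show t = MulAut.conj n⁻¹ (MulAut.conj m⁻¹ b) by simp [ht, mul_assoc], ← map_pow, ← map_pow, hb4, map_one,
      map_one]
  set y := t * t with hy
  have hy' : y = n⁻¹ * (m⁻¹ * C.z * m) * n := by rw [hy, ht, ← hbb]; group
  have hy1 : y ≠ 1 := fun h => C.z_ne (by
    calc C.z = m * (n * y * n⁻¹) * m⁻¹ := by rw [hy']; group
      _ = 1 := by rw [h]; group)
  have hyz : y ≠ C.z := fun h => point_facts.2.1 (C.e_inj (by
    calc C.e (ac 0) = m * (n * C.z * n⁻¹) * m⁻¹ := by rw [hnx, hmx]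
      _ = m * (n * y * n⁻¹) * m⁻¹ := by rw [h]
      _ = C.e zc := by rw [C.e_zc, hy']; group))
  have hy2 : y * y = 1 := by
    have : t ^ 2 ^ 2 = y * y := by rw [hy, show (2:ℕ)^2 = 4 from rfl]; simp [pow_succ, mul_assoc]
    rw [← this, ht4]
  have hyz' : y ∈ C.C₀ := mul_mem htz htz
  have ht2 := C.sg_sq_of_two htz ht4 (C.fix_four hA' hO' hno' htM htz)
  obtain ⟨X, hX, o, ho, hyX⟩ := C.sg_ker.1 (show C.sg ⟨y, hyz'⟩ = 1 by
    rw [show (⟨y, hyz'⟩ : ↥C.C₀) = ⟨t, htz⟩ * ⟨t, htz⟩ from rfl, map_mul, ht2])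
  change y = C.e X * o at hyX
  set q := C.e X with hq
  have hqO : q ∈ normalizer (Oc C.z : Set G) := C.O_normalized (C.e_cz X)
  have hqq : q * q = 1 := by
    refine C.eq_one_of_S_O (mul_mem (C.e_mem X) (C.e_mem X)) ?_
    have h1 : q * q = (q * o * q⁻¹)⁻¹ * (y * y) * o⁻¹ := by rw [hyX]; group
    rw [h1, hy2, mul_one]
    exact mul_mem (inv_mem ((mem_normalizer_iff.1 hqO o).1 ho)) (inv_mem ho)
  have hinv : q * o * q⁻¹ = o⁻¹ := by
    rw [inv_eq_of_mul_eq_one_right hqq]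
    refine eq_inv_of_mul_eq_one_left ?_
    rw [← hy2, hyX]; group
  have hsame : ∀ {p : G}, p ∈ (C.S : Subgroup G) → q = 1 ∨ q = C.z → False := by
    intro _ _ hq'
    have ho2 : o * o = 1 := by
      rcases hq' with r | r
      · rw [hyX, r, one_mul] at hy2; exact hy2
      · rw [r, ← mem_centralizer_singleton_iff.1 (C.O_le ho), mul_inv_cancel_right] at hinv
        rw [mul_eq_one_iff_eq_inv]; exact hinv
    have ho1 : o = 1 := Cfsg.Lib.AltEightType.eq_one_of_odd_two C.odd_O ho ho2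
    rw [ho1, mul_one] at hyX
    rcases hq' with r | r
    · exact hy1 (hyX.trans r)
    · exact hyz (hyX.trans r)
  have hqne : q ≠ 1 ∧ q ≠ C.z :=
    ⟨fun h => hsame (C.e_mem X) (Or.inl h), fun h => hsame (C.e_mem X) (Or.inr h)⟩
  -- `t` acts without fixed points
  have htne : C.sg ⟨t, htz⟩ ≠ 1 := by
    intro h
    obtain ⟨Y, hY, o', ho', htY⟩ := C.sg_ker.1 h
    change t = C.e Y * o' at htY
    have h1 : q = C.e (smul' Y Y) := by
      have hYn : C.e Y ∈ normalizer (Oc C.z : Set G) := C.O_normalized (C.e_cz Y)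
      have h2 : (C.e Y * C.e Y)⁻¹ * q ∈ Oc C.z := by
        have : (C.e Y * C.e Y)⁻¹ * q = (C.e Y)⁻¹ * o' * (C.e Y)⁻¹⁻¹ * o' * o⁻¹ := by
          have e0 : q = y * o⁻¹ := by rw [hyX]; group
          rw [e0, hy, htY]; group
        rw [this]
        exact mul_mem (mul_mem ((mem_normalizer_iff.1 (inv_mem hYn) o').1 ho') ho') (inv_mem ho)
      have h3 := C.eq_one_of_S_O (mul_mem (inv_mem (mul_mem (C.e_mem Y) (C.e_mem Y))) (C.e_mem X)) h2
      rw [← C.e_mul]; exact (inv_mul_eq_one.1 h3).symm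
    rcases (C.M.inZ_iff _).2 (q_sq' Y hY) with r | r
    · exact hqne.1 (h1.trans r)
    · exact hqne.2 (h1.trans r)
  -- move `y` into `S`
  obtain ⟨k, hk⟩ := Cfsg.Lib.LFourType.odd_orderOf C.odd_O ho
  set d := o ^ (k + 1) with hd
  have hdO : d ∈ Oc C.z := pow_mem ho _
  have hdd : d * d = o := by
    rw [hd, ← pow_add, show k + 1 + (k + 1) = orderOf o + 1 by omega, pow_succ, pow_orderOf_eq_one, one_mul]
  have hdy : d * y * d⁻¹ = q := by
    have h1 : q * d * q⁻¹ = d⁻¹ := by rw [hd, ← conj_pow, hinv, inv_pow]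
    calc d * y * d⁻¹ = d * (q * (d * d)) * d⁻¹ := by rw [hyX, hdd]
      _ = d * (q * d * q⁻¹) * q := by group
      _ = q := by rw [h1]; group
  set t' := d * t * d⁻¹ with ht'
  have ht'z : t' ∈ C.C₀ := mul_mem (mul_mem (C.O_le hdO) htz) (inv_mem (C.O_le hdO))
  have ht's : C.sg ⟨t', ht'z⟩ = C.sg ⟨t, htz⟩ := by
    rw [show (⟨t', ht'z⟩ : ↥C.C₀) = ⟨d, C.O_le hdO⟩ * ⟨t, htz⟩ * ⟨d, C.O_le hdO⟩⁻¹ from rfl, map_mul, map_mul,
      map_inv, C.sg_O hdO, one_mul, inv_one, mul_one]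
  have ht'q : Commute t' q := by
    have := (show Commute t y from ((Commute.refl t).mul_right (Commute.refl t))).map (MulAut.conj d).toMonoidHom
    simp only [MulEquiv.coe_toMonoidHom, MulAut.conj_apply, hdy] at this
    exact this
  have hqU : q ∈ C.U := by
    have hE : ∀ Z : SC, smul' Z vc = smul' vc Z → Z.2 = (false, false) → InU Z := fun Z hZ h2 =>
      by_contra fun h => (e_facts Z hZ).2.2 h h2
    rcases C.involution_cases (C.e_mem X) hqq with r | ⟨i, hi, r⟩ | r | r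
    · exact r
    · exfalso
      have hfix : C.sg ⟨t', ht'z⟩ i = i := C.sg_fix_of_commute ht'z (by
        rcases r with r | r
        · rwa [← r]
        · have hz' : Commute t' C.z := mem_centralizer_singleton_iff.1 ht'z
          have := hz'.mul_right ht'q
          rwa [hq, r, ← mul_assoc, C.z_sq, one_mul] at this)
      rw [ht's] at hfix
      exact move_all _ (C.sg_sign _) (C.fix_four hA' hO' hno' htM htz) ht2 htne i hi hfix
    · exact C.mem_U.2 (hE X (C.mem_E.1 r) hX)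
    · exact C.mem_U.2 ((c0_spec.2.2 X).1.1 (hE _ (C.mem_E'.1 r) (by rw [c0_spec.2.1, hX])))
  -- a large subgroup fixing two points
  set c := m * n * d⁻¹ with hc
  have hPmem : ∀ p ∈ C.A.map (MulAut.conj c).toMonoidHom,
      p ∈ M ∧ p ∈ C.C₀ ∧ Commute p (C.e (ac 0)) := by
    rintro _ ⟨a, ha, rfl⟩
    show MulAut.conj c a ∈ M ∧ _
    have hcz : MulAut.conj c q = C.z := by
      rw [MulAut.conj_apply, hc, ← hdy, hy']; group
    have hcx : MulAut.conj c C.z = C.e (ac 0) := by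
      rw [MulAut.conj_apply, hc, show m * n * d⁻¹ * C.z * (m * n * d⁻¹)⁻¹ = m * (n * (d⁻¹ * C.z * d) * n⁻¹) * m⁻¹ by
        group, mem_centralizer_singleton_iff.1 (inv_mem (C.O_le hdO)), inv_mul_cancel_right, hnx, hmx]
    refine ⟨?_, ?_, ?_⟩
    · have hin : d⁻¹ * a * d ∈ M' := mul_mem (mul_mem (inv_mem (hO' hdO)) (hA' ha)) (hO' hdO)
      obtain ⟨g, hg, e'⟩ := hin
      have : MulAut.conj c a = m * g * m⁻¹ := by
        simp only [MulEquiv.coe_toMonoidHom, MulAut.conj_apply, inv_inv] at e'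
        rw [MulAut.conj_apply, hc, show m * n * d⁻¹ * a * (m * n * d⁻¹)⁻¹ = m * (n * (d⁻¹ * a * d) * n⁻¹) * m⁻¹ by group,
          ← e']
        group
      rw [this]; exact mul_mem (mul_mem hm hg) (inv_mem hm)
    · refine mem_centralizer_singleton_iff.2 ?_
      have := ((C.U_comm hqU ha).symm.map (MulAut.conj c).toMonoidHom).eq
      simp only [MulEquiv.coe_toMonoidHom, hcz] at this
      exact this
    · have := ((C.U_comm C.z_U ha).symm.map (MulAut.conj c).toMonoidHom)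
      simp only [MulEquiv.coe_toMonoidHom, hcx] at this
      exact this
  have h32 := C.card_le_thirtytwo (C.isPGroup_A.map _) (fun p hp => (hPmem p hp).2.1)
    fun p hp => ⟨C.fix_four hA hOz hnoz (hPmem p hp).1 _, C.sg_fix_of_commute _ (hPmem p hp).2.2⟩
  rw [card_map_of_injective (MulEquiv.injective _), C.card_A] at h32
  omega

/-- a subgroup containing the whole Sylow subgroup -/
theorem odd_W_of_S {M : Subgroup G} (hA : C.A ≤ M) (hW : C.W ≤ M) (hS : (C.S : Subgroup G) ≤ M)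
    (hno : ∀ u ∈ C.U, u ≠ 1 → ¬ centralizer ({u} : Set G) ≤ M) : Odd (Nat.card C.W) := by
  classical
  haveI : Fact (Nat.Prime 2) := ⟨Nat.prime_two⟩
  set a0 := C.e (ac 0)
  have ha0A : a0 ∉ C.A := fun h => (point_facts.1 0 (by decide)).1 (C.mem_A.1 h)
  have ha0sq : a0 * a0 = 1 := (C.M.sq_iff _).2 (by decide +kernel)
  have ha01 : a0 ≠ 1 := fun h => ha0A (h ▸ one_mem _)
  have hcoset : ∀ s ∈ (C.S : Subgroup G), s ∉ C.A → s * a0 ∈ C.A := by
    intro s hs hsA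
    obtain ⟨X, rfl⟩ := C.M.surj s hs
    show C.e X * C.e (ac 0) ∈ C.A
    rw [C.e_mul, C.mem_A]
    exact (Cfsg.Lib.JTwoSyl.a4_coset X).2 fun h => hsA (C.mem_A.2 h)
  set P := C.S.subtype hS
  have hPc : (P : Subgroup ↥M) = (C.S : Subgroup G).subgroupOf M := C.S.coe_subtype hS
  have hQP : C.A.subgroupOf M ≤ (P : Subgroup ↥M) := by
    rw [hPc]; exact fun p hp => C.A_le hp
  have hQi : (C.A.subgroupOf M).relIndex (P : Subgroup ↥M) = 2 := by
    rw [hPc, relIndex_subgroupOf hS, relIndex, index_eq_two_iff]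
    refine ⟨⟨a0, C.e_mem _⟩, fun s => ?_⟩
    simp only [mem_subgroupOf, Subgroup.coe_mul]
    by_cases hs : (s : G) ∈ C.A
    · exact Or.inr ⟨hs, fun h => ha0A ((mul_mem_cancel_left hs).1 h)⟩
    · exact Or.inl ⟨hcoset _ s.2 hs, hs⟩
  obtain ⟨M0, hn0, hi0, hu0, hgood⟩ := Cfsg.Lib.AltEightType.transfer_split P (C.A.subgroupOf M) hQP hQi
    (u := ⟨a0, hS (C.e_mem _)⟩)
    (by rw [Subgroup.orderOf_mk]; exact Cfsg.Lib.InvolCalc.order_two_of_mul_self ha0sq ha01) (fun g hg => by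
      have hg' : (g : G)⁻¹ * a0 * g ∈ C.A := mem_subgroupOf.1 hg
      have hconj : IsConj a0 ((g : G)⁻¹ * a0 * g) := isConj_iff.2 ⟨(g : G)⁻¹, by rw [inv_inv]⟩
      have hU := C.z_class_A hza hv hg' (by rw [show (g : G)⁻¹ * a0 * g * ((g : G)⁻¹ * a0 * g) =
          (g : G)⁻¹ * (a0 * a0) * g by group, ha0sq]; group)
        (hconj.symm.trans (C.point_z hza hv 0).1)
      refine C.not_fused hza hv hA hW hS hno g.2 hU (fun h => ha01 ?_) (by group; rfl)
      calc a0 = (g : G) * ((g : G)⁻¹ * a0 * g) * (g : G)⁻¹ := by group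
        _ = 1 := by rw [h]; group)
  set M1 := M0.map M.subtype with hM1
  have hM1le : M1 ≤ M := map_subtype_le _
  have hout : ∀ a ∈ C.A, a * a = 1 → ¬ IsConj a C.z → a ∈ M1 := by
    intro a ha ha2 hac
    refine ⟨⟨a, hA ha⟩, hgood _ (Subtype.ext ha2) (fun g hg => ?_), rfl⟩
    have hg' : (g : G)⁻¹ * a * g ∈ (C.S : Subgroup G) := mem_subgroupOf.1 (hPc.le hg)
    have hconj : IsConj a ((g : G)⁻¹ * a * g) := isConj_iff.2 ⟨(g : G)⁻¹, by rw [inv_inv]⟩
    refine mem_subgroupOf.2 ?_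
    show (g : G)⁻¹ * a * g ∈ C.A
    rcases C.involution_cases hg' (by rw [show (g : G)⁻¹ * a * g * ((g : G)⁻¹ * a * g) =
        (g : G)⁻¹ * (a * a) * g by group, ha2]; group) with r | ⟨i, -, r⟩ | r | r
    · exact C.U_le_A r
    · refine absurd ?_ hac
      rcases r with r | r <;> rw [r] at hconj
      · exact hconj.trans (C.point_z hza hv i).1
      · exact hconj.trans (C.point_z hza hv i).2
    · exact C.E_le_A r
    · exact C.E'_le_A r
  have hout' : ∀ x, x ∈ C.E ∨ x ∈ C.E' → x ∉ C.U → x ∈ M1 := by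
    intro x hx hxU
    refine hout x ?_ ?_ (C.outer_not_z hza hv hx hxU)
    · rcases hx with hx | hx
      · exact C.E_le_A hx
      · exact C.E'_le_A hx
    · rcases hx with hx | hx
      · exact C.E_sq hx
      · exact C.E'_sq hx
  have hgen : ∀ B : Subgroup G, (∀ x ∈ B, x ∈ C.E ∨ x ∈ C.E') → ∀ v', v' ∈ B → v' ∉ C.U → B ≤ M1 := by
    intro B hB v' hv' hvU x hx
    by_cases hxU : x ∈ C.U
    · have h1 := hout' _ (hB _ (mul_mem hv' hx)) fun h => hvU ((mul_mem_cancel_right hxU).1 h)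
      rw [show x = v'⁻¹ * (v' * x) by group]
      exact mul_mem (inv_mem (hout' _ (hB _ hv') hvU)) h1
    · exact hout' x (hB x hx) hxU
  have hA1 : C.A ≤ M1 := C.A_le_sup.trans (sup_le (hgen _ (fun x hx => Or.inl hx) _ C.vc_E C.vc_notU)
    (hgen _ (fun x hx => Or.inr hx) (C.e (c0 vc)) ⟨C.e vc, C.vc_E, C.conj_a0 vc⟩
      fun h => C.vc_notU (C.mem_U.2 ((c0_spec.2.2 vc).1.1 (C.mem_U.1 h)))))
  have hW1 : C.W ≤ M1 := iSup_le fun ⟨u, hu, hu1⟩ x hx => by
    have hxM : x ∈ M := hW (C.Oc_le_W hu hu1 hx)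
    refine ⟨⟨x, hxM⟩, Cfsg.Lib.LFourType.sq_mem_imp ?_ (mul_self_mem_of_index_two hi0 _), rfl⟩
    rw [Subgroup.orderOf_mk]; exact Cfsg.Lib.LFourType.odd_orderOf (odd_Oc u) hx
  refine C.odd_W_of_sylow_A hza hv hA1 hW1 fun R hR hAR hRM => ?_
  refine (eq_of_le_of_card_ge hAR ?_).symm
  obtain ⟨k, hk⟩ := Cfsg.Lib.InvolCalc.exists_conj_le P
    (hR.of_equiv (subgroupOfEquivOfLe (hRM.trans hM1le)).symm)
  haveI := hn0
  calc Nat.card R = Nat.card (R.map (MulAut.conj (k : G)⁻¹).toMonoidHom) :=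
        (card_map_of_injective (MulEquiv.injective _)).symm
    _ ≤ Nat.card C.A := card_le_of_le (by
      rintro _ ⟨r, hr, rfl⟩
      have h1 : (k : G)⁻¹ * r * k ∈ (C.S : Subgroup G) :=
        mem_subgroupOf.1 (hPc.le (hk ⟨r, hM1le (hRM hr)⟩ hr))
      obtain ⟨r', hr', e'⟩ := hRM hr
      have h2 : (k : G)⁻¹ * r * k ∈ M1 := ⟨k⁻¹ * r' * k, by
        have := hn0.conj_mem r' hr' k⁻¹
        rwa [inv_inv] at this, by
        show ((k : G)⁻¹ * (r' : G) * k) = _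
        rw [show (r' : G) = r from e']⟩
      simp only [MulEquiv.coe_toMonoidHom, MulAut.conj_apply, inv_inv]
      by_contra hA'
      have h3 := hA1 (hcoset _ h1 hA')
      obtain ⟨w, hw, ew⟩ := (M1.mul_mem_cancel_left h2).1 h3
      exact hu0 ((Subtype.ext ew : w = ⟨a0, hS (C.e_mem _)⟩) ▸ hw))

/-- **a proper subgroup with `A` and the cores** -/
theorem odd_W_of_proper [IsSimpleGroup G] {M : Subgroup G} (hM : M ≠ ⊤) (hA : C.A ≤ M) (hW : C.W ≤ M) :
    Odd (Nat.card C.W) := by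
  haveI : Fact (Nat.Prime 2) := ⟨Nat.prime_two⟩
  by_cases hex : ∃ u ∈ C.U, u ≠ 1 ∧ centralizer ({u} : Set G) ≤ M
  · obtain ⟨u, hu, hu1, hC⟩ := hex
    obtain ⟨n, hn, -, hnu⟩ := C.exists_NA hza hu hu1
    obtain ⟨hA', hW'⟩ := C.map_ge hA hW (inv_mem hn)
    refine C.odd_W_of_cent hza hv (M := M.map (MulAut.conj n⁻¹).toMonoidHom) (fun h => hM ?_) hA' hW' fun c hc => ?_
    · exact Subgroup.map_injective (f := (MulAut.conj n⁻¹).toMonoidHom) (MulEquiv.injective _)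
        (h.trans (map_top_of_surjective _ (MulEquiv.surjective _)).symm)
    · refine ⟨n * c * n⁻¹, hC (mem_centralizer_singleton_iff.2 ?_), by simp [mul_assoc]⟩
      rw [← hnu]
      exact ((show Commute c C.z from mem_centralizer_singleton_iff.1 hc).map (MulAut.conj n).toMonoidHom).eq
  push Not at hex
  by_cases hmax : ∀ P : Subgroup G, IsPGroup 2 P → C.A ≤ P → P ≤ M → P = C.A
  · exact C.odd_W_of_sylow_A hza hv hA hW hmax
  push Not at hmax
  obtain ⟨P, hP, hAP, hPM, hne⟩ := hmax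
  obtain ⟨g, hg⟩ := Cfsg.Lib.InvolCalc.exists_conj_le C.S hP
  have hsub : ∀ B : Subgroup G, B ≤ C.A → B.map (MulAut.conj g⁻¹).toMonoidHom ≤ (C.S : Subgroup G) := by
    rintro B hB _ ⟨x, hx, rfl⟩
    simpa using hg x (hAP (hB hx))
  have hE := C.sixteen (hsub _ C.E_le_A) (by rw [card_map_of_injective (MulEquiv.injective _), C.card_E])
    (by rintro _ ⟨x, hx, rfl⟩; show MulAut.conj _ x * MulAut.conj _ x = 1; rw [← map_mul, C.E_sq hx, map_one])
  have hE' := C.sixteen (hsub _ C.E'_le_A)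
    (by rw [card_map_of_injective (MulEquiv.injective _), E', card_map_of_injective (MulEquiv.injective _), C.card_E])
    (by rintro _ ⟨x, hx, rfl⟩; show MulAut.conj _ x * MulAut.conj _ x = 1; rw [← map_mul, C.E'_sq hx, map_one])
  have hle : C.A.map (MulAut.conj g⁻¹).toMonoidHom ≤ C.A := by
    refine (map_mono C.A_le_sup).trans ?_
    rw [Subgroup.map_sup]
    refine sup_le ?_ ?_
    · rcases hE with r | r <;> rw [r]
      exacts [C.E_le_A, C.E'_le_A]
    · rcases hE' with r | r <;> rw [r]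
      exacts [C.E_le_A, C.E'_le_A]
  have hgA : g⁻¹ ∈ normalizer (C.A : Set G) :=
    Cfsg.Lib.ZStarApps.mem_normalizer_of_maps fun x hx => hle ⟨x, hx, rfl⟩
  obtain ⟨hA', hW'⟩ := C.map_ge hA hW hgA
  set M' := M.map (MulAut.conj g⁻¹).toMonoidHom
  set P' := P.map (MulAut.conj g⁻¹).toMonoidHom
  have hPS : P' ≤ (C.S : Subgroup G) := by rintro _ ⟨x, hx, rfl⟩; simpa using hg x hx
  have hAP' : C.A ≤ P' := (mem_normalizer_iff_map_conj_eq.1 hgA).ge.trans (map_mono hAP)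
  have hSP : (C.S : Subgroup G) ≤ P' := by
    intro s hs
    obtain ⟨p, hp, hpA⟩ : ∃ p ∈ P', p ∉ C.A := by
      by_contra h
      push Not at h
      refine hne (le_antisymm (fun x hx => ?_) hAP)
      exact (mem_normalizer_iff.1 hgA x).2 (h _ ⟨x, hx, rfl⟩)
    by_cases hsA : s ∈ C.A
    · exact hAP' hsA
    obtain ⟨X, rfl⟩ := C.M.surj s hs
    obtain ⟨Y, rfl⟩ := C.M.surj p (hPS hp)
    have h1 : C.e X * (C.e Y)⁻¹ ∈ C.A := by
      have hX : C.e X * C.e (ac 0) ∈ C.A := by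
        rw [C.e_mul, C.mem_A]; exact (Cfsg.Lib.JTwoSyl.a4_coset X).2 fun h => hsA (C.mem_A.2 h)
      have hY : C.e Y * C.e (ac 0) ∈ C.A := by
        rw [C.e_mul, C.mem_A]; exact (Cfsg.Lib.JTwoSyl.a4_coset Y).2 fun h => hpA (C.mem_A.2 h)
      have := mul_mem hX (inv_mem hY)
      rwa [show C.e X * C.e (ac 0) * (C.e Y * C.e (ac 0))⁻¹ = C.e X * (C.e Y)⁻¹ by group] at this
    have := P'.mul_mem (hAP' h1) hp
    rwa [show C.e X * (C.e Y)⁻¹ * ev7 C.z C.a C.v C.w Y = ev7 C.z C.a C.v C.w X from inv_mul_cancel_right _ _] at this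
  refine C.odd_W_of_S hza hv hA' hW' (hSP.trans (map_mono hPM)) fun u hu hu1 hC => ?_
  have hu' := C.NA_U (inv_mem hgA) hu
  refine hex _ hu' (fun h => hu1 (conj_eq_one_iff.1 h)) fun c hc => ?_
  have hcc : g⁻¹ * c * g ∈ centralizer ({u} : Set G) := mem_centralizer_singleton_iff.2 (by
    have := ((show Commute c (g⁻¹⁻¹ * u * g⁻¹⁻¹⁻¹) from mem_centralizer_singleton_iff.1 hc).map
      (MulAut.conj g⁻¹).toMonoidHom).eq
    simpa [mul_assoc] using this)
  obtain ⟨x, hx, e'⟩ := hC hcc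
  simp only [MulEquiv.coe_toMonoidHom, MulAut.conj_apply, inv_inv] at e'
  rwa [mul_right_cancel (b := g) (mul_left_cancel (a := g⁻¹) (by simpa [mul_assoc] using e') : x * g = c * g)] at hx

end Ctx

end Cfsg.Lib.JTwoSimple
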