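import Cfsg.Agent.JTwoSimple.Functor
import Cfsg.Agent.JTwoSimple.Proper
import Cfsg.Agent.JTwoSimple.CoreParts

/-!
Two classes of involutions: the odd core of the centraliser of `z` is trivial.
-/

set_option autoImplicit false
set_option linter.unusedSectionVars false
set_option linter.style.haveILetI false
set_option synthInstance.maxSize 4096
set_option synthInstance.maxHeartbeats 400000
set_option maxRecDepth 100000

namespace Cfsg.Lib.JTwoSimple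

open Subgroup
open Cfsg.Lib.JTwoSyl (SC smul' InU vc zc ac)
open Cfsg.Lib.Walter (Oc)
open Cfsg.Lib.LFourType (conj_Oc odd_Oc Oc_le Oc_normalized Dl le_Dl)

universe u

namespace Ctx

variable {G : Type u} [Group G] [Finite G] (C : Ctx G)
variable (hza : IsConj C.z C.a₄) (hv : ¬ IsConj C.z (C.e vc))
include hza hv

theorem cores_inf {u : G} (hu : u ∈ C.U) : Oc u ⊓ centralizer (C.U : Set G) ≤ C.D := by
  refine le_inf (C.le_Oc_U hza C.z_U C.z_ne
    (inf_le_right.trans (centralizer_le (Set.singleton_subset_iff.2 C.z_U)))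
    ((odd_Oc u).of_dvd_nat (card_dvd_of_le inf_le_left)) (Or.inl fun y hy =>
      Cfsg.Lib.LFourType.mem_normalizer_inf (C.E_le_nOc (C.U_le_E hu) hy)
        (le_normalizer (C.A_le_cent_U (C.E_le_A hy)))))
    (inf_le_right.trans (centralizer_le (Set.singleton_subset_iff.2 C.a_U)))

theorem D_le_cent_U : C.D ≤ centralizer (C.U : Set G) := fun x hx => by
  obtain ⟨hxO, hxa⟩ := mem_inf.1 hx
  refine mem_centralizer_iff.2 fun u hu => ?_
  have hz : Commute C.z x := C.O_z_comm hxO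
  have ha : Commute C.a₄ x := (mem_centralizer_singleton_iff.1 hxa).symm
  rcases C.mem_U_iff.1 hu with rfl | rfl | rfl | rfl
  · rw [one_mul, mul_one]
  · exact hz.eq
  · exact ha.eq
  · exact (hz.mul_left ha).eq

theorem conj_D {n x : G} (hn : n ∈ normalizer (C.A : Set G)) (hx : x ∈ C.D) : n * x * n⁻¹ ∈ C.D := by
  refine C.cores_inf hza hv (C.NA_U hn C.z_U) (mem_inf.2 ⟨conj_Oc n C.z (C.D_le_O hx), ?_⟩)
  refine mem_centralizer_iff.2 fun u hu => ?_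
  have h1 := mem_centralizer_iff.1 (C.D_le_cent_U hza hv hx) _ (C.NA_U (inv_mem hn) hu)
  calc u * (n * x * n⁻¹) = n * (n⁻¹ * u * n⁻¹⁻¹ * x) * n⁻¹ := by group
    _ = n * x * n⁻¹ * u := by rw [h1]; group

theorem D_le_Dl : C.D ≤ Dl C.U := le_Dl fun u hu hu1 => by
  refine C.le_Oc_U hza hu hu1 ((C.D_le_cent_U hza hv).trans (centralizer_le (Set.singleton_subset_iff.2 hu)))
    C.odd_D (Or.inl fun y hy => ?_)
  exact Cfsg.Lib.LFourType.mem_normalizer_inf (C.E_le_nOc (C.U_le_E C.z_U) hy)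
    (le_normalizer (C.E_le_cent_one (C.U_le_E C.a_U) hy))

/-- when the invariant is trivial the part at the fixed point centralises `A` -/
theorem D_le_cent_A (h : C.Th = ⊥) : C.D ≤ centralizer (C.A : Set G) := by
  have hE : C.D ≤ centralizer (C.E : Set G) := (C.D_le_Dl hza hv).trans (C.Dl_U_le_cent hza hv h)
  rw [le_centralizer_iff]
  refine C.A_le_sup.trans (sup_le (le_centralizer_iff.1 hE) ?_)
  rintro _ ⟨e, he, rfl⟩
  refine mem_centralizer_iff.2 fun d hd => ?_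
  have hg := C.S_le_NA (C.e_mem (ac 0))
  have h1 : Commute e ((C.e (ac 0))⁻¹ * d * (C.e (ac 0))⁻¹⁻¹) :=
    mem_centralizer_iff.1 (hE (C.conj_D hza hv (inv_mem hg) hd)) e he
  have h2 := h1.map (MulAut.conj (C.e (ac 0))).toMonoidHom
  simp only [MulEquiv.coe_toMonoidHom, MulAut.conj_apply] at h2
  rw [show C.e (ac 0) * ((C.e (ac 0))⁻¹ * d * (C.e (ac 0))⁻¹⁻¹) * (C.e (ac 0))⁻¹ = d by group] at h2
  exact h2.eq.symm

/-- an odd subgroup normalised by `A` and the cores -/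
theorem exists_invariant (hne : Oc C.z ≠ ⊥) : ∃ X : Subgroup G, Odd (Nat.card X) ∧ X ≠ ⊥ ∧
    C.A ≤ normalizer (X : Set G) ∧ C.W ≤ normalizer (X : Set G) := by
  by_cases hTh : C.Th = ⊥
  swap
  · exact ⟨C.Th, C.odd_Th hza hv, hTh, fun a ha => C.Th_normalized (C.A_le_nE ha),
      iSup_le fun u => C.le_normalizer_Th hza hv u.2.1⟩
  have hDA := C.D_le_cent_A hza hv hTh
  have hA : ∀ X : Subgroup G, X ≤ C.D → C.A ≤ normalizer (X : Set G) := fun X hX =>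
    (le_centralizer_iff.1 (hX.trans hDA)).trans (centralizer_le_normalizer _)
  by_cases hOD : C.T = ⊥
  · have hO : Oc C.z = C.D := le_antisymm (C.O_le_D_of_T_eq_bot hDA hOD) C.D_le_O
    refine ⟨C.D, C.odd_D, hO ▸ hne, hA _ le_rfl, iSup_le fun ⟨u, hu, hu1⟩ x hx => ?_⟩
    obtain ⟨n, hn, -, hnu⟩ := C.exists_NA hza hu hu1
    have h1 : n⁻¹ * x * n⁻¹⁻¹ ∈ Oc C.z := by
      have := conj_Oc n⁻¹ u hx
      rwa [← hnu, show n⁻¹ * (n * C.z * n⁻¹) * n⁻¹⁻¹ = C.z by group] at this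
    rw [hO] at h1
    have h2 := C.conj_D hza hv hn h1
    rw [show n * (n⁻¹ * x * n⁻¹⁻¹) * n⁻¹ = x by group] at h2
    exact le_normalizer h2
  -- the three conjugates
  have hsel : ∀ u : G, u ∈ C.U → u ≠ 1 → ∃ n ∈ normalizer (C.A : Set G), n * C.z * n⁻¹ = u := fun u hu hu1 => by
    obtain ⟨n, hn, -, e'⟩ := C.exists_NA hza hu hu1
    exact ⟨n, hn, e'⟩
  choose n hnA hnz using hsel
  let Tu : ∀ u : G, u ∈ C.U → u ≠ 1 → Subgroup G := fun u hu hu1 => C.T.map (MulAut.conj (n u hu hu1)).toMonoidHom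
  let Yu : ∀ u : G, u ∈ C.U → u ≠ 1 → Subgroup G := fun u hu hu1 => C.Y.map (MulAut.conj (n u hu hu1)).toMonoidHom
  have hDmap : ∀ u hu hu1, C.D.map (MulAut.conj (n u hu hu1)).toMonoidHom = C.D := fun u hu hu1 =>
    mem_normalizer_iff_map_conj_eq.1 (Cfsg.Lib.ZStarApps.mem_normalizer_of_maps fun x hx =>
      C.conj_D hza hv (hnA u hu hu1) hx)
  have hTD : ∀ u hu hu1, Tu u hu hu1 ≤ C.D := fun u hu hu1 =>
    (map_mono C.T_le_D).trans (hDmap u hu hu1).le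
  have hTn : ∀ u hu hu1, C.D ≤ normalizer (Tu u hu hu1 : Set G) := by
    intro u hu hu1 d hd
    obtain ⟨d', hd', rfl⟩ := (hDmap u hu hu1).ge hd
    refine Cfsg.Lib.ZStarApps.mem_normalizer_of_maps ?_
    rintro _ ⟨t, ht, rfl⟩
    exact ⟨d' * t * d'⁻¹, (mem_normalizer_iff.1 (C.D_le_nT hDA hd') t).1 ht, by simp [mul_assoc]⟩
  have hTY : ∀ u hu hu1, Tu u hu hu1 ≤ Yu u hu hu1 := fun u hu hu1 => map_mono (C.T_le_Y hDA)
  have hCY : ∀ u hu hu1, C.D ⊓ centralizer (Tu u hu hu1 : Set G) ≤ Yu u hu hu1 := by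
    intro u hu hu1 p hp
    obtain ⟨hpD, hpT⟩ := mem_inf.1 hp
    obtain ⟨p', hp', rfl⟩ := (hDmap u hu hu1).ge hpD
    refine ⟨p', C.cent_T_le_Y hDA (mem_inf.2 ⟨hp', mem_centralizer_iff.2 fun t ht => ?_⟩), rfl⟩
    have := mem_centralizer_iff.1 hpT _ ⟨t, ht, rfl⟩
    simp only [MulEquiv.coe_toMonoidHom, MulAut.conj_apply] at this
    exact (Commute.map (show Commute (n u hu hu1 * t * (n u hu hu1)⁻¹) (n u hu hu1 * p' * (n u hu hu1)⁻¹) from this)
      (MulAut.conj (n u hu hu1)⁻¹).toMonoidHom |> fun h => by simpa [mul_assoc] using h : Commute t p').eq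
  have hTne : ∀ u hu hu1, Tu u hu hu1 ≠ ⊥ := fun u hu hu1 h =>
    hOD ((map_eq_bot_iff_of_injective _ (MulEquiv.injective _)).1 h)
  -- normal subgroups of `D` with trivial intersection commute
  have hcomm : ∀ X X' : Subgroup G, X ≤ C.D → X' ≤ C.D → C.D ≤ normalizer (X : Set G) →
      C.D ≤ normalizer (X' : Set G) → X ⊓ X' = ⊥ → X ≤ centralizer (X' : Set G) := by
    intro X X' hX hX' hXn hX'n h x hx
    refine mem_centralizer_iff.2 fun y hy => ?_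
    have h1 : y * x * y⁻¹ * x⁻¹ ∈ X ⊓ X' := mem_inf.2
      ⟨X.mul_mem ((mem_normalizer_iff.1 (hXn (hX' hy)) x).1 hx) (X.inv_mem hx), by
        rw [show y * x * y⁻¹ * x⁻¹ = y * (x * y⁻¹ * x⁻¹) by group]
        exact X'.mul_mem hy ((mem_normalizer_iff.1 (hX'n (hX hx)) y⁻¹).1 (X'.inv_mem hy))⟩
    rw [h, mem_bot, mul_inv_eq_one, mul_inv_eq_iff_eq_mul] at h1
    exact h1
  have hu2 : C.a₄ ≠ 1 := fun h => absurd (C.e_inj (h.trans C.e_one.symm)) (by decide +kernel)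
  have hu3 : C.z * C.a₄ ≠ 1 := fun h => absurd
    (C.e_inj (show C.e (ac 4) = C.e zc by
      rw [C.e_zc]; exact (eq_inv_of_mul_eq_one_right h).trans (inv_eq_of_mul_eq_one_right C.z_sq)))
    (by decide +kernel)
  set T₁ := Tu C.z C.z_U C.z_ne with hT₁
  set T₂ := Tu C.a₄ C.a_U hu2 with hT₂
  set T₃ := Tu (C.z * C.a₄) (mul_mem C.z_U C.a_U) hu3 with hT₃
  suffices hex : ∃ X : Subgroup G, X ≠ ⊥ ∧ C.D ≤ normalizer (X : Set G) ∧ ∀ u hu hu1, X ≤ Yu u hu hu1 by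
    obtain ⟨X, hX, hXn, hXY⟩ := hex
    have hXD : X ≤ C.D := (hXY C.z C.z_U C.z_ne).trans
      ((map_mono (inf_le_left : C.Y ≤ C.D)).trans (hDmap _ _ _).le)
    refine ⟨X, C.odd_D.of_dvd_nat (card_dvd_of_le hXD), hX, hA X hXD, iSup_le fun ⟨u, hu, hu1⟩ x hx => ?_⟩
    set g := n u hu hu1 with hg
    have h1 : g⁻¹ * x * g⁻¹⁻¹ ∈ Oc C.z := by
      have := conj_Oc g⁻¹ u hx
      rwa [← hnz u hu hu1, show g⁻¹ * (g * C.z * g⁻¹) * g⁻¹⁻¹ = C.z by group] at this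
    have hX' : X.map (MulAut.conj g⁻¹).toMonoidHom ≤ C.Y := by
      rintro _ ⟨y, hy, rfl⟩
      obtain ⟨y', hy', rfl⟩ := hXY u hu hu1 hy
      simpa [hg, mul_assoc] using hy'
    have h2 := C.O_le_normalizer hDA hX' (fun d hd => Cfsg.Lib.ZStarApps.mem_normalizer_of_maps (by
      rintro _ ⟨y, hy, rfl⟩
      refine ⟨g * d * g⁻¹ * y * (g * d * g⁻¹)⁻¹,
        (mem_normalizer_iff.1 (hXn (C.conj_D hza hv (hnA u hu hu1) hd)) y).1 hy, ?_⟩
      simp only [MulEquiv.coe_toMonoidHom, MulAut.conj_apply]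
      group)) h1
    refine Cfsg.Lib.ZStarApps.mem_normalizer_of_maps fun y hy => ?_
    obtain ⟨y', hy', e'⟩ := (mem_normalizer_iff.1 h2 _).1 ⟨y, hy, rfl⟩
    simp only [MulEquiv.coe_toMonoidHom, MulAut.conj_apply] at e'
    have : x * y * x⁻¹ = y' := by
      calc x * y * x⁻¹ = g * (g⁻¹ * x * g⁻¹⁻¹ * (g⁻¹ * y * g⁻¹⁻¹) * (g⁻¹ * x * g⁻¹⁻¹)⁻¹) * g⁻¹ := by group
        _ = y' := by rw [← e']; group
    exact this ▸ hy'
  have hall : ∀ X : Subgroup G, X ≤ Yu C.z C.z_U C.z_ne → X ≤ Yu C.a₄ C.a_U hu2 →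
      X ≤ Yu (C.z * C.a₄) (mul_mem C.z_U C.a_U) hu3 → ∀ u hu hu1, X ≤ Yu u hu hu1 := by
    intro X h1 h2 h3 u hu hu1
    rcases C.mem_U_iff.1 hu with rfl | rfl | rfl | rfl
    · exact absurd rfl hu1
    · exact h1
    · exact h2
    · exact h3
  by_cases h12 : T₁ ⊓ T₂ = ⊥
  · by_cases h23 : T₂ ⊓ T₃ = ⊥
    · refine ⟨T₂, hTne _ _ _, hTn _ _ _, hall _ ?_ (hTY _ _ _) ?_⟩
      · exact (le_inf (hTD _ _ _) (hcomm _ _ (hTD _ _ _) (hTD _ _ _) (hTn _ _ _) (hTn _ _ _)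
          (inf_comm T₁ T₂ ▸ h12))).trans (hCY _ _ _)
      · exact (le_inf (hTD _ _ _) (hcomm _ _ (hTD _ _ _) (hTD _ _ _) (hTn _ _ _) (hTn _ _ _) h23)).trans (hCY _ _ _)
    · have hn23 : C.D ≤ normalizer ((T₂ ⊓ T₃ : Subgroup G) : Set G) := fun d hd =>
        Cfsg.Lib.LFourType.mem_normalizer_inf (hTn _ _ _ hd) (hTn _ _ _ hd)
      refine ⟨T₂ ⊓ T₃, h23, hn23, hall _ ?_ (inf_le_left.trans (hTY _ _ _)) (inf_le_right.trans (hTY _ _ _))⟩
      refine (le_inf (inf_le_left.trans (hTD _ _ _)) (hcomm _ _ (inf_le_left.trans (hTD _ _ _)) (hTD _ _ _) hn23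
        (hTn _ _ _) ?_)).trans (hCY _ _ _)
      exact le_bot_iff.1 (h12 ▸ le_inf inf_le_right (inf_le_left.trans inf_le_left))
  · have hn12 : C.D ≤ normalizer ((T₁ ⊓ T₂ : Subgroup G) : Set G) := fun d hd =>
      Cfsg.Lib.LFourType.mem_normalizer_inf (hTn _ _ _ hd) (hTn _ _ _ hd)
    by_cases h123 : T₁ ⊓ T₂ ⊓ T₃ = ⊥
    · refine ⟨T₁ ⊓ T₂, h12, hn12, hall _ (inf_le_left.trans (hTY _ _ _)) (inf_le_right.trans (hTY _ _ _)) ?_⟩
      exact (le_inf (inf_le_left.trans (hTD _ _ _)) (hcomm _ _ (inf_le_left.trans (hTD _ _ _)) (hTD _ _ _) hn12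
        (hTn _ _ _) h123)).trans (hCY _ _ _)
    · exact ⟨T₁ ⊓ T₂ ⊓ T₃, h123, fun d hd => Cfsg.Lib.LFourType.mem_normalizer_inf (hn12 hd) (hTn _ _ _ hd),
        hall _ ((inf_le_left.trans inf_le_left).trans (hTY _ _ _))
          ((inf_le_left.trans inf_le_right).trans (hTY _ _ _)) (inf_le_right.trans (hTY _ _ _))⟩

/-- **two classes: the core is trivial** -/
theorem O_eq_bot_two [IsSimpleGroup G] : Oc C.z = ⊥ := by
  by_contra hne
  obtain ⟨X, hXo, hX, hAX, hWX⟩ := C.exists_invariant hza hv hne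
  have hM : normalizer (X : Set G) ≠ ⊤ := fun h => by
    haveI : X.Normal := normalizer_eq_top_iff.1 h
    rcases IsSimpleGroup.eq_bot_or_eq_top_of_normal X inferInstance with e' | e'
    · exact hX e'
    · rw [e', card_top] at hXo
      refine Nat.not_even_iff_odd.2 hXo (even_iff_two_dvd.2 ?_)
      rw [← C.z_order]; exact _root_.orderOf_dvd_natCard _
  exact hne (C.O_eq_bot_of_odd hza (C.odd_W_of_proper hza hv hM hAX hWX)
    fun x hx hxU hc => absurd hc (C.outer_not_z hza hv (Or.inl hx) hxU))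

end Ctx

end Cfsg.Lib.JTwoSimple
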