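import Cfsg.Agent.JTwoSimple.OneClass
import Cfsg.Agent.JTwoSimple.TwoClass
import Cfsg.Agent.JTwoSyl.Main
import Cfsg.Agent.LargeExtra.Coprime
import Cfsg.Agent.S1658
import Cfsg.Agent.S1665

/-!
Simple groups with Sylow subgroups of the type of `J₂`.
-/

set_option autoImplicit false
set_option linter.unusedSectionVars false
set_option linter.style.haveILetI false
set_option synthInstance.maxSize 4096
set_option synthInstance.maxHeartbeats 400000
set_option maxRecDepth 100000

namespace Cfsg.Lib.JTwoSimple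

open Subgroup Equiv Cfsg.Lib.HallJankoType
open Cfsg.Lib.JTwoSyl (Model SC QC smul' InZ zc ac vc qmul q1 qz)
open Cfsg.Lib.Walter (Oc)

universe u

theorem q_pairs : ∀ x y : QC, qmul x x = q1 → qmul y y = q1 → qmul x y = qmul y x →
    y = q1 ∨ y = qz ∨ x = q1 ∨ x = qz ∨ y = x ∨ y = qmul qz x := by decide +kernel

theorem q_embed : ∀ x y : QC, smul' (x, false, false) (y, false, false) = (qmul x y, false, false) := by
  decide +kernel

theorem q_centre : ∀ X : SC, X.2 = (false, false) →
    (∀ y : QC, smul' (y, false, false) X = smul' X (y, false, false)) → InZ X := by decide +kernel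

/-- the coordinates -/
theorem exists_ctx {G : Type u} [Group G] [Finite G] [IsSimpleGroup G] (S : Sylow 2 G) (P : Sylow 2 Cfsg.Spor.J2)
    (hS : Nonempty (↥(S : Subgroup G) ≃* ↥(P : Subgroup Cfsg.Spor.J2))) : Nonempty (Ctx G) := by
  classical
  haveI : Fact (Nat.Prime 2) := ⟨Nat.prime_two⟩
  obtain ⟨eS⟩ := hS
  obtain ⟨z₀, a₀, v₀, w₀, M₀, -, -⟩ := Cfsg.Lib.JTwoSyl.sylow_model P
  have hv₀ : v₀ ∈ (P : Subgroup Cfsg.Spor.J2) :=
    (congrArg (fun x => x ∈ (P : Subgroup Cfsg.Spor.J2)) M₀.ev_vc).mp (M₀.mem vc)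
  have hw₀ : w₀ ∈ (P : Subgroup Cfsg.Spor.J2) :=
    (congrArg (fun x => x ∈ (P : Subgroup Cfsg.Spor.J2)) M₀.ev_wc).mp (M₀.mem Cfsg.Lib.JTwoSyl.wc)
  have MP := M₀.comap (P : Subgroup Cfsg.Spor.J2).subtype (Subgroup.subtype_injective _)
    (le_of_eq (range_subtype _).symm) (z' := ⟨z₀, M₀.z_mem⟩) (a' := fun i => ⟨a₀ i, M₀.mem_a i⟩)
    (v' := ⟨v₀, hv₀⟩) (w' := ⟨w₀, hw₀⟩) rfl (fun _ => rfl) rfl rfl
  have MS := MP.map ((S : Subgroup G).subtype.comp eS.symm.toMonoidHom)
    (((Subgroup.subtype_injective _).comp eS.symm.injective).injOn)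
  have hmap : ((P : Subgroup Cfsg.Spor.J2).comap (P : Subgroup Cfsg.Spor.J2).subtype).map
      ((S : Subgroup G).subtype.comp eS.symm.toMonoidHom) = (S : Subgroup G) := by
    rw [comap_subtype, subgroupOf_self, ← Subgroup.map_map, Subgroup.map_top_of_surjective _ eS.symm.surjective,
      ← MonoidHom.range_eq_map, range_subtype]
  rw [hmap] at MS
  refine ⟨⟨S, _, _, _, _, MS, fun H hH hi => ?_⟩⟩
  haveI := hH
  rcases IsSimpleGroup.eq_bot_or_eq_top_of_normal H inferInstance with e' | e'
  · rw [e', index_bot] at hi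
    have := Nat.le_of_dvd (by omega) (MS.card ▸ card_subgroup_dvd_card (S : Subgroup G))
    omega
  · rw [e', index_top] at hi; omega

namespace Ctx

variable {G : Type u} [Group G] [Finite G] (C : Ctx G)

/-- **the groups with trivial core** -/
theorem iso_of_core_eq_bot [IsSimpleGroup G] (hO : Oc C.z = ⊥) : Cfsg.Spor.IsoJ2 G ∨ Cfsg.Spor.IsoJ3 G := by
  classical
  haveI : Fact (Nat.Prime 2) := ⟨Nat.prime_two⟩
  set K := C.C₀
  set Q' := C.Q.subgroupOf K with hQ'
  have hQC : C.Q ≤ K := C.Q_le.trans C.S_le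
  have hker : ∀ c : ↥K, C.sg c = 1 ↔ c ∈ Q' := by
    intro c
    rw [C.sg_ker, hQ', mem_subgroupOf]
    constructor
    · rintro ⟨X, hX, o, ho, e'⟩
      rw [hO, mem_bot] at ho
      rw [e', ho, mul_one]
      exact C.mem_Q.2 hX
    · intro hc
      obtain ⟨X, hX, e'⟩ := C.Q_code hc
      exact ⟨X, hX, 1, one_mem _, by rw [mul_one, e']⟩
  let σ : ↥K →* alternatingGroup (Fin 5) :=
    C.sg.codRestrict _ fun c => Perm.mem_alternatingGroup.2 (C.sg_sign c)
  have hσs : Function.Surjective σ := fun ⟨π, hπ⟩ => by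
    obtain ⟨c, hc⟩ := C.sg_surj (Perm.mem_alternatingGroup.1 hπ)
    exact ⟨c, Subtype.ext hc⟩
  have hσk : σ.ker = Q' := by
    ext c
    rw [MonoidHom.mem_ker, ← hker c]
    exact ⟨fun h => congrArg Subtype.val h, fun h => Subtype.ext h⟩
  haveI hn : Q'.Normal := hσk ▸ σ.normal_ker
  let e : ↥K ⧸ Q' ≃* alternatingGroup (Fin 5) :=
    (QuotientGroup.quotientMulEquivOfEq hσk.symm).trans (QuotientGroup.quotientKerEquivOfSurjective σ hσs)
  have hcard : Nat.card Q' = 32 := by
    rw [hQ', Nat.card_congr (subgroupOfEquivOfLe hQC).toEquiv]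
    rw [← Nat.card_congr (Equiv.ofBijective (fun x : QC => (⟨C.e (x, false, false), C.mem_Q.2 rfl⟩ : C.Q))
      ⟨fun x y h => congrArg Prod.fst (show ((x, false, false) : SC) = (y, false, false) from C.e_inj (congrArg Subtype.val h)), fun ⟨q, hq⟩ => by
        obtain ⟨⟨x, p, r⟩, hX, rfl⟩ := C.Q_code hq
        simp only [Prod.mk.injEq] at hX
        obtain ⟨rfl, rfl⟩ := hX
        exact ⟨x, rfl⟩⟩), Nat.card_eq_fintype_card]
    rfl
  have hcode : ∀ q ∈ Q', ∃ x : QC, C.e (x, false, false) = (q : G) := fun q hq => by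
    obtain ⟨⟨x, p, r⟩, hX, e'⟩ := C.Q_code (mem_subgroupOf.1 hq)
    simp only [Prod.mk.injEq] at hX
    obtain ⟨rfl, rfl⟩ := hX
    exact ⟨x, e'⟩
  set zK : ↥K := ⟨C.z, C.S_le C.M.z_mem⟩
  have hzval : ∀ c : ↥K, (c : G) = C.z → c = zK := fun c h => Subtype.ext h
  have hext : Cfsg.IsExtraspecial 2 Q' := by
    refine Cfsg.Lib.LargeExtra.isExtraspecial_of (z := zK) (IsPGroup.of_card (n := 5) hcard)
      (mem_subgroupOf.2 (show C.z ∈ C.Q from C.e_zc ▸ C.mem_Q.2 rfl)) (fun h => C.z_ne (congrArg Subtype.val h))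
      (Subtype.ext C.z_sq) (fun a ha => Subtype.ext (C.M.z_central (C.Q_le (mem_subgroupOf.1 ha))).eq)
      (fun a ha b hb => ?_) (fun a ha => ?_) (fun c hc hall => ?_) ?_
    · obtain ⟨x, hx⟩ := hcode a ha
      obtain ⟨y, hy⟩ := hcode b hb
      rcases Cfsg.Lib.JTwoSyl.q_comm x y with r | r
      · left
        refine commutatorElement_eq_one_iff_mul_comm.2 (Subtype.ext ?_)
        show (a : G) * b = b * a
        rw [← hx, ← hy, C.e_mul, C.e_mul, q_embed, q_embed, r]
      · right
        refine Subtype.ext ?_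
        show (a : G) * b * (a : G)⁻¹ * (b : G)⁻¹ = C.z
        have h1 : (a : G) * b = C.z * (b * a) := by
          rw [← hx, ← hy, C.e_mul, C.e_mul, q_embed, q_embed, r, ← q_embed qz, ← C.e_mul,
            show (qz, false, false) = zc from rfl, C.e_zc]
        rw [h1]; group
    · obtain ⟨x, hx⟩ := hcode a ha
      have h := q_sq' (x, false, false) rfl
      rw [← C.M.inZ_iff] at h
      rcases h with r | r
      · left
        refine Subtype.ext ?_
        show (a : G) * a = 1
        rw [← hx, C.e_mul]; exact r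
      · right
        refine Subtype.ext ?_
        show (a : G) * a = C.z
        rw [← hx, C.e_mul]; exact r
    · obtain ⟨X, hX, hXc⟩ := C.Q_code (mem_subgroupOf.1 hc)
      have hz := (C.M.inZ_iff X).2 (q_centre X hX fun y => by
        refine (C.M.commute_iff (y, false, false) X).1 ?_
        have := congrArg Subtype.val (hall ⟨C.e (y, false, false), C.e_cz _⟩ (mem_subgroupOf.2 (show C.e (y, false, false) ∈ C.Q from C.mem_Q.2 rfl))).eq
        show C.e (y, false, false) * C.e X = C.e X * C.e (y, false, false)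
        rw [hXc]
        exact this)
      rcases hz with r | r
      · exact Or.inl (Subtype.ext (hXc.symm.trans r))
      · exact Or.inr (hzval c (hXc.symm.trans r))
    · refine ⟨⟨C.a₄, C.e_cz _⟩, mem_subgroupOf.2 (show C.a₄ ∈ C.Q from C.mem_Q.2 rfl), ⟨C.e (ac 0), C.e_cz _⟩,
        mem_subgroupOf.2 (show C.e (ac 0) ∈ C.Q from C.mem_Q.2 rfl), fun h => ?_⟩
      exact four_facts.2.1 ((C.M.commute_iff _ _).1 (congrArg Subtype.val h.eq))
  have hminus : ∀ E : Subgroup Q', Cfsg.IsElementaryAbelian 2 E → Nat.card E ≤ 2 ^ 2 := by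
    intro E hE
    have hc : ∀ x : E, ∃ t : QC, C.e (t, false, false) = (((x : Q') : ↥K) : G) := fun x => hcode _ (x : Q').2
    choose f hf using hc
    have hfi : Function.Injective f := fun x y h =>
      Subtype.ext (Subtype.ext (Subtype.ext (by rw [← hf x, ← hf y, h])))
    have hsq : ∀ x : E, qmul (f x) (f x) = q1 := fun x => by
      have h := (C.M.sq_iff (f x, false, false)).1 (by
        show C.e (f x, false, false) * C.e (f x, false, false) = 1
        rw [hf x]
        have := hE.2 _ x.2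
        rw [pow_two] at this
        exact congrArg (fun q : Q' => ((q : ↥K) : G)) this)
      rw [q_embed] at h
      exact congrArg Prod.fst h
    have hcomm : ∀ x y : E, qmul (f x) (f y) = qmul (f y) (f x) := fun x y => by
      have h := (C.M.commute_iff (f x, false, false) (f y, false, false)).1 (by
        show C.e (f x, false, false) * C.e (f y, false, false) = C.e (f y, false, false) * C.e (f x, false, false)
        rw [hf x, hf y]
        haveI := hE.1
        exact congrArg (fun q : E => (((q : Q') : ↥K) : G)) (mul_comm' x y))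
      rw [q_embed, q_embed] at h
      exact congrArg Prod.fst h
    by_cases hex : ∃ x : E, f x ≠ q1 ∧ f x ≠ qz
    · obtain ⟨x, hx1, hxz⟩ := hex
      have h := Nat.card_le_card_of_injective
        (fun y : E => (⟨f y, by
          rcases q_pairs (f x) (f y) (hsq x) (hsq y) (hcomm x y) with r | r | r | r | r | r
          · simp [r]
          · simp [r]
          · exact absurd r hx1
          · exact absurd r hxz
          · simp [r]
          · simp [r]⟩ : {t // t ∈ ({q1, qz, f x, qmul qz (f x)} : Finset QC)}))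
        fun a b h => hfi (congrArg Subtype.val h)
      refine h.trans ?_
      rw [Nat.card_eq_fintype_card, Fintype.card_coe]
      exact Finset.card_le_four
    · push Not at hex
      have h := Nat.card_le_card_of_injective
        (fun y : E => (⟨f y, by
          by_cases h1 : f y = q1
          · simp [h1]
          · simp [hex y h1]⟩ : {t // t ∈ ({q1, qz} : Finset QC)}))
        fun a b h => hfi (congrArg Subtype.val h)
      refine h.trans ?_
      rw [Nat.card_eq_fintype_card, Fintype.card_coe]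
      exact Finset.card_le_two.trans (by norm_num)
  have h2c : centralizer (Q' : Set ↥K) ≤ Q' := by
    intro c hc
    refine (hker c).1 (Equiv.ext fun i => C.sg_fix_of_commute c.2 ?_)
    exact (congrArg Subtype.val
      (mem_centralizer_iff.1 hc ⟨C.e (ac i), C.e_cz _⟩ (mem_subgroupOf.2 (show C.e (ac i) ∈ C.Q from C.mem_Q.2 rfl)))).symm
  have hza := C.z_conj_a C.nonabelian
  have hcl : ∀ x : G, orderOf x = 2 → IsConj x C.z ∨ IsConj x (C.e vc) := fun x hx => by
    rcases C.classes hx with r | r | r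
    · exact Or.inl r
    · exact Or.inl (r.trans hza.symm)
    · exact Or.inr r
  by_cases hv : IsConj C.z (C.e vc)
  · refine Or.inr (Cfsg.Agent.S1658.result C.z C.z_order Q' hext hcard hminus h2c e fun x y hx hy => ?_)
    have h1 : ∀ x : G, orderOf x = 2 → IsConj x C.z := fun x hx => (hcl x hx).elim id fun r => r.trans hv.symm
    exact (h1 x hx).trans (h1 y hy).symm
  · refine Or.inl (Cfsg.Agent.S1665.result C.z C.z_order Q' hext hcard hminus h2c e
      ⟨C.z, C.e vc, C.z_order, ?_, hv, hcl⟩)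
    refine Cfsg.Lib.InvolCalc.order_two_of_mul_self (C.E_sq C.vc_E) fun h => C.vc_notU ?_
    rw [h]; exact one_mem _

include C in
/-- **the classification** -/
theorem iso_J2_or_J3 [IsSimpleGroup G] : Cfsg.Spor.IsoJ2 G ∨ Cfsg.Spor.IsoJ3 G := by
  refine C.iso_of_core_eq_bot ?_
  have hza := C.z_conj_a C.nonabelian
  by_cases hv : IsConj C.z (C.e vc)
  · exact C.O_eq_bot_one hza hv
  · exact C.O_eq_bot_two hza hv

end Ctx

end Cfsg.Lib.JTwoSimple
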