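import Cfsg.Agent.JTwoSimple.Control
import Cfsg.Agent.S0217
import Cfsg.Agent.LFourType.Functor

/-!
One class of involutions: the cores of the centralisers of the involutions of `E` form a balanced family.
-/

set_option autoImplicit false
set_option linter.unusedSectionVars false
set_option linter.style.haveILetI false
set_option synthInstance.maxSize 4096
set_option synthInstance.maxHeartbeats 400000
set_option maxRecDepth 100000

namespace Cfsg.Lib.JTwoSimple

open Subgroup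
open Cfsg.Lib.JTwoSyl (SC smul' vc)
open Cfsg.Lib.Walter (Oc)
open Cfsg.Lib.LFourType (conj_Oc le_of_four' odd_Oc Oc_le Oc_normalized)

universe u

namespace Ctx

variable {G : Type u} [Group G] [Finite G] (C : Ctx G)

theorem U_ne_one_conj (hza : IsConj C.z C.a₄) {u : G} (hu : u ∈ C.U) (hu1 : u ≠ 1) : IsConj u C.z := by
  obtain ⟨n, -, -, hn⟩ := C.exists_NA hza hu hu1
  exact (isConj_iff.2 ⟨n, hn⟩).symm

/-- **one class: the core is trivial** -/
theorem O_eq_bot_one [IsSimpleGroup G] (hza : IsConj C.z C.a₄) (hone : IsConj C.z (C.e vc)) :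
    Oc C.z = ⊥ := by
  haveI : Fact (Nat.Prime 2) := ⟨Nat.prime_two⟩
  have hall : ∀ x ∈ C.E, x ≠ 1 → IsConj x C.z := fun x hx hx1 => by
    by_cases hxU : x ∈ C.U
    · exact C.U_ne_one_conj hza hxU hx1
    · exact (C.outer_conj hx hxU).trans hone.symm
  have hEN : ∀ a ∈ C.E, C.E ≤ normalizer (Oc a : Set G) := fun a ha e he =>
    Oc_normalized (mem_centralizer_singleton_iff.2 (C.E_comm he ha).eq)
  have hbal : ∀ a ∈ C.E, a ≠ 1 → ∀ b ∈ C.E, b ≠ 1 → Oc a ⊓ centralizer ({b} : Set G) ≤ Oc b := by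
    intro a ha _ b hb hb1
    obtain ⟨n, hn, hnb⟩ := C.exists_N_E hb (hall b hb hb1)
    set X := Oc a ⊓ centralizer ({b} : Set G)
    have hXn : C.E ≤ normalizer ((X.map (MulAut.conj n).toMonoidHom : Subgroup G) : Set G) := by
      intro e he
      refine Cfsg.Lib.ZStarApps.mem_normalizer_of_maps ?_
      rintro _ ⟨x, hx, rfl⟩
      obtain ⟨hxa, hxb⟩ := mem_inf.1 hx
      have he' : n⁻¹ * e * n⁻¹⁻¹ ∈ C.E := (mem_normalizer_iff.1 (inv_mem hn) e).1 he
      refine ⟨n⁻¹ * e * n⁻¹⁻¹ * x * (n⁻¹ * e * n⁻¹⁻¹)⁻¹, ⟨(mem_normalizer_iff.1 (hEN a ha he') x).1 hxa, ?_⟩, ?_⟩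
      · refine mem_centralizer_singleton_iff.2 ?_
        exact (((C.E_comm he' hb).mul_left (show Commute x b from mem_centralizer_singleton_iff.1 hxb)).mul_left
          (C.E_comm he' hb).inv_left).eq
      · simp only [MulEquiv.coe_toMonoidHom, MulAut.conj_apply]; group
    have hle := C.le_Oc_U hza C.z_U C.z_ne (X := X.map (MulAut.conj n).toMonoidHom) (by
      rintro _ ⟨x, hx, rfl⟩
      refine mem_centralizer_singleton_iff.2 ?_
      rw [← hnb]
      exact ((show Commute x b from mem_centralizer_singleton_iff.1 (mem_inf.1 hx).2).map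
        (MulAut.conj n).toMonoidHom).eq)
      (by rw [card_map_of_injective (MulEquiv.injective _)]; exact (odd_Oc a).of_dvd_nat (card_dvd_of_le inf_le_left))
      (Or.inl hXn)
    intro x hx
    have := conj_Oc n⁻¹ C.z (hle ⟨x, hx, rfl⟩)
    simp only [MulEquiv.coe_toMonoidHom, MulAut.conj_apply, ← hnb] at this
    rwa [show n⁻¹ * (n * x * n⁻¹) * n⁻¹⁻¹ = x by group, show n⁻¹ * (n * b * n⁻¹) * n⁻¹⁻¹ = b by group] at this
  obtain ⟨h1, h2⟩ := Cfsg.Agent.S0217.result (p := 2) C.E (fun a ha b hb => (C.E_comm ha hb).eq)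
    (fun a ha => by rw [pow_two]; exact C.E_sq ha) (by rw [C.card_E]; norm_num) (fun a => Oc a)
    (fun a _ _ => Oc_le a) (fun a _ _ h => Nat.not_even_iff_odd.2 (odd_Oc a) (even_iff_two_dvd.2 h))
    (fun a ha _ b hb x hx => (mem_normalizer_iff.1 (hEN a ha hb) x).1 hx)
    (fun a _ _ => Cfsg.Agent.PF.isSolvable_of_odd _ (odd_Oc a)) hbal
  set WE := ⨆ a : {a : G // a ∈ C.E ∧ a ≠ 1}, Oc (a : G) with hWE
  have hWEo : Odd (Nat.card WE) := Nat.not_even_iff_odd.1 fun h => h1 (even_iff_two_dvd.1 h)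
  have hWW : C.W = WE := by
    refine le_antisymm (iSup_le fun u => le_iSup (fun a : {a : G // a ∈ C.E ∧ a ≠ 1} => Oc (a : G))
      ⟨u, C.U_le_E u.2.1, u.2.2⟩) ?_
    refine le_of_four' (E := C.U) (by rw [C.card_U]) (fun p hp q hq => C.E_comm (C.U_le_E hp) (C.U_le_E hq))
      (fun p hp => C.U_sq hp) hWEo (fun u hu => Cfsg.Lib.ZStarApps.mem_normalizer_of_maps fun x hx => ?_)
      fun u hu hu1 => by rw [h2 u (C.U_le_E hu) hu1]; exact C.Oc_le_W hu hu1
    have hle : WE ≤ WE.comap (MulAut.conj u).toMonoidHom := iSup_le fun a x hx =>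
      le_iSup (fun a : {a : G // a ∈ C.E ∧ a ≠ 1} => Oc (a : G)) a
        ((mem_normalizer_iff.1 (hEN a a.2.1 (C.U_le_E hu)) x).1 hx)
    exact hle hx
  refine C.O_eq_bot_of_odd hza (hWW ▸ hWEo) fun x hx hxU hc => ?_
  obtain ⟨n, hn, hnx⟩ := C.exists_N_E hx hc
  refine ⟨n, ?_, hnx⟩
  rw [hWW]
  refine Cfsg.Lib.ZStarApps.mem_normalizer_of_maps fun y hy => ?_
  have hle : WE ≤ WE.comap (MulAut.conj n).toMonoidHom := iSup_le fun a x hx =>
    le_iSup (fun a : {a : G // a ∈ C.E ∧ a ≠ 1} => Oc (a : G))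
      ⟨n * a * n⁻¹, (mem_normalizer_iff.1 hn _).1 a.2.1, fun h => a.2.2 (conj_eq_one_iff.1 h)⟩ (conj_Oc n a hx)
  exact hle hy

end Ctx

end Cfsg.Lib.JTwoSimple
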