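import Cfsg.Agent.JTwoSimple.Setup
import Cfsg.Agent.AltEightType.Core

/-!
The normaliser of `Q` in the centraliser, and subgroups covering the quotient.
-/

set_option autoImplicit false
set_option linter.unusedSectionVars false
set_option linter.style.haveILetI false
set_option synthInstance.maxSize 4096
set_option synthInstance.maxHeartbeats 400000
set_option maxRecDepth 100000

namespace Cfsg.Lib.JTwoSimple

open Subgroup Equiv Cfsg.Lib.HallJankoType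
open Cfsg.Lib.JTwoSyl (Model SC QC ev5 ev7 smul' InZ InU zc ac vc wc one' qa inv')
open Cfsg.Lib.Walter (Oc mem_Oc)

universe u

local notation "τ₁" => Cfsg.Lib.HallJankoType.tau1
local notation "τ₂" => Cfsg.Lib.HallJankoType.tau2

theorem move_four : ∀ π : Perm (Fin 5), π 4 ≠ 4 → ∃ p r : Bool, (π⁻¹ * (bp τ₁ p * bp τ₂ r)) 0 = 4 := by
  decide +kernel

theorem hyper : ∀ x : QC, ∀ i : Fin 5, i ≠ 4 →
    smul' (x, false, false) (ac 4) = smul' (ac 4) (x, false, false) ∨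
    smul' (smul' (x, false, false) (ac i)) (ac 4) = smul' (ac 4) (smul' (x, false, false) (ac i)) := by
  decide +kernel

theorem ac_comm4 : smul' vc (ac 4) = smul' (ac 4) vc ∧ smul' wc (ac 4) = smul' (ac 4) wc := by decide +kernel

theorem ac_inj : ∀ i j : Fin 5, ac i = ac j ∨ ac i = smul' zc (ac j) → i = j := by decide +kernel

namespace Ctx

variable {G : Type u} [Group G] [Finite G] (C : Ctx G)

theorem mem_Q {X : SC} : C.e X ∈ C.Q ↔ X.2 = (false, false) := by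
  constructor
  · rintro ⟨x, hx⟩
    have : C.e (x, false, false) = C.e X := by rw [← hx]; simp [ev7, bp]
    rw [← C.e_inj this]
  · obtain ⟨x, p, r⟩ := X
    intro h
    simp only [Prod.mk.injEq] at h
    obtain ⟨rfl, rfl⟩ := h
    exact ⟨x, by simp [ev7, bp]⟩

theorem Q_code {q : G} (hq : q ∈ C.Q) : ∃ X : SC, X.2 = (false, false) ∧ C.e X = q := by
  obtain ⟨x, rfl⟩ := hq
  exact ⟨(x, false, false), rfl, by simp [ev7, bp]⟩

theorem Q_le : C.Q ≤ (C.S : Subgroup G) := fun q hq => by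
  obtain ⟨X, -, rfl⟩ := C.Q_code hq
  exact C.e_mem X

/-- the elements of `S` centralising the fixed point -/
def A : Subgroup G := (C.S : Subgroup G) ⊓ centralizer ({C.e (ac 4)} : Set G)

theorem mem_A {X : SC} : C.e X ∈ C.A ↔ smul' X (ac 4) = smul' (ac 4) X := by
  rw [← C.M.commute_iff, A, mem_inf, mem_centralizer_singleton_iff]
  exact ⟨fun h => h.2, fun h => ⟨C.e_mem X, h.eq⟩⟩

theorem A_le : C.A ≤ (C.S : Subgroup G) := inf_le_left

theorem A_code {x : G} (hx : x ∈ C.A) : ∃ X : SC, smul' X (ac 4) = smul' (ac 4) X ∧ C.e X = x := by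
  obtain ⟨X, rfl⟩ := C.M.surj x (C.A_le hx)
  exact ⟨X, C.mem_A.1 hx, rfl⟩

theorem vc_A : C.e vc ∈ C.A := C.mem_A.2 ac_comm4.1

theorem wc_A : C.e wc ∈ C.A := C.mem_A.2 ac_comm4.2

theorem pr_A (p r : Bool) : C.e (Cfsg.Lib.JTwoSyl.q1, p, r) ∈ C.A := C.mem_A.2 (by revert p r; decide +kernel)

/-- `N(Q)` inside the centraliser -/
def NQ : Subgroup G := C.C₀ ⊓ normalizer (C.Q : Set G)

theorem NQ_le : C.NQ ≤ C.C₀ := inf_le_left

theorem exists_NQ {c : G} (hc : c ∈ C.C₀) : ∃ o ∈ Oc C.z, o⁻¹ * c ∈ C.NQ := by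
  have hQ : C.Q ≤ C.C₀ := C.Q_le.trans C.S_le
  obtain ⟨o, ho, h⟩ := Cfsg.Lib.AltEightType.decomp_of_normal_mod (C := C.C₀) (A := C.Q) (K := Oc C.z) C.O_le hQ
    C.odd_O (C.S.2.to_le C.Q_le) (fun c hc => C.O_normalized hc) (fun c hc q hq => by
      obtain ⟨X, hX, rfl⟩ := C.Q_code hq
      obtain ⟨o, ho, Y, hY, e'⟩ := C.sg_Q ⟨c, hc⟩ hX
      change c * C.e X * c⁻¹ = C.e Y * o at e'
      rw [e']
      exact mul_mem (mem_sup_left (C.mem_Q.2 hY)) (mem_sup_right ho)) hc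
  exact ⟨o, ho, (C.C₀).mul_mem ((C.C₀).inv_mem (C.O_le ho)) hc, h⟩

theorem eq_of_Q_O {p q o : G} (hp : p ∈ C.Q) (hq : q ∈ C.Q) (ho : o ∈ Oc C.z) (h : p = q * o) : p = q := by
  have : o = 1 := C.eq_one_of_S_O (by
    rw [show o = q⁻¹ * p by rw [h]; group]
    exact C.Q_le ((C.Q).mul_mem ((C.Q).inv_mem hq) hp)) ho
  rw [h, this, mul_one]

theorem NQ_act {c : G} (hc : c ∈ C.NQ) (i : Fin 5) :
    c * C.e (ac i) * c⁻¹ = C.e (ac (C.sg ⟨c, C.NQ_le hc⟩ i)) ∨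
      c * C.e (ac i) * c⁻¹ = C.z * C.e (ac (C.sg ⟨c, C.NQ_le hc⟩ i)) := by
  obtain ⟨o, ho, h⟩ := C.sg_act ⟨c, C.NQ_le hc⟩ i
  change c * C.e (ac i) * c⁻¹ = _ ∨ c * C.e (ac i) * c⁻¹ = _ at h
  have hm : c * C.e (ac i) * c⁻¹ ∈ C.Q := (mem_normalizer_iff.1 hc.2 _).1 (C.mem_Q.2 rfl)
  have hz : C.z ∈ C.Q := C.e_zc ▸ C.mem_Q.2 rfl
  rcases h with h | h
  · exact Or.inl (C.eq_of_Q_O hm (C.mem_Q.2 rfl) ho h)
  · exact Or.inr (C.eq_of_Q_O hm (mul_mem hz (C.mem_Q.2 rfl)) ho h)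

theorem exists_NQ_sg {π : Perm (Fin 5)} (hπ : Perm.sign π = 1) :
    ∃ c, ∃ hc : c ∈ C.NQ, C.sg ⟨c, C.NQ_le hc⟩ = π := by
  obtain ⟨⟨d, hd⟩, hσ⟩ := C.sg_surj hπ
  obtain ⟨o, ho, h⟩ := C.exists_NQ hd
  refine ⟨o⁻¹ * d, h, ?_⟩
  rw [show (⟨o⁻¹ * d, C.NQ_le h⟩ : ↥C.C₀) = ⟨o, C.O_le ho⟩⁻¹ * ⟨d, hd⟩ from rfl, map_mul, map_inv, C.sg_O ho,
    inv_one, one_mul, hσ]

/-- a subgroup with elements covering the four group and moving the point covers everything -/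
theorem sg_full {X : Subgroup G} (hv : ∀ p r : Bool, C.e (Cfsg.Lib.JTwoSyl.q1, p, r) ∈ X) {m : G} (hm : m ∈ X)
    (hmC : m ∈ C.C₀) (h4 : C.sg ⟨m, hmC⟩ 4 ≠ 4) {π : Perm (Fin 5)} (hπ : Perm.sign π = 1) :
    ∃ x, ∃ hx : x ∈ C.C₀, x ∈ X ∧ C.sg ⟨x, hx⟩ = π := by
  set K := (X.subgroupOf C.C₀).map C.sg with hK
  have hcode : ∀ p r : Bool, bp τ₁ p * bp τ₂ r ∈ K := fun p r =>
    ⟨⟨C.e (Cfsg.Lib.JTwoSyl.q1, p, r), C.e_cz _⟩, hv p r, C.sg_code _⟩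
  have hKA : K ≤ alternatingGroup (Fin 5) := by
    rintro _ ⟨c, -, rfl⟩; exact Perm.mem_alternatingGroup.2 (C.sg_sign c)
  obtain ⟨p, r, h0⟩ := move_four _ h4
  have h8 : ¬ 8 ∣ Nat.card K := fun h => by
    have := h.trans (card_dvd_of_le hKA)
    rw [nat_card_alternatingGroup, Nat.card_fin] at this
    revert this; decide
  have hKe := Cfsg.Lib.JTwoSyl.perm_image (X := K) (by simpa [bp] using hcode true false)
    (by simpa [bp] using hcode false true) (mul_mem (inv_mem (mem_map_of_mem _ (show (⟨m, hmC⟩ : ↥C.C₀) ∈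
      X.subgroupOf C.C₀ from hm))) (hcode p r)) h0 h8
  obtain ⟨x, hx, e'⟩ : π ∈ K := hKe ▸ Perm.mem_alternatingGroup.2 hπ
  exact ⟨x, x.2, hx, e'⟩

/-- a subgroup containing the core, `A` and an element moving the point contains `C(z)` -/
theorem cover {X : Subgroup G} (hA : C.A ≤ X) (hO : Oc C.z ≤ X) {m : G} (hm : m ∈ X) (hmC : m ∈ C.C₀)
    (h4 : C.sg ⟨m, hmC⟩ 4 ≠ 4) : C.C₀ ≤ X := by
  set i := C.sg ⟨m, hmC⟩ 4 with hi
  have hz : C.z ∈ X := hA (C.e_zc ▸ C.mem_A.2 (by decide +kernel))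
  have hai : C.e (ac i) ∈ X := by
    obtain ⟨o, ho, h⟩ := C.sg_act ⟨m, hmC⟩ 4
    rw [← hi] at h
    change m * C.e (ac 4) * m⁻¹ = _ ∨ m * C.e (ac 4) * m⁻¹ = _ at h
    have hc : m * C.e (ac 4) * m⁻¹ ∈ X := mul_mem (mul_mem hm (hA (C.mem_A.2 rfl))) (inv_mem hm)
    rcases h with h | h <;> rw [h] at hc
    · exact (Subgroup.mul_mem_cancel_right X (hO ho)).1 hc
    · exact (Subgroup.mul_mem_cancel_left X hz).1 ((Subgroup.mul_mem_cancel_right X (hO ho)).1 hc)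
  have hQ : C.Q ≤ X := fun q hq => by
    obtain ⟨⟨x, p, r⟩, hX, rfl⟩ := C.Q_code hq
    simp only [Prod.mk.injEq] at hX
    obtain ⟨rfl, rfl⟩ := hX
    rcases hyper x i h4 with h | h
    · exact hA (C.mem_A.2 h)
    · have := hA (C.mem_A.2 h)
      rw [← C.e_mul] at this
      exact (Subgroup.mul_mem_cancel_right X hai).1 this
  intro c hc
  obtain ⟨x, hx, hxX, e'⟩ := C.sg_full (fun p r => hA (C.pr_A p r)) hm hmC h4 (C.sg_sign ⟨c, hc⟩)
  have : C.sg (⟨x, hx⟩⁻¹ * ⟨c, hc⟩) = 1 := by rw [map_mul, map_inv, e', inv_mul_cancel]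
  obtain ⟨Y, hY, o, ho, h⟩ := C.sg_ker.1 this
  change x⁻¹ * c = C.e Y * o at h
  rw [show c = x * (x⁻¹ * c) by group, h]
  exact mul_mem hxX (mul_mem (hQ (C.mem_Q.2 hY)) (hO ho))

/-- a `2`-subgroup fixing two points is small -/
theorem card_le_thirtytwo {P : Subgroup G} (hP : IsPGroup 2 P) (hPC : P ≤ C.C₀)
    (h : ∀ p (hp : p ∈ P), C.sg ⟨p, hPC hp⟩ 4 = 4 ∧ C.sg ⟨p, hPC hp⟩ 0 = 0) : Nat.card P ≤ 32 := by
  have h1 : ∀ p : P, ∃ X : SC, X.2 = (false, false) ∧ ∃ o ∈ Oc C.z, (p : G) = C.e X * o := by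
    intro p
    refine (C.sg_ker (c := ⟨p, hPC p.2⟩)).1 ?_
    obtain ⟨h4, h0⟩ := h p p.2
    set π := C.sg ⟨p, hPC p.2⟩
    have h3 : π ^ 3 = 1 := by
      simpa [pow_succ, mul_assoc] using fix_two π (C.sg_sign _) h4 h0
    obtain ⟨i, hi⟩ := IsPGroup.iff_orderOf.1 hP p
    have hd : orderOf π ∣ 2 ^ i := hi ▸ (orderOf_map_dvd _ _).trans (dvd_of_eq (by
      rw [← Subgroup.orderOf_coe p, ← Subgroup.orderOf_coe (⟨(p : G), hPC p.2⟩ : ↥C.C₀)]))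
    exact orderOf_eq_one_iff.1 (Nat.eq_one_of_dvd_coprimes (Nat.Coprime.pow_left i (by norm_num : Nat.Coprime 2 3))
      hd (orderOf_dvd_of_pow_eq_one h3))
  choose f hf2 o ho hfo using h1
  have hinj : Function.Injective fun p : P => (f p).1 := fun p p' e' => by
    have hff : f p = f p' := Prod.ext e' ((hf2 p).trans (hf2 p').symm)
    obtain ⟨i, hi⟩ := IsPGroup.iff_orderOf.1 hP (p'⁻¹ * p)
    have hm : ((p'⁻¹ * p : P) : G) ∈ Oc C.z := by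
      rw [Subgroup.coe_mul, Subgroup.coe_inv, hfo p, hfo p', hff,
        show (C.e (f p') * o p')⁻¹ * (C.e (f p') * o p) = (o p')⁻¹ * o p by group]
      exact mul_mem (inv_mem (ho p')) (ho p)
    exact (inv_mul_eq_one.1 (orderOf_eq_one_iff.1 (Nat.eq_one_of_dvd_coprimes
      (Nat.Coprime.pow_left i (Nat.coprime_two_left.2 C.odd_O)) (dvd_of_eq hi)
      ((dvd_of_eq (Subgroup.orderOf_coe (p'⁻¹ * p)).symm).trans (Subgroup.orderOf_dvd_natCard _ hm))))).symm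
  have := Nat.card_le_card_of_injective _ hinj
  exact this.trans (le_of_eq (by rw [Nat.card_eq_fintype_card]; rfl))

end Ctx

end Cfsg.Lib.JTwoSimple
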