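import Cfsg.Agent.JTwoSyl.Main
import Cfsg.Agent.LFourType.Moved

/-!
The centraliser of the central involution of a Sylow subgroup of the type of `J₂`, seen modulo its odd core.
-/

set_option autoImplicit false
set_option linter.unusedSectionVars false
set_option linter.style.haveILetI false
set_option synthInstance.maxSize 4096
set_option synthInstance.maxHeartbeats 400000

namespace Cfsg.Lib.JTwoSimple

open Subgroup Equiv Cfsg.Lib.HallJankoType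
open Cfsg.Lib.JTwoSyl (Model Loc SC QC ev5 ev7 smul' InZ InU zc ac vc wc one' qa pts5 qsub vFour)
open Cfsg.Lib.Walter (Oc Qt qm mem_Oc odd_ker_qm)

universe u

local notation "τ₁" => Cfsg.Lib.HallJankoType.tau1
local notation "τ₂" => Cfsg.Lib.HallJankoType.tau2

/-- A finite group without subgroups of index two, with a Sylow subgroup in coordinates. -/
structure Ctx (G : Type u) [Group G] [Finite G] where
  /-- the Sylow subgroup -/
  S : Sylow 2 G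
  /-- its central involution -/
  z : G
  /-- four generators of `Q` -/
  a : Fin 4 → G
  /-- the first outer involution -/
  v : G
  /-- the second outer involution -/
  w : G
  M : Model (S : Subgroup G) z a v w
  h2 : ∀ H : Subgroup G, H.Normal → H.index ≠ 2

theorem odd_abelian {X : Subgroup (Perm (Fin 5))} (hA : X ≤ alternatingGroup (Fin 5)) (ho : Odd (Nat.card X))
    {p q : Perm (Fin 5)} (hp : p ∈ X) (hq : q ∈ X) : p * q = q * p := by
  have h60 : Nat.card (alternatingGroup (Fin 5)) = 60 := by rw [nat_card_alternatingGroup, Nat.card_fin]; rfl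
  have hd : Nat.card X ∣ 60 := h60 ▸ card_dvd_of_le hA
  have h15 : Nat.card X ∣ 15 :=
    (Nat.Coprime.dvd_of_dvd_mul_right (show (Nat.card X).Coprime 4 from (Nat.coprime_two_right.2 ho).pow_right 2)
      (show Nat.card X ∣ 15 * 4 from hd))
  have hne : Nat.card X ≠ 15 := fun h => Cfsg.Lib.M24Nse.alt_no_index (X.subgroupOf (alternatingGroup (Fin 5)))
    (Or.inr (by
      have h' := (X.subgroupOf (alternatingGroup (Fin 5))).card_mul_index
      rw [Nat.card_congr (subgroupOfEquivOfLe hA).toEquiv, h60, h] at h'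
      omega))
  haveI : Fact (Nat.Prime 3) := ⟨Nat.prime_three⟩
  haveI : Fact (Nat.Prime 5) := ⟨Nat.prime_five⟩
  have key : IsCyclic X := by
    have hc : Nat.card X = 1 ∨ Nat.card X = 3 ∨ Nat.card X = 5 := by
      have hle := Nat.le_of_dvd (by norm_num) h15
      interval_cases h : Nat.card X <;> omega
    rcases hc with h | h | h
    · haveI := (Nat.card_eq_one_iff_unique.1 h).1
      exact isCyclic_of_subsingleton
    · exact isCyclic_of_prime_card h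
    · exact isCyclic_of_prime_card h
  haveI := key
  exact congrArg Subtype.val (IsCyclic.commGroup.mul_comm (⟨p, hp⟩ : X) ⟨q, hq⟩)

theorem four_free : ∀ π : Perm (Fin 5), Perm.sign π = 1 → π * π * π * π * π * π * π * π * π * π * π * π * π * π * π = 1 →
    π * (τ₁ * π * τ₁) = (τ₁ * π * τ₁) * π → π * (τ₂ * π * τ₂) = (τ₂ * π * τ₂) * π →
    π * ((τ₁ * τ₂) * π * (τ₁ * τ₂)) = ((τ₁ * τ₂) * π * (τ₁ * τ₂)) * π → π = 1 := by
  decide +kernel

theorem fix_two : ∀ π : Perm (Fin 5), Perm.sign π = 1 → π 4 = 4 → π 0 = 0 → π * π * π = 1 := by decide +kernel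

namespace Ctx

variable {G : Type u} [Group G] [Finite G] (C : Ctx G)

/-- evaluation -/
abbrev e (X : SC) : G := ev7 C.z C.a C.v C.w X

/-- the centraliser of `z` -/
abbrev C₀ : Subgroup G := centralizer ({C.z} : Set G)

/-- the extraspecial subgroup -/
abbrev Q : Subgroup G := qsub C.M.cliff

theorem e_mem (X : SC) : C.e X ∈ (C.S : Subgroup G) := C.M.mem X

theorem e_mul (X Y : SC) : C.e X * C.e Y = C.e (smul' X Y) := C.M.mul X Y

theorem e_zc : C.e zc = C.z := C.M.ev_zc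

theorem e_one : C.e one' = 1 := C.M.ev_one

theorem e_inj : Function.Injective C.e := C.M.inj

theorem S_le : (C.S : Subgroup G) ≤ C.C₀ := fun _ hs => mem_centralizer_singleton_iff.2 (C.M.z_central hs).eq

theorem e_cz (X : SC) : C.e X ∈ C.C₀ := C.S_le (C.e_mem X)

theorem z_ne : C.z ≠ 1 := C.M.z_ne

theorem z_sq : C.z * C.z = 1 := C.M.cliff.zz

theorem z_order : orderOf C.z = 2 := C.M.orderOf_z

theorem odd_O : Odd (Nat.card (Oc C.z)) := Cfsg.Lib.LFourType.odd_Oc C.z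

theorem O_le : Oc C.z ≤ C.C₀ := Cfsg.Lib.LFourType.Oc_le C.z

theorem O_normalized {c : G} (hc : c ∈ C.C₀) : c ∈ normalizer (Oc C.z : Set G) :=
  Cfsg.Lib.LFourType.Oc_normalized hc

theorem eq_one_of_S_O {x : G} (hx : x ∈ (C.S : Subgroup G)) (hxO : x ∈ Oc C.z) : x = 1 := by
  obtain ⟨i, hi⟩ := IsPGroup.iff_orderOf.1 C.S.2 ⟨x, hx⟩
  rw [orderOf_mk] at hi
  exact orderOf_eq_one_iff.1 (Nat.eq_one_of_dvd_coprimes (Nat.Coprime.pow_left i (Nat.coprime_two_left.2 C.odd_O))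
    (dvd_of_eq hi) (Subgroup.orderOf_dvd_natCard _ hxO))

/-- the image in the quotient -/
def eb (X : SC) : Qt C.z := qm C.z ⟨C.e X, C.e_cz X⟩

theorem exists_loc : ∃ (S' : Sylow 2 (Qt C.z)) (a' : Fin 4 → Qt C.z) (v' w' : Qt C.z),
    Loc S' (C.eb zc) a' v' w' ∧ (∀ X, ev7 (C.eb zc) a' v' w' X = C.eb X) ∧
      ∀ g, g ∈ (S' : Subgroup (Qt C.z)) ↔ ∃ X, C.eb X = g := by
  classical
  haveI : Fact (Nat.Prime 2) := ⟨Nat.prime_two⟩
  set π := qm C.z with hπ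
  have hπs : Function.Surjective π := QuotientGroup.mk'_surjective _
  obtain ⟨h, hhz, hh⟩ := Cfsg.Lib.JTwoSyl.exists_mover C.M C.h2
  have hva : C.v ∈ C.C₀ := (congrArg (fun x => x ∈ C.C₀) C.M.ev_vc).mp (C.e_cz vc)
  have hwa : C.w ∈ C.C₀ := (congrArg (fun x => x ∈ C.C₀) C.M.ev_wc).mp (C.e_cz wc)
  have MC := C.M.comap C.C₀.subtype (Subgroup.subtype_injective _) (C.S_le.trans (le_of_eq (range_subtype _).symm))
    (z' := ⟨C.z, C.S_le C.M.z_mem⟩) (a' := fun i => ⟨C.a i, C.S_le (C.M.mem_a i)⟩) (v' := ⟨C.v, hva⟩) (w' := ⟨C.w, hwa⟩)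
    rfl (fun _ => rfl) rfl rfl
  have hinj : Set.InjOn π (((C.S : Subgroup G).comap C.C₀.subtype : Subgroup ↥C.C₀) : Set ↥C.C₀) := by
    intro x hx y hy hxy
    refine Subtype.ext (inv_mul_eq_one.1 (C.eq_one_of_S_O (mul_mem (inv_mem hx) hy)
      (mem_Oc.2 ⟨mul_mem (inv_mem x.2) y.2, ?_⟩)))
    show π (x⁻¹ * y) = 1
    rw [map_mul, map_inv, hxy, inv_mul_cancel]
  have M1 := MC.map π hinj
  set S₁ := (C.S.subtype C.S_le).mapSurjective hπs with hS₁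
  have hS₁coe : (S₁ : Subgroup (Qt C.z)) = ((C.S : Subgroup G).comap C.C₀.subtype).map π := by
    rw [hS₁, Sylow.coe_mapSurjective, Sylow.coe_subtype]; rfl
  rw [← hS₁coe] at M1
  have hz' : π ⟨C.z, C.S_le C.M.z_mem⟩ = C.eb zc := congrArg π (Subtype.ext C.e_zc.symm)
  rw [hz'] at M1
  have hev : ∀ X : SC, ev7 (C.eb zc) (π ∘ fun i => ⟨C.a i, C.S_le (C.M.mem_a i)⟩) (π ⟨C.v, hva⟩) (π ⟨C.w, hwa⟩) X =
      C.eb X := fun X => by
    rw [← hz', ← Cfsg.Lib.JTwoSyl.map_ev7 π]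
    exact congrArg π (Subtype.ext (Cfsg.Lib.JTwoSyl.map_ev7 C.C₀.subtype _ _ _ _ X))
  refine ⟨S₁, _, _, _, ⟨M1, fun g => ?_, fun K hKn hK => ?_,
    ⟨π ⟨h, mem_centralizer_singleton_iff.2 hhz.eq⟩, ?_⟩⟩, hev, fun g => ⟨fun hg => ?_, ?_⟩⟩
  · obtain ⟨c, rfl⟩ := hπs g
    exact (show Commute c (⟨C.e zc, C.e_cz zc⟩ : ↥C.C₀) from
      Subtype.ext (by simpa [C.e_zc] using mem_centralizer_singleton_iff.1 c.2)).map π
  · haveI := hKn
    have h0 := Cfsg.Lib.Coprime.pPrimeCore_quotient_eq_bot (G := ↥C.C₀) (p := 2)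
    exact le_bot_iff.1 (h0 ▸ Cfsg.Lib.Components.le_pPrimeCore (Nat.coprime_two_right.2 hK))
  · rw [hev, hev]
    simp only [eb]
    rw [← map_inv, ← map_mul, ← map_mul, ← map_mul]
    rcases hh with r | r
    · exact Or.inl (congrArg π (Subtype.ext r))
    · exact Or.inr (congrArg π (Subtype.ext (r.trans (congrArg (fun y => y * C.e (ac 4)) C.e_zc.symm))))
  · obtain ⟨X, hX⟩ := M1.surj g hg
    exact ⟨X, (hev X).symm.trans hX⟩
  · rintro ⟨X, rfl⟩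
    rw [← hev]
    exact M1.mem X

/-- the action on the five points -/
theorem exists_sigma : ∃ σ : ↥C.C₀ →* Perm (Fin 5),
    (∀ c : ↥C.C₀, Perm.sign (σ c) = 1) ∧ (∀ π : Perm (Fin 5), Perm.sign π = 1 → ∃ c : ↥C.C₀, σ c = π) ∧
    (∀ X, σ ⟨C.e X, C.e_cz X⟩ = bp τ₁ X.2.1 * bp τ₂ X.2.2) ∧
    (∀ c : ↥C.C₀, σ c = 1 ↔ ∃ X : SC, X.2 = (false, false) ∧ ∃ o ∈ Oc C.z, (c : G) = C.e X * o) ∧
    (∀ (c : ↥C.C₀) (i : Fin 5), ∃ o ∈ Oc C.z, (c : G) * C.e (ac i) * (c : G)⁻¹ = C.e (ac (σ c i)) * o ∨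
      (c : G) * C.e (ac i) * (c : G)⁻¹ = C.z * C.e (ac (σ c i)) * o) ∧
    ∀ c : ↥C.C₀, ∀ X : SC, X.2 = (false, false) → ∃ o ∈ Oc C.z, ∃ Y : SC, Y.2 = (false, false) ∧
      (c : G) * C.e X * (c : G)⁻¹ = C.e Y * o := by
  classical
  obtain ⟨S', a', v', w', L, hev, hS'⟩ := C.exists_loc
  have hQ := L.normal_Q
  have hN : ∀ g, g ∈ L.N := fun g => by
    rw [show L.N = ⊤ from normalizer_eq_top_iff.2 hQ]; exact mem_top _
  let ι : Qt C.z →* ↥L.N :=
    { toFun := fun c => ⟨c, hN c⟩, map_one' := rfl, map_mul' := fun _ _ => rfl }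
  set π := qm C.z with hπ
  have hπs : Function.Surjective π := QuotientGroup.mk'_surjective _
  have lift : ∀ (c : ↥C.C₀) (Y : SC), π c = C.eb Y → ∃ o ∈ Oc C.z, (c : G) = C.e Y * o := fun c Y h =>
    ⟨(C.e Y)⁻¹ * c, mem_Oc.2 ⟨mul_mem (inv_mem (C.e_cz Y)) c.2, by
      show π (⟨C.e Y, C.e_cz Y⟩⁻¹ * c) = 1
      rw [map_mul, map_inv, h]; exact inv_mul_cancel _⟩, by group⟩
  have hπO : ∀ (o : G) (ho : o ∈ Oc C.z), π ⟨o, C.O_le ho⟩ = 1 := fun o ho => (mem_Oc.1 ho).2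
  refine ⟨L.σ.comp (ι.comp π), fun c => ?_, fun ρ hρ => ?_, fun X => ?_, fun c => ?_, fun c i => ?_, fun c X hX => ?_⟩
  · exact Perm.mem_alternatingGroup.1 (L.σ_range ▸ ⟨ι (π c), rfl⟩)
  · obtain ⟨n, hn⟩ : ρ ∈ L.σ.range := L.σ_range ▸ Perm.mem_alternatingGroup.2 hρ
    obtain ⟨c, hc⟩ := hπs (n : Qt C.z)
    refine ⟨c, ?_⟩
    show L.σ (ι (π c)) = ρ
    rw [hc]; exact hn
  · show L.σ (ι (C.eb X)) = _
    rw [show ι (C.eb X) = ⟨ev7 (C.eb zc) a' v' w' X, L.S_le_N (L.M.mem X)⟩ from Subtype.ext (hev X).symm]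
    exact L.σ_code X
  · constructor
    · intro hc
      obtain ⟨q, hq, hqc⟩ := L.σ_one_decomp (c := ι (π c)) hc
      have h1 := mul_mem (inv_mem hq) (L.odd_elem_centralizer_trivial hQ hqc)
      rw [inv_mul_cancel_left] at h1
      obtain ⟨Y, hY, hYc⟩ := L.Q_code h1
      rw [hev] at hYc
      exact ⟨Y, hY, lift c Y hYc.symm⟩
    · rintro ⟨Y, hY, o, ho, hco⟩
      refine L.σ_Q (c := ι (π c)) ?_
      have hc : c = ⟨C.e Y, C.e_cz Y⟩ * ⟨o, C.O_le ho⟩ := Subtype.ext hco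
      show π c ∈ L.Q
      rw [hc, map_mul, hπO o ho, mul_one]
      exact (congrArg (fun x => x ∈ L.Q) (hev Y)).mp (L.mem_Q.2 hY)
  · have h := L.σ_act (ι (π c)) i
    have hp : ∀ j, pts5 (C.eb zc) a' j = C.eb (ac j) := fun j => by rw [pts5, ← L.M.ev_ac, hev]
    simp only [hp] at h
    change Cls _ (π c * C.eb (ac i) * (π c)⁻¹) (C.eb (ac (L.σ (ι (π c)) i))) at h
    set j := L.σ (ι (π c)) i with hj
    show ∃ o ∈ Oc C.z, (c : G) * C.e (ac i) * (c : G)⁻¹ = C.e (ac j) * o ∨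
      (c : G) * C.e (ac i) * (c : G)⁻¹ = C.z * C.e (ac j) * o
    set d : ↥C.C₀ := c * ⟨C.e (ac i), C.e_cz _⟩ * c⁻¹
    have hd : π d = π c * C.eb (ac i) * (π c)⁻¹ := by simp only [d, eb, map_mul, map_inv]; rfl
    rw [← hd] at h
    rcases h with r | r
    · obtain ⟨o, ho, e'⟩ := lift d _ r
      exact ⟨o, ho, Or.inl e'⟩
    · have hzj : C.eb zc * C.eb (ac j) = C.eb (smul' zc (ac j)) := by
        rw [← hev zc, ← hev (ac j), L.M.mul, hev]
      rw [hzj] at r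
      obtain ⟨o, ho, e'⟩ := lift d _ r
      refine ⟨o, ho, Or.inr (e'.trans ?_)⟩
      rw [← C.e_mul, C.e_zc]
  · have h1 : C.eb X ∈ L.Q := (congrArg (fun x => x ∈ L.Q) (hev X)).mp (L.mem_Q.2 hX)
    have h2 := hQ.conj_mem _ h1 (π c)
    obtain ⟨Y, hY, hYc⟩ := L.Q_code h2
    rw [hev] at hYc
    set d : ↥C.C₀ := c * ⟨C.e X, C.e_cz _⟩ * c⁻¹
    have hd : π d = π c * C.eb X * (π c)⁻¹ := by simp only [d, eb, map_mul, map_inv]; rfl
    obtain ⟨o, ho, e'⟩ := lift d Y (hd.trans hYc.symm)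
    exact ⟨o, ho, Y, hY, e'⟩

/-- the action of `C(z)` on the five points -/
noncomputable def sg : ↥C.C₀ →* Perm (Fin 5) := C.exists_sigma.choose

theorem sg_sign (c : ↥C.C₀) : Perm.sign (C.sg c) = 1 := C.exists_sigma.choose_spec.1 c

theorem sg_surj {π : Perm (Fin 5)} (h : Perm.sign π = 1) : ∃ c, C.sg c = π := C.exists_sigma.choose_spec.2.1 π h

theorem sg_code (X : SC) : C.sg ⟨C.e X, C.e_cz X⟩ = bp τ₁ X.2.1 * bp τ₂ X.2.2 :=
  C.exists_sigma.choose_spec.2.2.1 X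

theorem sg_ker {c : ↥C.C₀} :
    C.sg c = 1 ↔ ∃ X : SC, X.2 = (false, false) ∧ ∃ o ∈ Oc C.z, (c : G) = C.e X * o :=
  C.exists_sigma.choose_spec.2.2.2.1 c

theorem sg_act (c : ↥C.C₀) (i : Fin 5) :
    ∃ o ∈ Oc C.z, (c : G) * C.e (ac i) * (c : G)⁻¹ = C.e (ac (C.sg c i)) * o ∨
      (c : G) * C.e (ac i) * (c : G)⁻¹ = C.z * C.e (ac (C.sg c i)) * o :=
  C.exists_sigma.choose_spec.2.2.2.2.1 c i

theorem sg_Q (c : ↥C.C₀) {X : SC} (hX : X.2 = (false, false)) :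
    ∃ o ∈ Oc C.z, ∃ Y : SC, Y.2 = (false, false) ∧ (c : G) * C.e X * (c : G)⁻¹ = C.e Y * o :=
  C.exists_sigma.choose_spec.2.2.2.2.2 c X hX

theorem sg_O {o : G} (ho : o ∈ Oc C.z) : C.sg ⟨o, C.O_le ho⟩ = 1 :=
  C.sg_ker.2 ⟨one', rfl, o, ho, by rw [C.e_one, one_mul]⟩

/-- an odd subgroup of `C(z)` invariant under elements covering the four group lies in the core -/
theorem le_O {X : Subgroup G} (hX : X ≤ C.C₀) (ho : Odd (Nat.card X))
    (h : ∀ p r : Bool, ∃ Y : SC, Y.2 = (p, r) ∧ ∀ x ∈ X, C.e Y * x * (C.e Y)⁻¹ ∈ X) : X ≤ Oc C.z := by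
  intro x hx
  set K := (X.subgroupOf C.C₀).map C.sg with hK
  have hodd : Odd (Nat.card (X.subgroupOf C.C₀)) := by
    rwa [Nat.card_congr (subgroupOfEquivOfLe hX).toEquiv]
  have hKo : Odd (Nat.card K) := hodd.of_dvd_nat (card_map_dvd _ _)
  have hKA : K ≤ alternatingGroup (Fin 5) := by
    rintro _ ⟨c, -, rfl⟩; exact Perm.mem_alternatingGroup.2 (C.sg_sign c)
  set c : ↥C.C₀ := ⟨x, hX hx⟩ with hc
  have hcK : C.sg c ∈ K := mem_map_of_mem _ hx
  have hconj : ∀ p r : Bool, (bp τ₁ p * bp τ₂ r) * C.sg c * (bp τ₁ p * bp τ₂ r)⁻¹ ∈ K := by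
    intro p r
    obtain ⟨Y, hY, hY'⟩ := h p r
    refine ⟨⟨C.e Y, C.e_cz Y⟩ * c * ⟨C.e Y, C.e_cz Y⟩⁻¹, hY' x hx, ?_⟩
    rw [map_mul, map_mul, map_inv, C.sg_code, hY]
  have ht : ∀ t : Perm (Fin 5), t * t = 1 → t⁻¹ = t := fun t h => inv_eq_of_mul_eq_one_right h
  have h1 := odd_abelian hKA hKo hcK (hconj true false)
  have h2 := odd_abelian hKA hKo hcK (hconj false true)
  have h3 := odd_abelian hKA hKo hcK (hconj true true)
  simp only [bp, if_true, Bool.false_eq_true, if_false, mul_one, one_mul] at h1 h2 h3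
  rw [ht τ₁ (by decide +kernel)] at h1
  rw [ht τ₂ (by decide +kernel)] at h2
  rw [ht (τ₁ * τ₂) (by decide +kernel)] at h3
  have h15 : C.sg c ^ 15 = 1 := by
    have hd : orderOf (C.sg c) ∣ 60 := by
      have := Subgroup.orderOf_dvd_natCard _ (hKA hcK)
      rwa [nat_card_alternatingGroup, Nat.card_fin] at this
    have ho' : Odd (orderOf (C.sg c)) := hKo.of_dvd_nat (Subgroup.orderOf_dvd_natCard _ hcK)
    exact orderOf_dvd_iff_pow_eq_one.1 (Nat.Coprime.dvd_of_dvd_mul_right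
      (show (orderOf (C.sg c)).Coprime 4 from (Nat.coprime_two_right.2 ho').pow_right 2)
      (show orderOf (C.sg c) ∣ 15 * 4 from hd))
  have h0 := four_free _ (C.sg_sign c) (by simpa [pow_succ, mul_assoc] using h15) h1 h2 h3
  obtain ⟨Y, hY, o, hoO, hxo⟩ := C.sg_ker.1 h0
  change x = C.e Y * o at hxo
  suffices C.e Y = 1 by rw [hxo, this, one_mul]; exact hoO
  have he : qm C.z c = C.eb Y := by
    have : c = ⟨C.e Y, C.e_cz Y⟩ * ⟨o, C.O_le hoO⟩ := Subtype.ext hxo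
    rw [this, map_mul, (mem_Oc.1 hoO).2, mul_one]; rfl
  obtain ⟨i, hi⟩ := IsPGroup.iff_orderOf.1 C.S.2 ⟨C.e Y, C.e_mem Y⟩
  rw [orderOf_mk] at hi
  have hd1 : orderOf (C.eb Y) ∣ 2 ^ i := hi ▸ by
    refine (orderOf_map_dvd _ _).trans (dvd_of_eq ?_)
    rw [← Subgroup.orderOf_coe]
  have hd2 : orderOf (C.eb Y) ∣ Nat.card X := by
    rw [← he]
    refine (orderOf_map_dvd _ _).trans ?_
    rw [← Subgroup.orderOf_coe]
    exact Subgroup.orderOf_dvd_natCard _ hx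
  have h1' : C.eb Y = 1 := orderOf_eq_one_iff.1 (Nat.eq_one_of_dvd_coprimes
    (Nat.Coprime.pow_left i (Nat.coprime_two_left.2 ho)) hd1 hd2)
  exact C.eq_one_of_S_O (C.e_mem Y) (mem_Oc.2 ⟨C.e_cz Y, h1'⟩)

end Ctx

end Cfsg.Lib.JTwoSimple
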