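import Cfsg.Agent.JTwoSimple.Weak
import Cfsg.Agent.LFourType.Closed
import Cfsg.Agent.LFourType.CaseTwo

/-!
Two classes: a subgroup whose Sylow subgroup is `A` has the cores at the centre of `A` in its odd core.
-/

set_option autoImplicit false
set_option linter.unusedSectionVars false
set_option linter.style.haveILetI false
set_option synthInstance.maxSize 4096
set_option synthInstance.maxHeartbeats 400000
set_option maxRecDepth 100000

namespace Cfsg.Lib.JTwoSimple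

open Subgroup
open Cfsg.Lib.JTwoSyl (SC smul' InU vc ac)
open Cfsg.Lib.Walter (Oc)
open Cfsg.Lib.LFourType (Mo mm Coord conj_Oc odd_Oc Oc_le Oc_normalized le_Oc)
open Cfsg.Lib.AltEightType (core core_le odd_core core_normalized le_core odd_sup)

universe u

/-- representatives in `E` modulo `U` -/
def xc : Fin 4 → SC :=
  ![((false, false, false, false, false), false, false), ((false, false, false, false, false), false, true),
    ((false, false, false, false, false), true, false), ((false, false, false, false, false), true, true)]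

/-- representatives in `E'` modulo `U` -/
def yc : Fin 4 → SC :=
  ![((false, false, false, false, false), false, false), ((false, true, false, true, false), false, true),
    ((false, true, false, false, true), true, true), ((false, true, true, false, false), true, false)]

/-- the elements of `U` -/
def zcs : Fin 4 → SC :=
  ![((false, false, false, false, false), false, false), ((true, false, false, false, false), false, false),
    ((false, true, true, true, true), false, false), ((true, true, true, true, true), false, false)]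

/-- the coordinates of `A` -/
def fc (x : Mo) : SC := smul' (smul' (yc x.2.1) (xc x.1)) (zcs x.2.2)

theorem fc_side : ∀ x : Mo, smul' (fc x) (ac 4) = smul' (ac 4) (fc x) ∧
    (x.2.1 = 0 ↔ smul' (fc x) vc = smul' vc (fc x)) ∧
    (x.1 = 0 ↔ smul' (c0 (fc x)) vc = smul' vc (c0 (fc x))) ∧
    (x.1 = 0 ∧ x.2.1 = 0 ↔ InU (fc x)) := by decide +kernel

theorem fc_mul : ∀ x y : Mo, fc (mm x y) = smul' (fc x) (fc y) := by decide +kernel

theorem fc_inj : Function.Injective fc := by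
  intro x y
  revert x y
  decide +kernel

theorem fc_surj : ∀ X : SC, smul' X (ac 4) = smul' (ac 4) X → ∃ x : Mo, fc x = X := by decide +kernel

namespace Ctx

variable {G : Type u} [Group G] [Finite G] (C : Ctx G)
variable (hza : IsConj C.z C.a₄) (hv : ¬ IsConj C.z (C.e vc))
include hza hv

theorem NE'_U {n u : G} (hn : n ∈ normalizer (C.E' : Set G)) (hu : u ∈ C.U) : n * u * n⁻¹ ∈ C.U := by
  set g := C.e (ac 0)
  have hg : g ∈ normalizer (C.A : Set G) := C.S_le_NA (C.e_mem _)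
  have hgE : C.E.map (MulAut.conj g).toMonoidHom = C.E' := rfl
  have hn' : g⁻¹ * n * g ∈ normalizer (C.E : Set G) := by
    refine Cfsg.Lib.ZStarApps.mem_normalizer_of_maps fun x hx => ?_
    obtain ⟨y, hy, e'⟩ := (mem_normalizer_iff.1 hn (g * x * g⁻¹)).1 (hgE.le ⟨x, hx, rfl⟩)
    change g * y * g⁻¹ = _ at e'
    rw [show g⁻¹ * n * g * x * (g⁻¹ * n * g)⁻¹ = g⁻¹ * (n * (g * x * g⁻¹) * n⁻¹) * g by group, ← e',
      show g⁻¹ * (g * y * g⁻¹) * g = y by group]
    exact hy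
  have h1 := C.NE_U hza hv hn' (C.NA_U (inv_mem hg) hu)
  have h2 := C.NA_U hg h1
  rwa [show g * (g⁻¹ * n * g * (g⁻¹ * u * g⁻¹⁻¹) * (g⁻¹ * n * g)⁻¹) * g⁻¹ = n * u * n⁻¹ by group] at h2

/-- the coordinates in a subgroup with Sylow subgroup `A` -/
noncomputable def coordA {M : Subgroup G} (hA : C.A ≤ M)
    (hmax : ∀ P : Subgroup G, IsPGroup 2 P → C.A ≤ P → P ≤ M → P = C.A) : Coord ↥M :=
  have hex : ∃ P : Sylow 2 ↥M, (P : Subgroup ↥M) = C.A.subgroupOf M := by
    haveI : Fact (Nat.Prime 2) := ⟨Nat.prime_two⟩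
    obtain ⟨P, hP⟩ := (C.isPGroup_A.of_equiv (subgroupOfEquivOfLe hA).symm).exists_le_sylow
    refine ⟨P, le_antisymm (fun p hp => ?_) hP⟩
    exact (hmax _ (P.2.map M.subtype) (fun x hx => ⟨⟨x, hA hx⟩, hP hx, rfl⟩) (map_subtype_le _)).le ⟨p, hp, rfl⟩
  { S := hex.choose
    e := fun x => ⟨C.e (fc x), hA (C.mem_A.2 (fc_side x).1)⟩
    e_mul := fun x y => Subtype.ext (by
      show C.e (fc (mm x y)) = C.e (fc x) * C.e (fc y)
      rw [C.e_mul, fc_mul])
    e_inj := fun x y h => fc_inj (C.e_inj (congrArg Subtype.val h))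
    e_range := by
      ext p
      rw [SetLike.mem_coe]
      show _ ↔ p ∈ (hex.choose : Subgroup ↥M)
      rw [hex.choose_spec, mem_subgroupOf]
      constructor
      · rintro ⟨x, rfl⟩; exact C.mem_A.2 (fc_side x).1
      · intro hp
        obtain ⟨X, hX, e'⟩ := C.A_code hp
        obtain ⟨x, rfl⟩ := fc_surj X hX
        exact ⟨x, Subtype.ext e'⟩ }

/-- a subgroup with Sylow subgroup `A` normalises it modulo its odd core -/
theorem core_cover {M : Subgroup G} (hA : C.A ≤ M)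
    (hmax : ∀ P : Subgroup G, IsPGroup 2 P → C.A ≤ P → P ≤ M → P = C.A) {m : G} (hm : m ∈ M) :
    ∃ k ∈ core M, k⁻¹ * m ∈ normalizer (C.A : Set G) := by
  set D := C.coordA hA hmax with hD
  have hDA : D.A = C.E.subgroupOf M := by
    ext p
    rw [mem_subgroupOf]
    constructor
    · rintro ⟨x, hx, rfl⟩; exact C.mem_E.2 ((fc_side x).2.1.1 hx)
    · intro hp
      obtain ⟨X, hX, e'⟩ := C.A_code (C.E_le_A hp)
      obtain ⟨x, rfl⟩ := fc_surj X hX
      exact ⟨x, (fc_side x).2.1.2 (C.mem_E.1 (e' ▸ hp)), Subtype.ext e'⟩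
  have hDB : D.B = C.E'.subgroupOf M := by
    ext p
    rw [mem_subgroupOf]
    constructor
    · rintro ⟨x, hx, rfl⟩; exact C.mem_E'.2 ((fc_side x).2.2.1.1 hx)
    · intro hp
      obtain ⟨X, hX, e'⟩ := C.A_code (C.E'_le_A hp)
      obtain ⟨x, rfl⟩ := fc_surj X hX
      exact ⟨x, (fc_side x).2.2.1.2 (C.mem_E'.1 (e' ▸ hp)), Subtype.ext e'⟩
  set f := QuotientGroup.mk' (Cfsg.oddCore ↥M) with hf
  have hfs : Function.Surjective f := QuotientGroup.mk'_surjective _
  have hker : f.ker = Cfsg.oddCore ↥M := QuotientGroup.ker_mk' _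
  have hk : Odd (Nat.card f.ker) := by rw [hker]; exact Cfsg.Lib.AltEightType.odd_oddCore _
  have hO : Cfsg.oddCore (↥M ⧸ Cfsg.oddCore ↥M) = ⊥ :=
    Cfsg.Lib.Coprime.pPrimeCore_quotient_eq_bot (G := ↥M) (p := 2)
  set D' := D.mapHom f hfs hk with hD'
  have hkK : ∀ p : ↥M, f p = 1 → (p : G) ∈ core M := fun p hp => ⟨p, hker ▸ MonoidHom.mem_ker.2 hp, rfl⟩
  have hKf : ∀ k ∈ core M, ∀ hkM : k ∈ M, f ⟨k, hkM⟩ = 1 := by
    rintro _ ⟨p, hp, rfl⟩ hkM
    exact MonoidHom.mem_ker.1 (hker.ge hp)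
  -- no side is moved in the quotient
  have hstab : ∀ B : Subgroup G, B ≤ C.A → (∀ n ∈ normalizer (B : Set G), ∀ u ∈ C.U, n * u * n⁻¹ ∈ C.U) →
      ∀ n, f n ∈ normalizer (((B.subgroupOf M).map f : Subgroup _) : Set (↥M ⧸ Cfsg.oddCore ↥M)) →
      ∀ u : ↥M, (u : G) ∈ C.U → ∃ u' : ↥M, (u' : G) ∈ C.U ∧ f u' = f n * f u * (f n)⁻¹ := by
    intro B hBA hB n hn u hu
    set Bb := (B.subgroupOf M).map f
    set N1 := ((normalizer (Bb : Set (↥M ⧸ Cfsg.oddCore ↥M))).comap f).map M.subtype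
    obtain ⟨k, hk', hkn⟩ := Cfsg.Lib.AltEightType.decomp_of_normal_mod (C := N1) (A := B) (K := core M)
      (fun k hk => ⟨⟨k, core_le M hk⟩, by
        show f ⟨k, core_le M hk⟩ ∈ normalizer _
        rw [hKf k hk]; exact one_mem _, rfl⟩)
      (fun b hb => ⟨⟨b, hA (hBA hb)⟩, le_normalizer (mem_map_of_mem f (mem_subgroupOf.2 hb)), rfl⟩)
      (odd_core M) (C.isPGroup_A.to_le hBA)
      (by rintro _ ⟨c, -, rfl⟩; exact core_normalized c.2)
      (by
        rintro _ ⟨c, hc, rfl⟩ b hb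
        obtain ⟨b', hb', e'⟩ := (mem_normalizer_iff.1 hc (f ⟨b, hA (hBA hb)⟩)).1
          (mem_map_of_mem f (mem_subgroupOf.2 hb))
        have h1 := hkK (b'⁻¹ * (c * ⟨b, hA (hBA hb)⟩ * c⁻¹)) (by
          rw [map_mul, map_inv, e', map_mul, map_mul, map_inv]; exact inv_mul_cancel _)
        have h2 := mul_mem (mem_sup_left (T := core M) (show (b' : G) ∈ B from mem_subgroupOf.1 hb'))
          (mem_sup_right (S := B) h1)
        rwa [← Subgroup.coe_mul, mul_inv_cancel_left] at h2)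
      (show (n : G) ∈ N1 from ⟨n, hn, rfl⟩)
    have hu' := hB _ hkn _ hu
    refine ⟨⟨_, hA (C.U_le_A hu')⟩, hu', ?_⟩
    have e1 : (⟨k⁻¹ * (n : G) * u * (k⁻¹ * (n : G))⁻¹, hA (C.U_le_A hu')⟩ : ↥M) =
        ⟨k, core_le M hk'⟩⁻¹ * n * u * (⟨k, core_le M hk'⟩⁻¹ * n)⁻¹ := rfl
    rw [e1, map_mul, map_mul, map_inv, map_mul, map_inv, hKf k hk', inv_one, one_mul]
  have hUside : ∀ p : ↥M, (p : G) ∈ C.U → f p ∈ D'.Z := by
    intro p hp
    obtain ⟨X, hX, e'⟩ := C.A_code (C.U_le_A hp)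
    obtain ⟨x, rfl⟩ := fc_surj X hX
    have : p = D.e x := Subtype.ext e'.symm
    rw [this]
    exact D'.mem_Z.2 ((fc_side x).2.2.2.2 (C.mem_U.1 (e' ▸ hp)))
  have hZU : ∀ q ∈ D'.Z, ∃ p : ↥M, (p : G) ∈ C.U ∧ f p = q := by
    intro q hq
    obtain ⟨x, rfl⟩ := D'.exists_coord (D'.Z_le hq)
    exact ⟨D.e x, C.mem_U.2 ((fc_side x).2.2.2.1 (D'.mem_Z.1 hq)), rfl⟩
  have hA' : ¬ D'.Moved := by
    rintro ⟨q, hq, z', hz', hne⟩
    obtain ⟨n, rfl⟩ := hfs q
    obtain ⟨u, hu, rfl⟩ := hZU z' hz'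
    rw [hD', Coord.mapHom_A, hDA] at hq
    obtain ⟨u', hu', e'⟩ := hstab C.E C.E_le_A (fun n hn u hu => C.NE_U hza hv hn hu) n hq u hu
    exact hne (e' ▸ hUside u' hu')
  have hB' : ¬ D'.swap.Moved := by
    rintro ⟨q, hq, z', hz', hne⟩
    rw [Coord.swap_Z] at hz' hne
    obtain ⟨n, rfl⟩ := hfs q
    obtain ⟨u, hu, rfl⟩ := hZU z' hz'
    rw [Coord.swap_A, hD', Coord.mapHom_B, hDB] at hq
    obtain ⟨u', hu', e'⟩ := hstab C.E' C.E'_le_A (fun n hn u hu => C.NE'_U hza hv hn hu) n hq u hu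
    exact hne (e' ▸ hUside u' hu')
  have hnA : D'.A.Normal := Cfsg.Lib.LFourType.caseTwoProp D' hO hB'
  have hnB : D'.B.Normal := by
    have := Cfsg.Lib.LFourType.caseTwoProp D'.swap hO (by
      have : D'.swap.swap.A = D'.A := by rw [Coord.swap_A, Coord.swap_B]
      unfold Cfsg.Lib.LFourType.Coord.Moved
      rw [this, Coord.swap_Z, Coord.swap_Z]
      exact hA')
    rwa [Coord.swap_A] at this
  rw [hD', Coord.mapHom_A, hDA] at hnA
  rw [hD', Coord.mapHom_B, hDB] at hnB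
  have hside : ∀ B : Subgroup G, B ≤ C.A → ((B.subgroupOf M).map f).Normal → ∀ c ∈ M, ∀ b ∈ B,
      c * b * c⁻¹ ∈ C.A ⊔ core M := by
    intro B hBA hn c hc b hb
    obtain ⟨b', hb', e'⟩ := hn.conj_mem _ (mem_map_of_mem f (show (⟨b, hA (hBA hb)⟩ : ↥M) ∈ B.subgroupOf M from
      mem_subgroupOf.2 hb)) (f ⟨c, hc⟩)
    have h1 := hkK (b'⁻¹ * (⟨c, hc⟩ * ⟨b, hA (hBA hb)⟩ * ⟨c, hc⟩⁻¹)) (by
      rw [map_mul, map_inv, e', map_mul, map_mul, map_inv]; exact inv_mul_cancel _)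
    have h2 := mul_mem (mem_sup_left (T := core M) (hBA (mem_subgroupOf.1 hb'))) (mem_sup_right (S := C.A) h1)
    rwa [← Subgroup.coe_mul, mul_inv_cancel_left] at h2
  refine Cfsg.Lib.AltEightType.decomp_of_normal_mod (C := M) (core_le M) hA (odd_core M) C.isPGroup_A
    (fun c hc => core_normalized hc) (fun c hc a ha => ?_) hm
  have hle : C.E ⊔ C.E' ≤ (C.A ⊔ core M).comap (MulAut.conj c).toMonoidHom :=
    sup_le (fun b hb => hside C.E C.E_le_A hnA c hc b hb) (fun b hb => hside C.E' C.E'_le_A hnB c hc b hb)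
  exact hle (C.A_le_sup ha)

/-- **the cores lie in the odd core** -/
theorem odd_W_of_sylow_A {M : Subgroup G} (hA : C.A ≤ M) (hW : C.W ≤ M)
    (hmax : ∀ P : Subgroup G, IsPGroup 2 P → C.A ≤ P → P ≤ M → P = C.A) : Odd (Nat.card C.W) := by
  haveI : Fact (Nat.Prime 2) := ⟨Nat.prime_two⟩
  suffices C.W ≤ core M from (odd_core M).of_dvd_nat (card_dvd_of_le this)
  set K := core M
  -- odd elements centralising `A`
  set D := C.FA ⊓ centralizer (C.A : Set G) ⊓ M with hD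
  have hDN : ∀ n ∈ M, n ∈ normalizer (C.A : Set G) → n ∈ normalizer (D : Set G) := by
    intro n hn hnA
    refine Cfsg.Lib.ZStarApps.mem_normalizer_of_maps fun d hd => ?_
    obtain ⟨⟨hdF, hdA⟩, hdM⟩ := hd
    have hcA : n * d * n⁻¹ ∈ centralizer (C.A : Set G) := mem_centralizer_iff.2 fun a ha => by
      have h := mem_centralizer_iff.1 hdA _ ((mem_normalizer_iff.1 (inv_mem hnA) a).1 ha)
      calc a * (n * d * n⁻¹) = n * (n⁻¹ * a * n⁻¹⁻¹ * d) * n⁻¹ := by group
        _ = n * d * n⁻¹ * a := by rw [h]; group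
    refine mem_inf.2 ⟨mem_inf.2 ⟨C.mem_FA_of_odd hza hv (centralizer_le C.E_le_A hcA) ?_, hcA⟩,
      M.mul_mem (M.mul_mem hn hdM) (M.inv_mem hn)⟩
    rw [show n * d * n⁻¹ = MulAut.conj n d from rfl, MulEquiv.orderOf_eq]
    exact Cfsg.Lib.LFourType.odd_orderOf C.odd_FA hdF
  have hDo : Odd (Nat.card D) := C.odd_FA.of_dvd_nat (card_dvd_of_le (inf_le_left.trans inf_le_left))
  have hDK : D ≤ K := le_sup_right.trans (le_core (H := M) (U := K ⊔ D) (sup_le (core_le M) inf_le_right)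
    (fun m hm u hu => by
      obtain ⟨k, hk, hkm⟩ := C.core_cover hza hv hA hmax hm
      have h1 : k⁻¹ * m ∈ normalizer ((K ⊔ D : Subgroup G) : Set G) :=
        Cfsg.Lib.LFourType.mem_normalizer_sup (core_normalized (mul_mem (inv_mem (core_le M hk)) hm))
          (hDN _ (mul_mem (inv_mem (core_le M hk)) hm) hkm)
      have h2 : m ∈ normalizer ((K ⊔ D : Subgroup G) : Set G) := by
        rw [show m = k * (k⁻¹ * m) by group]
        exact mul_mem (le_normalizer (mem_sup_left hk)) h1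
      exact (mem_normalizer_iff.1 h2 u).1 hu)
    (odd_sup (odd_core M) hDo fun d hd => core_normalized hd.2))
  refine iSup_le fun ⟨u, hu, hu1⟩ x hx => ?_
  have hxM : x ∈ M := hW (C.Oc_le_W hu hu1 hx)
  have hAO : C.A ≤ normalizer (Oc u : Set G) := fun a ha => Oc_normalized (C.A_le_cent hu ha)
  set N := K ⊓ Oc u with hN
  have hAN : C.A ≤ normalizer (N : Set G) := fun a ha =>
    Cfsg.Lib.LFourType.mem_normalizer_inf (core_normalized (hA ha)) (hAO ha)
  have hxN : x ∈ normalizer (N : Set G) :=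
    Cfsg.Lib.LFourType.mem_normalizer_inf (core_normalized hxM) (le_normalizer hx)
  have hcop : (Nat.card C.A).Coprime (Nat.card N) := by
    rw [C.card_A, show (64 : ℕ) = 2 ^ 6 from rfl]
    exact (Nat.coprime_two_left.2 ((odd_Oc u).of_dvd_nat (card_dvd_of_le inf_le_right))).pow_left 6
  have hsol : Group.IsSolvable C.A := by
    haveI := C.isPGroup_A.isNilpotent
    infer_instance
  obtain ⟨n, hn, hc⟩ := Cfsg.Lib.Coprime.exists_fixed_of_commutator_mem hAN hcop (Or.inl hsol) hxN (fun a ha => by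
    set w := a * x * a⁻¹ * x⁻¹ with hw
    have hwO : w ∈ Oc u := mul_mem ((mem_normalizer_iff.1 (hAO ha) x).1 hx) (inv_mem hx)
    refine ⟨?_, hwO⟩
    -- the commutator is an odd element of `A ⊔ K`
    obtain ⟨k, hk, hkx⟩ := C.core_cover hza hv hA hmax hxM
    have h1 : w ∈ C.A ⊔ K := by
      rw [hw, show a * x * a⁻¹ * x⁻¹ = a * (k * ((k⁻¹ * x) * a⁻¹ * (k⁻¹ * x)⁻¹) * k⁻¹) by group]
      exact mul_mem (mem_sup_left ha) (mul_mem (mul_mem (mem_sup_right hk)
        (mem_sup_left ((mem_normalizer_iff.1 hkx a⁻¹).1 (inv_mem ha)))) (mem_sup_right (inv_mem hk)))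
    haveI : (K.subgroupOf M).Normal :=
      (normal_subgroupOf_iff_le_normalizer (core_le M)).2 fun m hm => core_normalized hm
    obtain ⟨a', ha', k', hk', e'⟩ : ∃ a' ∈ C.A, ∃ k' ∈ K, a' * k' = w := by
      rw [← SetLike.mem_coe, coe_mul_of_left_le_normalizer_right _ _ (fun a ha => core_normalized (hA ha))] at h1
      exact h1
    set q := QuotientGroup.mk' (K.subgroupOf M)
    have hwM : w ∈ M := e' ▸ mul_mem (hA ha') (core_le M hk')
    have hk1 : q ⟨k', core_le M hk'⟩ = 1 := (QuotientGroup.eq_one_iff _).2 (mem_subgroupOf.2 hk')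
    have hq : q ⟨w, hwM⟩ = q ⟨a', hA ha'⟩ := by
      rw [show (⟨w, hwM⟩ : ↥M) = ⟨a', hA ha'⟩ * ⟨k', core_le M hk'⟩ from Subtype.ext e'.symm, map_mul,
        hk1, mul_one]
    have hd1 : orderOf (q ⟨w, hwM⟩) ∣ Nat.card (Oc u) :=
      (orderOf_map_dvd _ _).trans ((dvd_of_eq (Subgroup.orderOf_mk _ _)).trans (Subgroup.orderOf_dvd_natCard _ hwO))
    have hd2 : orderOf (q ⟨w, hwM⟩) ∣ 2 ^ 6 := by
      rw [hq, show (2 : ℕ) ^ 6 = 64 from rfl, ← C.card_A]
      exact (orderOf_map_dvd _ _).trans ((dvd_of_eq (Subgroup.orderOf_mk _ _)).trans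
        (Subgroup.orderOf_dvd_natCard _ ha'))
    exact mem_subgroupOf.1 ((QuotientGroup.eq_one_iff _).1 (orderOf_eq_one_iff.1
      (Nat.eq_one_of_dvd_coprimes ((Nat.coprime_two_left.2 (odd_Oc u)).pow_left 6).symm hd1 hd2))))
  have hxn : x * n ∈ D := ⟨⟨C.mem_FA_of_odd hza hv (centralizer_le C.E_le_A hc)
    (Cfsg.Lib.LFourType.odd_orderOf (odd_Oc u) (mul_mem hx hn.2)), hc⟩, mul_mem hxM (core_le M hn.1)⟩
  have := mul_mem (hDK hxn) (inv_mem hn.1)
  rwa [mul_inv_cancel_right] at this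

end Ctx

end Cfsg.Lib.JTwoSimple
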