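import Cfsg.Agent.JTwoSimple.Control
import Cfsg.Agent.LFourType.Functor
import Mathlib.GroupTheory.SchurZassenhaus
import Mathlib.GroupTheory.Nilpotent

/-!
Two classes of involutions: weak balance at the elements of `E`.
-/

set_option autoImplicit false
set_option linter.unusedSectionVars false
set_option linter.style.haveILetI false
set_option synthInstance.maxSize 4096
set_option synthInstance.maxHeartbeats 400000
set_option maxRecDepth 100000

namespace Cfsg.Lib.JTwoSimple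

open Subgroup
open Cfsg.Lib.JTwoSyl (SC smul' InU vc ac)
open Cfsg.Lib.Walter (Oc)
open Cfsg.Lib.LFourType (Dl Dl_le Dl_le_cent le_Dl odd_Dl cent_le_normalizer_Dl mem_normalizer_inf conj_Oc odd_Oc
  Oc_le Oc_normalized le_Oc)
open Cfsg.Lib.AltEightType (core core_le odd_core core_normalized le_core odd_sup)

universe u

theorem e_cosets : ∀ a : SC, smul' a vc = smul' vc a → ¬ InU a → ∀ x : SC, smul' x vc = smul' vc x → ¬ InU x →
    ¬ InU (smul' a x) → ∀ y : SC, smul' y vc = smul' vc y → ¬ InU y → ¬ InU (smul' a y) →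
    InU (smul' x y) ∨ InU (smul' (smul' a x) y) := by decide +kernel

theorem vc_not_U : ¬ InU vc := by decide +kernel

namespace Ctx

variable {G : Type u} [Group G] [Finite G] (C : Ctx G)

theorem vc_E : C.e vc ∈ C.E := C.mem_E.2 rfl

theorem vc_notU : C.e vc ∉ C.U := fun h => vc_not_U (C.mem_U.1 h)

theorem E_le_cent : C.E ≤ centralizer (C.E : Set G) :=
  fun _ hx => mem_centralizer_iff.2 fun _ hy => (C.E_comm hy hx).eq

theorem E_le_cent_one {a : G} (ha : a ∈ C.E) : C.E ≤ centralizer ({a} : Set G) :=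
  fun _ hx => mem_centralizer_singleton_iff.2 (C.E_comm hx ha).eq

theorem coset_cases {a x y : G} (ha : a ∈ C.E) (haU : a ∉ C.U) (hx : x ∈ C.E) (hxU : x ∉ C.U) (hax : a * x ∉ C.U)
    (hy : y ∈ C.E) (hyU : y ∉ C.U) (hay : a * y ∉ C.U) : x * y ∈ C.U ∨ a * x * y ∈ C.U := by
  obtain ⟨A', hA, rfl⟩ := C.E_code ha
  obtain ⟨X, hX, rfl⟩ := C.E_code hx
  obtain ⟨Y, hY, rfl⟩ := C.E_code hy
  simp only [C.e_mul, C.mem_U] at haU hxU hax hyU hay ⊢
  exact e_cosets A' hA haU X hX hxU hax Y hY hyU hay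

variable (hza : IsConj C.z C.a₄) (hv : ¬ IsConj C.z (C.e vc))
include hza hv

theorem NE_U {n u : G} (hn : n ∈ normalizer (C.E : Set G)) (hu : u ∈ C.U) : n * u * n⁻¹ ∈ C.U := by
  by_cases hu1 : u = 1
  · rw [hu1, mul_one, mul_inv_cancel]; exact one_mem _
  by_contra h
  obtain ⟨m, -, -, hm⟩ := C.exists_NA hza hu hu1
  exact hv ((isConj_iff.2 ⟨m, hm⟩).trans ((isConj_iff.2 ⟨n, rfl⟩).trans
    (C.outer_conj ((mem_normalizer_iff.1 hn u).1 (C.U_le_E hu)) h)))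

theorem NE_W : normalizer (C.E : Set G) ≤ normalizer (C.W : Set G) := fun _ hn =>
  C.W_normalized fun _ hu => C.NE_U hza hv hn hu

theorem NE_outer {n x : G} (hn : n ∈ normalizer (C.E : Set G)) (hxU : x ∉ C.U) : n * x * n⁻¹ ∉ C.U := fun h => hxU (by
  have := C.NE_U hza hv (inv_mem hn) h
  rwa [show n⁻¹ * (n * x * n⁻¹) * n⁻¹⁻¹ = x by group] at this)

/-- `E` is a Sylow subgroup of the centralisers of its outer elements -/
theorem eq_E_of_le {a : G} (ha : a ∈ C.E) (haU : a ∉ C.U) {P : Subgroup G} (hP : IsPGroup 2 P) (hEP : C.E ≤ P)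
    (hPa : P ≤ centralizer ({a} : Set G)) : P = C.E := by
  haveI : Fact (Nat.Prime 2) := ⟨Nat.prime_two⟩
  have key : ∀ p ∈ P, p ∈ normalizer (C.E : Set G) → p ∈ C.E := by
    intro p hp hpE
    have hT : IsPGroup 2 ↥(C.E ⊔ zpowers p) := hP.to_le (sup_le hEP (zpowers_le.2 hp))
    obtain ⟨g, hg⟩ := Cfsg.Lib.InvolCalc.exists_conj_le C.S hT
    have hsub : C.E.map (MulAut.conj g⁻¹).toMonoidHom ≤ (C.S : Subgroup G) := by
      rintro _ ⟨x, hx, rfl⟩
      simpa using hg x (mem_sup_left hx)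
    obtain ⟨n, hn, hnp⟩ : ∃ n ∈ normalizer (C.E : Set G), n * p * n⁻¹ ∈ (C.S : Subgroup G) := by
      have hgp : g⁻¹ * p * g⁻¹⁻¹ ∈ (C.S : Subgroup G) := by simpa using hg p (mem_sup_right (mem_zpowers p))
      rcases C.sixteen hsub (by rw [card_map_of_injective (MulEquiv.injective _), C.card_E])
        (by rintro _ ⟨x, hx, rfl⟩; show MulAut.conj _ x * MulAut.conj _ x = 1; rw [← map_mul, C.E_sq hx, map_one])
        with e' | e'
      · exact ⟨g⁻¹, mem_normalizer_iff_map_conj_eq.2 e', hgp⟩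
      · refine ⟨C.e (ac 0) * g⁻¹, mem_normalizer_iff_map_conj_eq.2 ?_, ?_⟩
        · calc C.E.map (MulAut.conj (C.e (ac 0) * g⁻¹)).toMonoidHom
              = (C.E.map (MulAut.conj g⁻¹).toMonoidHom).map (MulAut.conj (C.e (ac 0))).toMonoidHom := by
                rw [Subgroup.map_map]; congr 1; ext y; simp [mul_assoc]
            _ = C.E := by rw [e', C.map_E']
        · rw [show C.e (ac 0) * g⁻¹ * p * (C.e (ac 0) * g⁻¹)⁻¹ =
            C.e (ac 0) * (g⁻¹ * p * g⁻¹⁻¹) * (C.e (ac 0))⁻¹ by group]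
          exact mul_mem (mul_mem (C.e_mem _) hgp) (inv_mem (C.e_mem _))
    have := C.cent_out ((mem_normalizer_iff.1 hn a).1 ha) (C.NE_outer hza hv hn haU) hnp
      ((show Commute p a from mem_centralizer_singleton_iff.1 (hPa hp)).map (MulAut.conj n).toMonoidHom)
    exact (mem_normalizer_iff.1 hn p).2 this
  refine le_antisymm ?_ hEP
  haveI : Group.IsNilpotent ↥P := hP.isNilpotent
  have hNC : NormalizerCondition ↥P := Group.normalizerCondition_of_isNilpotent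
  rw [normalizerCondition_iff_only_full_group_self_normalizing] at hNC
  refine subgroupOf_eq_top.1 (hNC (C.E.subgroupOf P) (le_antisymm (fun p hp => ?_) le_normalizer))
  refine key p p.2 (mem_normalizer_iff.2 fun x => ⟨fun hx => ?_, fun hx => ?_⟩)
  · exact ((mem_normalizer_iff.1 hp) ⟨x, hEP hx⟩).1 hx
  · have hxP : x ∈ P := by
      have := mul_mem (mul_mem (inv_mem p.2) (hEP hx)) p.2
      rwa [show (p : G)⁻¹ * ((p : G) * x * (p : G)⁻¹) * (p : G) = x by group] at this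
    exact ((mem_normalizer_iff.1 hp) ⟨x, hxP⟩).2 hx

theorem exists_sylow_cent {a : G} (ha : a ∈ C.E) (haU : a ∉ C.U) {H : Subgroup G} (hEH : C.E ≤ H)
    (hHa : H ≤ centralizer ({a} : Set G)) : ∃ P : Sylow 2 ↥H, (P : Subgroup ↥H) = C.E.subgroupOf H := by
  obtain ⟨P, hP⟩ := (C.isPGroup_E.of_equiv (subgroupOfEquivOfLe hEH).symm).exists_le_sylow
  refine ⟨P, le_antisymm (fun p hp => ?_) hP⟩
  have h := C.eq_E_of_le hza hv ha haU (P.2.map H.subtype) (fun x hx => ⟨⟨x, hEH hx⟩, hP hx, rfl⟩)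
    ((map_subtype_le _).trans hHa)
  exact h.le ⟨p, hp, rfl⟩

omit hza hv in
/-- the odd core of `C(E)` -/
def FA : Subgroup G := core (centralizer (C.E : Set G))

omit hza hv in
theorem FA_le : C.FA ≤ centralizer (C.E : Set G) := core_le _

omit hza hv in
theorem odd_FA : Odd (Nat.card C.FA) := odd_core _

omit hza hv in
theorem FA_comm {f a : G} (hf : f ∈ C.FA) (ha : a ∈ C.E) : Commute a f := mem_centralizer_iff.1 (C.FA_le hf) a ha

omit hza hv in
theorem conj_FA {n f : G} (hn : n ∈ normalizer (C.E : Set G)) (hf : f ∈ C.FA) : n * f * n⁻¹ ∈ C.FA := by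
  set K := centralizer (C.E : Set G) with hK
  have hKn : ∀ m ∈ normalizer (C.E : Set G), ∀ x ∈ K, m * x * m⁻¹ ∈ K := fun m hm x hx =>
    mem_centralizer_iff.2 fun a ha => by
      have h := mem_centralizer_iff.1 hx _ ((mem_normalizer_iff.1 (inv_mem hm) a).1 ha)
      calc a * (m * x * m⁻¹) = m * (m⁻¹ * a * m⁻¹⁻¹ * x) * m⁻¹ := by group
        _ = m * x * m⁻¹ * a := by rw [h]; group
  refine (le_core (H := K) (U := C.FA.map (MulAut.conj n).toMonoidHom) ?_ ?_ ?_) ⟨f, hf, rfl⟩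
  · rintro _ ⟨x, hx, rfl⟩; exact hKn n hn x (C.FA_le hx)
  · rintro k hk _ ⟨x, hx, rfl⟩
    refine ⟨n⁻¹ * k * n⁻¹⁻¹ * x * (n⁻¹ * k * n⁻¹⁻¹)⁻¹,
      (mem_normalizer_iff.1 (core_normalized (hKn n⁻¹ (inv_mem hn) k hk)) x).1 hx, ?_⟩
    simp only [MulEquiv.coe_toMonoidHom, MulAut.conj_apply]; group
  · rw [card_map_of_injective (MulEquiv.injective _)]; exact C.odd_FA

theorem mem_FA_of_odd {x : G} (hx : x ∈ centralizer (C.E : Set G)) (ho : Odd (orderOf x)) : x ∈ C.FA := by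
  haveI : Fact (Nat.Prime 2) := ⟨Nat.prime_two⟩
  set K := centralizer (C.E : Set G)
  obtain ⟨P, hP⟩ := C.exists_sylow_cent hza hv C.vc_E C.vc_notU C.E_le_cent
    (centralizer_le (Set.singleton_subset_iff.2 C.vc_E))
  have hPc : normalizer ((P : Subgroup K) : Set K) ≤ centralizer ((P : Subgroup K) : Set K) := fun y _ =>
    mem_centralizer_iff.2 fun p hp => Subtype.ext
      (mem_centralizer_iff.1 y.2 _ (show (p : G) ∈ C.E from mem_subgroupOf.1 (hP.le hp)))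
  obtain ⟨N, hN, hcard, -⟩ := Cfsg.Lib.PermGen.burnside_complement P hPc
  haveI := hN
  have hP16 : Nat.card (P : Subgroup K) = 16 := by
    rw [hP, Nat.card_congr (subgroupOfEquivOfLe C.E_le_cent).toEquiv, C.card_E]
  have hNi : N.index = 16 := by
    have h1 := N.card_mul_index
    rw [← hcard, hP16] at h1
    exact Nat.eq_of_mul_eq_mul_left Nat.card_pos h1
  have hodd : Odd (Nat.card N) := Nat.not_even_iff_odd.1 fun he => P.not_dvd_index (by
    have h2 := (P : Subgroup K).card_mul_index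
    rw [hP16, ← hcard, hP16] at h2
    rw [show (P : Subgroup K).index = Nat.card N by omega]
    exact even_iff_two_dvd.1 he)
  have h1 : (⟨x, hx⟩ : K) ^ 16 ∈ N := hNi ▸ N.pow_index_mem _
  have h2 : (⟨x, hx⟩ : K) ∈ zpowers ((⟨x, hx⟩ : K) ^ 16) := mem_zpowers_pow_iff.mpr (by
    rw [Subgroup.orderOf_mk]
    exact (Nat.coprime_two_left.2 ho).pow_left 4)
  exact ⟨⟨x, hx⟩, Cfsg.Lib.AltEightType.le_oddCore hodd (zpowers_le.2 h1 h2), rfl⟩

/-- elements of `E` isolated in the centraliser of an outer element -/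
theorem exists_fix {a : G} (ha : a ∈ C.E) (haU : a ∉ C.U) :
    ∃ F ≤ C.E, 4 ≤ Nat.card F ∧
      ∀ f ∈ F, ∀ g ∈ centralizer ({a} : Set G), ∃ k ∈ Oc a, k⁻¹ * g ∈ centralizer ({f} : Set G) := by
  classical
  haveI : Fact (Nat.Prime 2) := ⟨Nat.prime_two⟩
  set H := centralizer ({a} : Set G) with hH
  have hEH : C.E ≤ H := C.E_le_cent_one ha
  obtain ⟨P, hP⟩ := C.exists_sylow_cent hza hv ha haU hEH le_rfl
  set K := H ⊓ normalizer (C.E : Set G) with hK
  have hEK : C.E ≤ K := le_inf hEH le_normalizer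
  haveI : (C.E.subgroupOf K).Normal := (normal_subgroupOf_iff_le_normalizer hEK).2 inf_le_right
  have hodd : Odd (C.E.subgroupOf K).index := by
    have h1 : Odd (C.E.relIndex H) := by
      rw [relIndex, ← hP, Nat.odd_iff]
      have := P.not_dvd_index
      omega
    exact h1.of_dvd_nat (Dvd.intro _ (relIndex_mul_relIndex _ _ _ hEK inf_le_left))
  obtain ⟨K', hK'⟩ := exists_right_complement'_of_coprime (N := C.E.subgroupOf K) (by
    rw [Nat.card_congr (subgroupOfEquivOfLe hEK).toEquiv, C.card_E]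
    exact (Nat.coprime_two_left.2 hodd).pow_left 4)
  set K₀ := K'.map K.subtype with hK₀
  have hK₀K : K₀ ≤ K := map_subtype_le _
  have hK₀o : Odd (Nat.card K₀) := by
    rw [hK₀, card_map_of_injective K.subtype_injective, ← hK'.symm.index_eq_card]
    exact hodd
  -- elements of `K₀` fix every coset of `U`
  have haC : ∀ k ∈ K, k * a * k⁻¹ = a := fun k hk => by
    rw [mem_centralizer_singleton_iff.1 hk.1, mul_inv_cancel_right]
  have hinv : ∀ {x : G}, x ∈ C.E → x⁻¹ = x := fun hx => inv_eq_of_mul_eq_one_right (C.E_sq hx)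
  let T : Subgroup G :=
    { carrier := {k | k ∈ K ∧ ∀ x ∈ C.E, k * x * k⁻¹ * x⁻¹ ∈ C.U}
      one_mem' := ⟨one_mem _, fun x _ => by simp⟩
      mul_mem' := by
        rintro k l ⟨hk, hk'⟩ ⟨hl, hl'⟩
        refine ⟨K.mul_mem hk hl, fun x hx => ?_⟩
        rw [show k * l * x * (k * l)⁻¹ * x⁻¹ = k * (l * x * l⁻¹ * x⁻¹) * k⁻¹ * (k * x * k⁻¹ * x⁻¹) by group]
        exact mul_mem (C.NE_U hza hv hk.2 (hl' x hx)) (hk' x hx)
      inv_mem' := by
        rintro k ⟨hk, hk'⟩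
        refine ⟨K.inv_mem hk, fun x hx => ?_⟩
        have h := hk' _ ((mem_normalizer_iff.1 (inv_mem hk.2) x).1 hx)
        rw [show k⁻¹ * x * k⁻¹⁻¹ * x⁻¹ = (k * (k⁻¹ * x * k⁻¹⁻¹) * k⁻¹ * (k⁻¹ * x * k⁻¹⁻¹)⁻¹)⁻¹ by group]
        exact inv_mem h }
  have hsq : ∀ k ∈ K, k * k ∈ T := by
    intro k hk
    refine ⟨K.mul_mem hk hk, fun x hx => ?_⟩
    have hkk : k * k ∈ K := K.mul_mem hk hk
    rw [hinv hx]
    by_cases hxU : x ∈ C.U
    · exact mul_mem (C.NE_U hza hv hkk.2 hxU) hxU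
    by_cases hax : a * x ∈ C.U
    · have h1 := mul_mem (C.NE_U hza hv hkk.2 hax) hax
      rwa [conj_mul', haC _ hkk, mul_assoc, ← mul_assoc (k * k * x * (k * k)⁻¹),
        (C.E_comm ((mem_normalizer_iff.1 hkk.2 x).1 hx) ha).eq, ← mul_assoc, ← mul_assoc, C.E_sq ha, one_mul] at h1
    set y := k * x * k⁻¹ with hy
    have hyE : y ∈ C.E := (mem_normalizer_iff.1 hk.2 x).1 hx
    set w := k * y * k⁻¹ with hw
    have hwE : w ∈ C.E := (mem_normalizer_iff.1 hk.2 y).1 hyE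
    rw [show k * k * x * (k * k)⁻¹ = w by rw [hw, hy]; group]
    have hyU : y ∉ C.U := C.NE_outer hza hv hk.2 hxU
    have hay : a * y ∉ C.U := by
      have := C.NE_outer hza hv hk.2 hax
      rwa [conj_mul', haC k hk, ← hy] at this
    rcases C.coset_cases ha haU hx hxU hax hyE hyU hay with h | h
    · have h1 := C.NE_U hza hv hk.2 h
      rw [conj_mul', ← hy, ← hw] at h1
      have h2 := mul_mem h1 h
      rwa [(C.E_comm hyE hwE).eq, mul_assoc, ← mul_assoc y, (C.E_comm hyE hx).eq, mul_assoc x, C.E_sq hyE, mul_one]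
        at h2
    · have h1 := C.NE_U hza hv hk.2 h
      rw [conj_mul', conj_mul', haC k hk, ← hy, ← hw] at h1
      have h2 := mul_mem h1 h
      have e' : a * y * w * (a * x * y) = w * x := by
        have c1 : a * y * w = w * (a * y) := (C.E_comm (mul_mem ha hyE) hwE).eq
        have c2 : x * y = y * x := (C.E_comm hx hyE).eq
        rw [c1, mul_assoc w, mul_assoc a x y, c2, ← mul_assoc a y x, ← mul_assoc (a * y),
          C.E_sq (mul_mem ha hyE), one_mul]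
      rwa [e'] at h2
  have hT : K₀ ≤ T := fun k hk =>
    Cfsg.Lib.LFourType.sq_mem_imp (Cfsg.Lib.LFourType.odd_orderOf hK₀o hk) (hsq k (hK₀K hk))
  set F := C.E ⊓ centralizer (K₀ : Set G) with hF
  -- every coset of `U` meets `F`
  have hcover : ∀ x ∈ C.E, ∃ u ∈ C.U, x * u ∈ F := by
    intro x hx
    have hN : K₀ ≤ normalizer (C.U : Set G) := fun k hk =>
      Cfsg.Lib.ZStarApps.mem_normalizer_of_maps fun u hu => C.NE_U hza hv (hK₀K hk).2 hu
    have hsol : Group.IsSolvable K₀ := Cfsg.Agent.PF.isSolvable_of_odd _ hK₀o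
    obtain ⟨u, hu, hxu⟩ := Cfsg.Lib.Coprime.exists_fixed_of_commutator_mem hN
      (by rw [C.card_U]; exact (Nat.coprime_two_right.2 hK₀o).pow_right 2) (Or.inl hsol) (k := x)
      (Cfsg.Lib.ZStarApps.mem_normalizer_of_maps fun u hu => by
        rwa [(C.E_comm hx (C.U_le_E hu)).eq, mul_inv_cancel_right])
      (fun k hk => (hT hk).2 x hx)
    exact ⟨u, hu, mul_mem hx (C.U_le_E hu), hxu⟩
  have h4 : 4 ≤ Nat.card F := by
    have hs : Function.Surjective (fun p : F × C.U =>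
        (⟨p.1 * p.2, mul_mem p.1.2.1 (C.U_le_E p.2.2)⟩ : C.E)) := by
      rintro ⟨x, hx⟩
      obtain ⟨u, hu, hxu⟩ := hcover x hx
      exact ⟨(⟨x * u, hxu⟩, ⟨u⁻¹, inv_mem hu⟩), Subtype.ext (by simp)⟩
    have := Nat.card_le_card_of_surjective _ hs
    rw [Nat.card_prod, C.card_E, C.card_U] at this
    omega
  refine ⟨F, inf_le_left, h4, fun f hf g hg => ?_⟩
  -- `F` is centralised by `K`
  have hFK : ∀ k ∈ K, k * f * k⁻¹ = f := by
    intro k hk
    obtain ⟨⟨⟨e, he⟩, ⟨k₀, hk₀⟩⟩, hek⟩ := hK'.2 ⟨k, hk⟩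
    have hek' : (e : G) * (k₀ : G) = k := congrArg Subtype.val hek
    have he' : (e : G) ∈ C.E := he
    have hk₀' : (k₀ : G) ∈ K₀ := ⟨k₀, hk₀, rfl⟩
    rw [← hek', show (e : G) * k₀ * f * ((e : G) * k₀)⁻¹ = e * ((k₀ : G) * f * (k₀ : G)⁻¹) * (e : G)⁻¹ by group,
      mem_centralizer_iff.1 hf.2 _ hk₀', mul_inv_cancel_right, (C.E_comm he' hf.1).eq, mul_inv_cancel_right]
  haveI : IsMulCommutative (P : Subgroup H) := ⟨⟨fun p q => Subtype.ext (Subtype.ext
    (C.E_comm (mem_subgroupOf.1 (hP.le p.2)) (mem_subgroupOf.1 (hP.le q.2))).eq)⟩⟩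
  have hfus : ∀ h ∈ H, h * f * h⁻¹ ∈ C.E → h * f * h⁻¹ = f := by
    intro h hh hhE
    set h' : H := ⟨h⁻¹, inv_mem hh⟩
    obtain ⟨n, hn, e'⟩ := P.conj_eq_normalizer_conj_of_mem (⟨f, hEH hf.1⟩ : H) h'
      (hP.ge (mem_subgroupOf.2 hf.1)) (hP.ge (mem_subgroupOf.2 (show h⁻¹⁻¹ * f * h⁻¹ ∈ C.E by rwa [inv_inv])))
    have hnE : (n : G) ∈ normalizer (C.E : Set G) := Cfsg.Lib.ZStarApps.mem_normalizer_of_maps fun x hx =>
      mem_subgroupOf.1 (hP.le ((mem_normalizer_iff.1 hn ⟨x, hEH hx⟩).1 (hP.ge (mem_subgroupOf.2 hx))))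
    have e'' : h⁻¹⁻¹ * f * h⁻¹ = (n : G)⁻¹ * f * (n : G) := congrArg Subtype.val e'
    rw [inv_inv] at e''
    have := hFK (n : G)⁻¹ (inv_mem ⟨n.2, hnE⟩)
    rwa [inv_inv, ← e''] at this
  by_cases hf1 : f = 1
  · exact ⟨1, one_mem _, by simp [hf1, mem_centralizer_singleton_iff]⟩
  obtain ⟨k, hk, hk'⟩ := Cfsg.Lib.AltEightType.isolated_of_commuting (hEH hf.1)
    (Cfsg.Lib.InvolCalc.order_two_of_mul_self (C.E_sq hf.1) hf1) (fun g hg hc => by
      set t := g * f * g⁻¹ with ht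
      have htt : t * t = 1 := Cfsg.Lib.JTwoSyl.conj_sq_one (C.E_sq hf.1)
      have hT' : IsPGroup 2 ↥(zpowers f ⊔ zpowers t) :=
        (Cfsg.Lib.LFourType.isPGroup_zpowers_sq (C.E_sq hf.1)).to_sup_of_normal_right'
          (Cfsg.Lib.LFourType.isPGroup_zpowers_sq htt)
          ((zpowers_le.2 (mem_centralizer_iff.2 fun y hy => by
            obtain ⟨i, rfl⟩ := mem_zpowers_iff.1 hy
            exact (hc.symm.zpow_left i).eq)).trans (centralizer_le_normalizer _))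
      have htH : zpowers f ⊔ zpowers t ≤ H :=
        sup_le (zpowers_le.2 (hEH hf.1)) (zpowers_le.2 (H.mul_mem (H.mul_mem hg (hEH hf.1)) (H.inv_mem hg)))
      obtain ⟨c, hc'⟩ := Cfsg.Lib.InvolCalc.exists_conj_le P (hT'.of_equiv (subgroupOfEquivOfLe htH).symm)
      have h1 : (c : G)⁻¹ * f * (c : G) ∈ C.E :=
        mem_subgroupOf.1 (hP.le (hc' ⟨f, hEH hf.1⟩ (mem_sup_left (mem_zpowers f))))
      have h2 : (c : G)⁻¹ * t * (c : G) ∈ C.E :=
        mem_subgroupOf.1 (hP.le (hc' ⟨t, htH (mem_sup_right (mem_zpowers t))⟩ (mem_sup_right (mem_zpowers t))))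
      have e1 := hfus _ (H.inv_mem c.2) (by rwa [inv_inv])
      have e2 := hfus _ (H.mul_mem (H.inv_mem c.2) hg) (by
        rwa [show (c : G)⁻¹ * g * f * ((c : G)⁻¹ * g)⁻¹ = (c : G)⁻¹ * t * c by rw [ht]; group])
      calc t = (c : G) * ((c : G)⁻¹ * g * f * ((c : G)⁻¹ * g)⁻¹) * (c : G)⁻¹ := by rw [ht]; group
        _ = (c : G) * ((c : G)⁻¹ * f * (c : G)⁻¹⁻¹) * (c : G)⁻¹ := by rw [e2, e1]
        _ = f := by group) hg
  exact ⟨k, le_Oc (core_le _) (fun c hc => core_normalized hc) (odd_core _) hk, hk'⟩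

omit hza hv in
/-- the part of a core fixed by an outer element -/
theorem inf_cent_le_Oc {a f : G}
    (hdec : ∀ g ∈ centralizer ({a} : Set G), ∃ k ∈ Oc a, k⁻¹ * g ∈ centralizer ({f} : Set G)) :
    Oc f ⊓ centralizer ({a} : Set G) ≤ Oc a := by
  set Y := Oc f ⊓ centralizer ({a} : Set G)
  have hY : Y ≤ normalizer (Oc a : Set G) := fun y hy => Oc_normalized (mem_inf.1 hy).2
  have hn : centralizer ({a} : Set G) ≤ normalizer ((Oc a ⊔ Y : Subgroup G) : Set G) := by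
    intro g hg
    obtain ⟨k, hk, hc⟩ := hdec g hg
    rw [show g = k * (k⁻¹ * g) by group]
    refine mul_mem (le_normalizer (mem_sup_left hk)) (Cfsg.Lib.LFourType.mem_normalizer_sup
      (Oc_normalized (mul_mem (inv_mem (Oc_le a hk)) hg))
      (mem_normalizer_inf (Oc_normalized hc) (le_normalizer (mul_mem (inv_mem (Oc_le a hk)) hg))))
  exact le_sup_right.trans (le_Oc (sup_le (Oc_le a) inf_le_right) hn
    (odd_sup (odd_Oc a) ((odd_Oc f).of_dvd_nat (card_dvd_of_le inf_le_left)) hY))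

omit hza hv in
/-- `E` acts trivially on `X` modulo the core at `a` -/
def Triv (a : G) (X : Subgroup G) : Prop := ∀ x ∈ X, ∀ y ∈ C.E, x⁻¹ * (y * x * y⁻¹) ∈ Oc a

omit hza hv in
theorem E_le_nDl {B : Subgroup G} (hB : B ≤ C.E) : C.E ≤ normalizer (Dl B : Set G) :=
  (C.E_le_cent.trans (centralizer_le hB)).trans cent_le_normalizer_Dl

omit hza hv in
theorem E_le_nOc {a : G} (ha : a ∈ C.E) : C.E ≤ normalizer (Oc a : Set G) :=
  fun _ hy => Oc_normalized (C.E_le_cent_one ha hy)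

/-- **weak balance** -/
theorem triv_at {a : G} (ha : a ∈ C.E) (ha1 : a ≠ 1) {X : Subgroup G} (hXC : X ≤ centralizer ({a} : Set G))
    (ho : Odd (Nat.card X)) (hn : C.E ≤ normalizer (X : Set G)) {B : Subgroup G} (hB : B ≤ C.E)
    (hB4 : 4 ≤ Nat.card B) (hXB : X ≤ Dl B) : C.Triv a X := by
  intro x hx y hy
  by_cases haU : a ∈ C.U
  · exact C.le_Oc_U hza haU ha1 hXC ho (Or.inl hn) (mul_mem (inv_mem hx) ((mem_normalizer_iff.1 (hn hy) x).1 hx))
  obtain ⟨F, hFE, hF4, hdec⟩ := C.exists_fix hza hv ha haU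
  by_cases hBF : ∃ f ∈ B, f ∈ F ∧ f ≠ 1
  · obtain ⟨f, hfB, hfF, hf1⟩ := hBF
    have hXa : X ≤ Oc a := le_trans (le_inf (hXB.trans (Dl_le hfB hf1)) hXC) (inf_cent_le_Oc (hdec f hfF))
    exact hXa (mul_mem (inv_mem hx) ((mem_normalizer_iff.1 (hn hy) x).1 hx))
  push Not at hBF
  let φ : B × F → C.E := fun p => ⟨p.1 * p.2, mul_mem (hB p.1.2) (hFE p.2.2)⟩
  have hφ : Function.Injective φ := by
    intro p q h
    have h' : (p.1 : G) * p.2 = q.1 * q.2 := congrArg Subtype.val h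
    have h1 : (q.1 : G)⁻¹ * p.1 = q.2 * (p.2 : G)⁻¹ := by
      rw [eq_mul_inv_iff_mul_eq, mul_assoc, h', inv_mul_cancel_left]
    have h2 := hBF _ (mul_mem (inv_mem q.1.2) p.1.2) (h1 ▸ mul_mem q.2.2 (inv_mem p.2.2))
    have h3 : p.1 = q.1 := Subtype.ext (inv_mul_eq_one.1 h2).symm
    rw [h3] at h'
    exact Prod.ext h3 (Subtype.ext (mul_left_cancel h'))
  have hsurj : Function.Surjective φ := by
    refine (hφ.bijective_of_nat_card_le ?_).2
    rw [Nat.card_prod, C.card_E]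
    exact (Nat.mul_le_mul hB4 hF4)
  obtain ⟨⟨⟨b, hb⟩, ⟨f, hf⟩⟩, hbf⟩ := hsurj ⟨y, hy⟩
  have hbf' : b * f = y := congrArg Subtype.val hbf
  obtain ⟨k, hk, hk'⟩ := hdec f hf x (hXC hx)
  have hfa : f ∈ centralizer ({a} : Set G) := C.E_le_cent_one ha (hFE hf)
  have h1 : x⁻¹ * (f * x * f⁻¹) ∈ Oc a := by
    have hc : f * (k⁻¹ * x) = k⁻¹ * x * f := (mem_centralizer_singleton_iff.1 hk').symm
    have e1 : f * x * f⁻¹ = f * k * f⁻¹ * (k⁻¹ * x) := by
      calc f * x * f⁻¹ = f * k * f⁻¹ * (f * (k⁻¹ * x)) * f⁻¹ := by group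
        _ = f * k * f⁻¹ * (k⁻¹ * x) := by rw [hc]; group
    rw [e1, show x⁻¹ * (f * k * f⁻¹ * (k⁻¹ * x)) = x⁻¹ * (f * k * f⁻¹ * k⁻¹) * x⁻¹⁻¹ by group]
    exact (mem_normalizer_iff.1 (Oc_normalized (inv_mem (hXC hx))) _).1
      (mul_mem ((mem_normalizer_iff.1 (Oc_normalized hfa) k).1 hk) (inv_mem hk))
  have hxf : f * x * f⁻¹ ∈ X := (mem_normalizer_iff.1 (hn (hFE hf)) x).1 hx
  have hbc : b * (f * x * f⁻¹) * b⁻¹ = f * x * f⁻¹ := by
    rw [mem_centralizer_iff.1 (Dl_le_cent B (hXB hxf)) b hb, mul_inv_cancel_right]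
  rwa [← hbf', show b * f * x * (b * f)⁻¹ = b * (f * x * f⁻¹) * b⁻¹ by group, hbc]

theorem le_Dl_sup {H X : Subgroup G} (hH : H ≤ C.E) (hXC : X ≤ centralizer (H : Set G)) (ho : Odd (Nat.card X))
    (hn : C.E ≤ normalizer (X : Set G)) (ht : ∀ h ∈ H, h ≠ 1 → C.Triv h X) :
    X ≤ (X ⊓ Dl H) ⊔ (X ⊓ C.FA) := by
  intro x hx
  have hnN : C.E ≤ normalizer ((X ⊓ Dl H : Subgroup G) : Set G) := fun y hy =>
    mem_normalizer_inf (hn hy) (C.E_le_nDl hH hy)
  have hxN : x ∈ normalizer ((X ⊓ Dl H : Subgroup G) : Set G) :=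
    mem_normalizer_inf (le_normalizer hx) (cent_le_normalizer_Dl (hXC hx))
  have hsol : Group.IsSolvable C.E := Group.isSolvable_of_comm fun p q => Subtype.ext (C.E_comm p.2 q.2).eq
  have hcop : (Nat.card C.E).Coprime (Nat.card (X ⊓ Dl H : Subgroup G)) := by
    rw [C.card_E, show (16 : ℕ) = 2 ^ 4 from rfl]
    exact (Nat.coprime_two_left.2 (ho.of_dvd_nat (card_dvd_of_le inf_le_left))).pow_left 4
  obtain ⟨n, hn', hc⟩ := Cfsg.Lib.Coprime.exists_fixed_of_commutator_mem hnN hcop (Or.inl hsol) hxN (fun y hy => by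
    have h1 : x⁻¹ * (y * x * y⁻¹) ∈ X ⊓ Dl H := mem_inf.2 ⟨mul_mem (inv_mem hx) ((mem_normalizer_iff.1 (hn hy) x).1 hx),
      le_Dl (X := zpowers (x⁻¹ * (y * x * y⁻¹))) (fun h hh hh1 => zpowers_le.2 (ht h hh hh1 x hx y hy))
        (mem_zpowers _)⟩
    have := (mem_normalizer_iff.1 hxN _).1 h1
    rwa [show x * (x⁻¹ * (y * x * y⁻¹)) * x⁻¹ = y * x * y⁻¹ * x⁻¹ by group] at this)
  rw [show x = x * n * n⁻¹ by group]
  exact mul_mem (mem_sup_right (mem_inf.2 ⟨mul_mem hx hn'.1,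
    C.mem_FA_of_odd hza hv hc (Cfsg.Lib.LFourType.odd_orderOf ho (mul_mem hx hn'.1))⟩)) (mem_sup_left (inv_mem hn'))

theorem FA_le_Oc_U {u : G} (hu : u ∈ C.U) (hu1 : u ≠ 1) : C.FA ≤ Oc u :=
  C.le_Oc_U hza hu hu1 (C.FA_le.trans (centralizer_le (Set.singleton_subset_iff.2 (C.U_le_E hu)))) C.odd_FA
    (Or.inl fun _ hy => Cfsg.Lib.ZStarApps.mem_normalizer_of_maps fun _ hx =>
      C.conj_FA (le_normalizer hy) hx)

theorem FA_inf_Dl_le {H : Subgroup G} (hH : H ≤ C.E) (h8 : 8 ≤ Nat.card H) : C.FA ⊓ Dl H ≤ Dl C.E := by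
  refine le_Dl fun a ha ha1 x hx => ?_
  by_cases haU : a ∈ C.U
  · exact C.FA_le_Oc_U hza hv haU ha1 hx.1
  obtain ⟨F, hFE, hF4, hdec⟩ := C.exists_fix hza hv ha haU
  obtain ⟨f, hfH, hfF, hf1⟩ : ∃ f ∈ H, f ∈ F ∧ f ≠ 1 := by
    by_contra hcon
    push Not at hcon
    have hinj : Function.Injective (fun p : H × F => (⟨p.1 * p.2, mul_mem (hH p.1.2) (hFE p.2.2)⟩ : C.E)) := by
      intro p q h
      have h' : (p.1 : G) * p.2 = q.1 * q.2 := congrArg Subtype.val h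
      have h1 : (q.1 : G)⁻¹ * p.1 = q.2 * (p.2 : G)⁻¹ := by
        rw [eq_mul_inv_iff_mul_eq, mul_assoc, h', inv_mul_cancel_left]
      have h2 := hcon _ (mul_mem (inv_mem q.1.2) p.1.2) (h1 ▸ mul_mem q.2.2 (inv_mem p.2.2))
      have h3 : p.1 = q.1 := Subtype.ext (inv_mul_eq_one.1 h2).symm
      rw [h3] at h'
      exact Prod.ext h3 (Subtype.ext (mul_left_cancel h'))
    have := Nat.card_le_card_of_injective _ hinj
    rw [Nat.card_prod, C.card_E] at this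
    nlinarith
  exact inf_cent_le_Oc (hdec f hfF)
    ⟨Dl_le hfH hf1 hx.2, mem_centralizer_singleton_iff.2 (C.FA_comm hx.1 ha).symm.eq⟩

end Ctx

end Cfsg.Lib.JTwoSimple
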